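import Cfsg.Agent.Lib.Orth.Frame.Fill

/-!
# Overgroups of the monomial part of `Ω` in five dimensions

* `eq_squares_five` : if the groups on three coordinates are monomial, a vector without zero
  coordinates whose reflection lies in `± K` has coordinates with equal squares
* `omega_le_of_nonmono_five` : an overgroup with a non-monomial element is `Ω`
-/

set_option autoImplicit false
set_option linter.unusedSectionVars false
set_option linter.unusedSimpArgs false

namespace Cfsg.Agent.Orth.Frame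

open Cfsg Matrix Module Cfsg.Agent.Orth
open QuadraticMap (polar)

variable {ι : Type} [Fintype ι] [DecidableEq ι] {F : Type*} [Field F] [Fintype F]

local notation "Grp" => IsoGrp (sq (ι := ι) (F := F))

variable {K : Subgroup (IsoGrp (sq (ι := ι) (F := F)))}

/-- `N` acts as `-1` and lies in `K` up to a sign change. -/
structure NegIso (K : Subgroup (IsoGrp (sq (ι := ι) (F := F))))
    (N : IsoGrp (sq (ι := ι) (F := F))) : Prop where
  ap_eq : ∀ x, ap N x = -x
  sgn_mem : ∀ m, N * sgn m ∈ K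

variable {N : IsoGrp (sq (ι := ι) (F := F))}

theorem NegIso.comm (hN : NegIso K N) (g : Grp) : Commute N g :=
  ext_ap fun x => by rw [ap_mul, ap_mul, hN.ap_eq, hN.ap_eq, map_neg]

theorem NegIso.mul_self (hN : NegIso K N) : N * N = 1 :=
  ext_ap fun x => by rw [ap_mul, hN.ap_eq, hN.ap_eq, neg_neg, ap_one]

theorem NegIso.inv_eq (hN : NegIso K N) : N⁻¹ = N := inv_eq_of_mul_eq_one_right hN.mul_self

/-- The group `± K`. -/
def pm (hN : NegIso K N) : Subgroup (IsoGrp (sq (ι := ι) (F := F))) where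
  carrier := {g | g ∈ K ∨ g * N ∈ K}
  one_mem' := .inl K.one_mem
  mul_mem' {g h} hg hh := by
    rcases hg with h1 | h1 <;> rcases hh with h2 | h2
    · exact .inl (K.mul_mem h1 h2)
    · exact .inr (by rw [mul_assoc]; exact K.mul_mem h1 h2)
    · exact .inr (by rw [mul_assoc, ← (hN.comm h).eq, ← mul_assoc]; exact K.mul_mem h1 h2)
    · left
      have := K.mul_mem h1 h2
      rwa [mul_assoc, ← mul_assoc N, (hN.comm h).eq, mul_assoc h, hN.mul_self, mul_one] at this
  inv_mem' {g} hg := by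
    refine hg.imp K.inv_mem fun h => ?_
    have := K.inv_mem h
    rwa [_root_.mul_inv_rev, hN.inv_eq, ((hN.comm g).inv_right).eq] at this

theorem exists_negIso (hK : Over K) (hι : Fintype.card ι = 5) : ∃ N, NegIso K N := by
  obtain ⟨e⟩ : Nonempty (Fin 5 ≃ ι) := ⟨((Fintype.equivFin ι).trans (finCongr hι)).symm⟩
  refine ⟨sgn (e 0) * sgn (e 1) * (sgn (e 2) * sgn (e 3)) * sgn (e 4), fun x => ?_,
    fun m => (hK.sgn_mem_iff _ m (e 4)).2 ?_⟩
  · funext j
    obtain ⟨k, rfl⟩ := e.surjective j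
    simp only [ap_mul, sgn_coord, e.injective.eq_iff, Pi.neg_apply]
    fin_cases k <;> simp
  · rw [mul_assoc, sgn_mul_self, mul_one]
    exact K.mul_mem (hK.sgn_mul_sgn _ _) (hK.sgn_mul_sgn _ _)

theorem InR.mem_pm (hN : NegIso K N) [Nonempty ι] {v : ι → F} (h : InR K v) :
    refl sq v ∈ pm hN := by
  obtain ⟨m⟩ := ‹Nonempty ι›
  refine .inr ?_
  have := K.mul_mem (h m) (K.inv_mem (hN.sgn_mem m))
  rwa [_root_.mul_inv_rev, hN.inv_eq, sgn_inv, mul_assoc, ← mul_assoc (Frame.sgn m), sgn_mul_self,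
    one_mul] at this

theorem inR_of_pm (hK : Over K) (hN : NegIso K N) {v : ι → F} (hv : sq v ≠ 0)
    (h : refl sq v ∈ pm hN) : InR K v := by
  rcases h with h | h
  · have := ((mem_omega_iff (good_sq hK.two) _).1 (hK.le h)).1
    rw [dick_refl (sq_nd hK.two) hv] at this
    omega
  · intro m
    have := K.mul_mem h (hN.sgn_mem m)
    rwa [mul_assoc, ← mul_assoc N, hN.mul_self, one_mul] at this

theorem InR.ap_pm (hK : Over K) (hN : NegIso K N) [Nonempty ι] {g : Grp} (hg : g ∈ pm hN)
    {v : ι → F} (hv : sq v ≠ 0) (h : InR K v) : InR K (ap g v) := by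
  refine inR_of_pm hK hN (by rwa [Q_ap]) ?_
  rw [← conj_refl]
  exact mul_mem (mul_mem hg (h.mem_pm hN)) (inv_mem hg)

theorem pm_inner (hN : NegIso K N) {T : Finset ι} {g : Grp} (hg : g ∈ pm hN)
    (hfix : ∀ m, m ∉ T → ap g (unitVec m) = unitVec m) : g ∈ inner K T := by
  refine ⟨hfix, hg.imp id fun h m _ => ?_⟩
  have := K.mul_mem h (hN.sgn_mem m)
  rwa [mul_assoc, ← mul_assoc N, hN.mul_self, one_mul] at this

/-- A unit vector of at most three non-zero coordinates with reflection in `± K` has monomial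
reflection, when the groups on three coordinates are monomial. -/
theorem small_mono (hK : Over K) (hN : NegIso K N) [Nonempty ι]
    (hsmall : ∀ T : Finset ι, T.card = 3 → AllMono K T) {T : Finset ι} (hT : T.card = 3)
    {v : ι → F} (hv : v ⬝ᵥ v = 1) (hR : InR K v) (hsupp : ∀ m, m ∉ T → v m = 0) :
    (∀ a b c, v a ≠ 0 → v b ≠ 0 → v c ≠ 0 → a = b ∨ a = c ∨ b = c) ∧
      ∀ a b, v a ≠ 0 → v b ≠ 0 → v a ^ 2 = v b ^ 2 := by
  refine refl_mono (by rw [hv]; exact one_ne_zero) (hsmall T hT _ (pm_inner hN (hR.mem_pm hN)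
    fun m hm => ?_)) hK.two
  rw [refl_ap_unit hv, dot_unitVec, hsupp m hm, mul_zero, zero_smul, sub_zero]

/-- A vector without zero coordinates has equal squares of coordinates. -/
theorem eq_squares_five (hK : Over K) (hι : Fintype.card ι = 5) (hN : NegIso K N)
    (hsmall : ∀ T : Finset ι, T.card = 3 → AllMono K T) {f : ι → F} (hf : f ⬝ᵥ f = 1)
    (hfR : InR K f) (hfull : ∀ i, f i ≠ 0) {i j : ι} (hij : i ≠ j) : f i ^ 2 = f j ^ 2 := by
  classical
  have h2 := hK.two
  have : Nonempty ι := ⟨i⟩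
  have hQf : sq f ≠ 0 := by rw [sq_apply, hf]; exact one_ne_zero
  obtain ⟨d, hd⟩ : ∃ d : Grp, d = sgn i * sgn j := ⟨_, rfl⟩
  have hdd : d * d = 1 := by
    rw [hd, mul_assoc, ← mul_assoc (sgn j) (sgn i), (sgn_comm j i).eq, mul_assoc (sgn i),
      sgn_mul_self, mul_one, sgn_mul_self]
  obtain ⟨z, hz1, hzz, hzd, hzf, hzH⟩ := exists_central hdd (refl_mul_self sq f)
    (even_order_of_dick h2 (by
      rw [hd, dick_mul (good_sq h2), dick_mul (good_sq h2), dick_sgn h2, dick_sgn h2,
        dick_refl (sq_nd h2) hQf]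
      rfl))
  have hzG : z ∈ pm hN :=
    hzH _ (mul_mem (hd ▸ .inl (hK.sgn_mul_sgn i j)) (hfR.mem_pm hN))
  obtain ⟨R, hR⟩ : ∃ R : Finset ι, R = (Finset.univ.erase i).erase j := ⟨_, rfl⟩
  have hmR : ∀ {t}, t ∈ R ↔ t ≠ j ∧ t ≠ i := fun {t} => by simp [hR]
  have hRc : R.card = 3 := by
    rw [hR, Finset.card_erase_of_mem (by simp [hij.symm]),
      Finset.card_erase_of_mem (Finset.mem_univ i), Finset.card_univ, hι]
  have hd_coord : ∀ (y : ι → F) t, ap d y t = if t = i ∨ t = j then -y t else y t := fun y t => by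
    rw [hd, ap_mul, sgn_coord, sgn_coord]
    rcases eq_or_ne t i with rfl | h1
    · simp [hij]
    · simp [h1]
  have hcross : ∀ m ∈ R, ∀ t, t ∉ R → ap z (unitVec m) t = 0 := by
    intro m hm t ht
    obtain ⟨hmj, hmi⟩ := hmR.1 hm
    have ht' : t = i ∨ t = j := by
      by_contra h; push Not at h; exact ht (hmR.2 ⟨h.2, h.1⟩)
    have h1 : ap d (ap z (unitVec m)) = ap z (unitVec m) := by
      rw [← ap_mul, ← hzd.eq, ap_mul]
      congr 1
      funext s
      rw [hd_coord]
      rcases eq_or_ne s m with rfl | hs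
      · simp [hmi, hmj]
      · simp [unitVec_ne hs]
    have h3 := congrFun h1 t
    rw [hd_coord, if_pos ht'] at h3
    exact (mul_eq_zero.1 (show 2 * ap z (unitVec m) t = 0 by linear_combination -h3)).resolve_left h2
  -- the fixed vectors
  have hrel : ∀ m ∈ R, ∀ t ∈ R, f m * ap z (unitVec m) t =
      f t * (ap z (unitVec m) m - 1) + f m * (unitVec m : ι → F) t := by
    intro m hm t ht
    obtain ⟨y, hy⟩ : ∃ y : ι → F, y = f m • unitVec t - f t • unitVec m := ⟨_, rfl⟩
    have hyz : ap z y = y := by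
      refine hzH (fixVec y) (?_ : ap (d * refl sq f) y = y)
      have hfy : f ⬝ᵥ y = 0 := by
        simp [hy, dotProduct_sub, dotProduct_smul, dot_unitVec]; ring
      rw [ap_mul, refl_ap_unit hf, hfy, mul_zero, zero_smul, sub_zero]
      funext s
      rw [hd_coord]
      split_ifs with hs
      · have hst : s ≠ t := fun e => by
          subst e; obtain ⟨h1, h2⟩ := hmR.1 ht; exact hs.elim h2 h1
        have hsm : s ≠ m := fun e => by
          subst e; obtain ⟨h1, h2⟩ := hmR.1 hm; exact hs.elim h2 h1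
        simp [hy, unitVec_ne hst, unitVec_ne hsm]
      · rfl
    have h1 := dot_ap h2 z (unitVec m) y
    rw [hyz, unitVec_dot, hy, dotProduct_sub, dotProduct_smul, dotProduct_smul, dot_unitVec,
      dot_unitVec, Pi.sub_apply, Pi.smul_apply, Pi.smul_apply] at h1
    rcases eq_or_ne t m with rfl | htm
    · simp [unitVec_same] at h1 ⊢; ring
    · simp only [smul_eq_mul, unitVec_same, unitVec_ne htm, unitVec_ne htm.symm] at h1 ⊢
      linear_combination h1
  have hδ : ∀ m ∈ R, ∃ c : F, ∀ t ∈ R, ap z (unitVec m) t = (unitVec m : ι → F) t + c * f t :=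
    fun m hm => ⟨(ap z (unitVec m) m - 1) / f m, fun t ht => by
      have := hrel m hm t ht
      field_simp [hfull m]
      linear_combination this⟩
  obtain ⟨A, hA⟩ : ∃ A : F, A = ∑ t ∈ R, f t ^ 2 := ⟨_, rfl⟩
  have hsum : ∀ m ∈ R, ∀ c : F, (∀ t ∈ R, ap z (unitVec m) t = (unitVec m : ι → F) t + c * f t) →
      ap z (unitVec m) ⬝ᵥ f = f m + c * A ∧ 2 * c * f m + c ^ 2 * A = 0 := by
    intro m hm c hc
    have e0 : ∀ w : ι → F, ap z (unitVec m) ⬝ᵥ w = w m + c * ∑ t ∈ R, f t * w t := by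
      intro w
      rw [dotProduct, ← Finset.sum_subset (Finset.subset_univ R) (fun t _ ht => by
        rw [hcross m hm t ht, zero_mul]), Finset.sum_congr rfl fun t ht => by
          rw [hc t ht, add_mul, mul_assoc], Finset.sum_add_distrib, ← Finset.mul_sum]
      congr 1
      rw [Finset.sum_eq_single_of_mem m hm fun t _ htm => by rw [unitVec_ne htm, zero_mul],
        unitVec_same, one_mul]
    have e1 : ap z (unitVec m) ⬝ᵥ f = f m + c * A := by
      rw [e0, hA]; congr 2; exact Finset.sum_congr rfl fun t _ => by ring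
    refine ⟨e1, ?_⟩
    have e2 := e0 (ap z (unitVec m))
    rw [ap_row_self, hc m hm, unitVec_same, Finset.sum_congr rfl fun t ht => by
      rw [hc t ht, mul_add], Finset.sum_add_distrib,
      Finset.sum_eq_single_of_mem m hm fun t _ htm => by rw [unitVec_ne htm, mul_zero],
      unitVec_same] at e2
    rw [show ∑ t ∈ R, f t * (c * f t) = c * A by
      rw [hA, Finset.mul_sum]; exact Finset.sum_congr rfl fun t _ => by ring] at e2
    linear_combination -e2
  have hzdot : ∀ x, ap z x ⬝ᵥ ap z f = x ⬝ᵥ f := fun x => dot_ap h2 z x f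
  rcases eq_smul_of_commute_refl h2 hQf hzf with hzf' | hzf'
  · -- `z` fixes `f`, hence all the other coordinates
    have hfix : ∀ m ∈ R, ap z (unitVec m) = unitVec m := by
      intro m hm
      obtain ⟨c, hc⟩ := hδ m hm
      obtain ⟨e1, e2⟩ := hsum m hm c hc
      have := hzdot (unitVec m)
      rw [hzf', e1, unitVec_dot, add_eq_left] at this
      have hc0 : c = 0 := (mul_eq_zero.1 (show c * (2 * f m) = 0 by
        linear_combination e2 - c * this)).resolve_right (mul_ne_zero h2 (hfull m))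
      funext t
      by_cases ht : t ∈ R
      · rw [hc t ht, hc0, zero_mul, add_zero]
      · rw [hcross m hm t ht, unitVec_ne fun e : t = m => ht (e ▸ hm)]
    obtain ⟨k, hk⟩ := Finset.card_pos.1 (show 0 < R.card by omega)
    obtain ⟨hkj, hki⟩ := hmR.1 hk
    have hmono : Mono z := hsmall {i, j, k} (Finset.card_eq_three.2
      ⟨i, j, k, hij, Ne.symm hki, Ne.symm hkj, rfl⟩) z (pm_inner hN hzG fun m hm => hfix m (by
        simp at hm; exact hmR.2 ⟨hm.2.1, hm.1⟩))
    have hpos : ∀ a, a ∉ R → ap z (unitVec a) = unitVec a ∨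
        ∃ b, b ∉ R ∧ b ≠ a ∧ f a ^ 2 = f b ^ 2 := by
      intro a ha
      obtain ⟨b, c, hb⟩ := hmono a
      have h1 := hzdot (unitVec a)
      rw [hzf', hb, smul_dotProduct, unitVec_dot, unitVec_dot, smul_eq_mul] at h1
      have hc := ap_row_self z a
      rw [hb, smul_dotProduct, dotProduct_smul, dot_unitVec, unitVec_same] at hc
      simp only [smul_eq_mul, mul_one] at hc
      have hbR : b ∉ R := fun hbR => by
        have e : ap z (unitVec a) = ap z (c • unitVec b) := by rw [hb, map_smul, hfix b hbR]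
        exact ha (unitVec_inj (ap_inj z e) ▸ hbR)
      rcases eq_or_ne b a with rfl | hba
      · left
        rw [hb, mul_right_cancel₀ (hfull b) (h1.trans (one_mul _).symm), one_smul]
      · exact .inr ⟨b, hbR, hba, by rw [← h1]; linear_combination f b ^ 2 * hc⟩
    have htwo : ∀ b, b ∉ R → b = i ∨ b = j := fun b hb => by
      by_contra h; push Not at h; exact hb (hmR.2 ⟨h.2, h.1⟩)
    rcases hpos i (by simp [hmR]) with h1 | ⟨b, hb, hbi, h1⟩
    · rcases hpos j (by simp [hmR]) with h3 | ⟨b, hb, hbj, h3⟩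
      · refine absurd (ext_unitVec fun m => ?_) hz1
        rw [ap_one]
        by_cases hm : m ∈ R
        · exact hfix m hm
        · rcases htwo m hm with rfl | rfl <;> assumption
      · obtain rfl := (htwo b hb).resolve_right hbj
        exact h3.symm
    · obtain rfl := (htwo b hb).resolve_left hbi
      exact h1
  · -- `z` negates `f`
    exfalso
    have hone : ∀ m ∈ R, A = 2 * f m ^ 2 ∧ A ≠ 0 := by
      intro m hm
      obtain ⟨c, hc⟩ := hδ m hm
      obtain ⟨e1, -⟩ := hsum m hm c hc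
      have hcA := hzdot (unitVec m)
      rw [hzf', dotProduct_neg, e1, unitVec_dot] at hcA
      have hc0 : c ≠ 0 := fun e => mul_ne_zero h2 (hfull m) (by
        rw [e] at hcA; linear_combination -hcA)
      have hA0 : A ≠ 0 := fun e => mul_ne_zero h2 (hfull m) (by
        rw [e] at hcA; linear_combination -hcA)
      refine ⟨?_, hA0⟩
      obtain ⟨h3, -⟩ := small_mono hK hN hsmall hRc (ap_row_self z m)
        ((inR_unitVec hK m).ap_pm hK hN hzG (by rw [sq_unitVec]; exact one_ne_zero))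
        (fun t ht => hcross m hm t ht)
      have hne : ∀ t ∈ R, t ≠ m → ap z (unitVec m) t ≠ 0 := fun t ht htm => by
        rw [hc t ht, unitVec_ne htm, zero_add]; exact mul_ne_zero hc0 (hfull t)
      obtain ⟨a, b, hab, he⟩ := Finset.card_eq_two.1 (show (R.erase m).card = 2 by
        rw [Finset.card_erase_of_mem hm, hRc])
      obtain ⟨ham, haR⟩ := Finset.mem_erase.1 (show a ∈ R.erase m by simp [he])
      obtain ⟨hbm, hbR⟩ := Finset.mem_erase.1 (show b ∈ R.erase m by simp [he])
      have hm0 : 1 + c * f m = 0 := by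
        by_contra h
        rcases h3 a b m (hne a haR ham) (hne b hbR hbm) (by rw [hc m hm, unitVec_same]; exact h) with
          h | h | h
        · exact hab h
        · exact ham h
        · exact hbm h
      linear_combination A * hm0 + f m * hcA
    obtain ⟨m, hm⟩ := Finset.card_pos.1 (show 0 < R.card by omega)
    refine (hone m hm).2 ?_
    have hs : ∑ t ∈ R, (2 * f t ^ 2) = ∑ _t ∈ R, A :=
      Finset.sum_congr rfl fun t ht => (hone t ht).1.symm
    rw [← Finset.mul_sum, ← hA, Finset.sum_const, hRc, nsmul_eq_mul] at hs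
    push_cast at hs
    linear_combination -hs

/-- No unit vector with four non-zero coordinates. -/
theorem no_support_four (hK : Over K) (hι : Fintype.card ι = 5) (hN : NegIso K N)
    (hsmall : ∀ T : Finset ι, T.card = 3 → AllMono K T) (h3 : (3 : F) ≠ 0) {v : ι → F}
    (hv : v ⬝ᵥ v = 1) (hR : InR K v) {o : ι} (ho : v o = 0) (hfull : ∀ t, t ≠ o → v t ≠ 0) :
    False := by
  classical
  have h2 := hK.two
  have : Nonempty ι := ⟨o⟩
  -- four coordinates besides `o`
  have hfour : ∀ x y : ι, x ≠ y → x ≠ o → y ≠ o → ∀ t, t ≠ o → t ≠ x → t ≠ y →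
      ∃ a, a ≠ o ∧ a ≠ x ∧ a ≠ y ∧ a ≠ t ∧ ∀ s, s = o ∨ s = x ∨ s = y ∨ s = t ∨ s = a := by
    intro x y hxy hxo hyo t hto htx hty
    have hc : ({o, x, y, t} : Finset ι).card = 4 := by
      simp [Ne.symm hxo, Ne.symm hyo, Ne.symm hto, hxy, Ne.symm htx, Ne.symm hty]
    obtain ⟨a, ha⟩ := Finset.card_eq_one.1 (show ({o, x, y, t} : Finset ι)ᶜ.card = 1 by
      rw [Finset.card_compl, hc, hι])
    have ha' : a ∈ ({o, x, y, t} : Finset ι)ᶜ := by simp [ha]
    simp at ha'
    refine ⟨a, ha'.1, ha'.2.1, ha'.2.2.1, ha'.2.2.2, fun s => ?_⟩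
    by_contra! hs
    have : s ∈ ({o, x, y, t} : Finset ι)ᶜ := by simp [hs]
    rw [ha, Finset.mem_singleton] at this
    exact hs.2.2.2.2 this
  -- the reflection of `v` in a translate
  have key : ∀ x y t a : ι, x ≠ y → x ≠ o → y ≠ o → t ≠ o → t ≠ x → t ≠ y → a ≠ o → a ≠ x → a ≠ y →
      a ≠ t → (∀ s, s = o ∨ s = x ∨ s = y ∨ s = t ∨ s = a) → ∀ μ : F, μ = 2 * v t ^ 2 →
      ∃ v' : ι → F, v' ⬝ᵥ v' = 1 ∧ InR K v' ∧ v' a = v a ∧ v' o = -(μ * v a) ∧
        v' t = (1 - μ) * v t ∧ v' x = v x - μ * v y ∧ v' y = v y + μ * v x := by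
    intro x y t a hxy hxo hyo hto htx hty hao hax hay hat hcov μ hμ
    obtain ⟨π, hπ⟩ : ∃ π : Equiv.Perm ι, π = Equiv.swap a o * Equiv.swap x y := ⟨_, rfl⟩
    have hπK : permIso π ∈ K :=
      hπ ▸ hK.swap_mem hao hax hay (Ne.symm hxo) (Ne.symm hyo) hxy
    obtain ⟨w, hw⟩ : ∃ w : ι → F, w = ap (sgn y) (ap (permIso π) v) := ⟨_, rfl⟩
    have hwR : InR K w := hw ▸ (hR.perm hπK).sgn hK y
    have hpi : ∀ s, ap (permIso π : Grp) v (π s) = v s := permIso_coord π v
    have hπa : π a = o := by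
      rw [hπ, Equiv.Perm.mul_apply, Equiv.swap_apply_of_ne_of_ne hax hay, Equiv.swap_apply_left]
    have hπo : π o = a := by
      rw [hπ, Equiv.Perm.mul_apply, Equiv.swap_apply_of_ne_of_ne (Ne.symm hxo) (Ne.symm hyo),
        Equiv.swap_apply_right]
    have hπx : π x = y := by
      rw [hπ, Equiv.Perm.mul_apply, Equiv.swap_apply_left,
        Equiv.swap_apply_of_ne_of_ne (Ne.symm hay) hyo]
    have hπy : π y = x := by
      rw [hπ, Equiv.Perm.mul_apply, Equiv.swap_apply_right,
        Equiv.swap_apply_of_ne_of_ne (Ne.symm hax) hxo]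
    have hπt : π t = t := by
      rw [hπ, Equiv.Perm.mul_apply, Equiv.swap_apply_of_ne_of_ne htx hty,
        Equiv.swap_apply_of_ne_of_ne (Ne.symm hat) hto]
    have wo : w o = v a := by rw [hw, sgn_coord, if_neg (Ne.symm hyo), ← hπa, hpi]
    have wa : w a = 0 := by rw [hw, sgn_coord, if_neg hay, ← hπo, hpi, ho]
    have wy : w y = -v x := by rw [hw, sgn_coord, if_pos rfl, ← hπx, hpi]
    have wx : w x = v y := by rw [hw, sgn_coord, if_neg hxy, ← hπy, hpi]
    have wt : w t = v t := by rw [hw, sgn_coord, if_neg hty]; conv_lhs => rw [← hπt, hpi]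
    have hww : w ⬝ᵥ w = 1 := by rw [hw, dot_ap_self, dot_ap_self, hv]
    have hwv : w ⬝ᵥ v = v t ^ 2 := by
      have hcov' : (Finset.univ : Finset ι) = {o, x, y, t, a} := by
        ext s; simpa using hcov s
      rw [dotProduct, hcov', Finset.sum_insert (by simp [Ne.symm hxo, Ne.symm hyo, Ne.symm hto,
        Ne.symm hao]), Finset.sum_insert (by simp [hxy, Ne.symm htx, Ne.symm hax]),
        Finset.sum_insert (by simp [Ne.symm hty, Ne.symm hay]), Finset.sum_pair (Ne.symm hat),
        wo, wx, wy, wt, wa, ho]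
      ring
    refine ⟨ap (refl sq w) v, by rw [dot_ap_self, hv], inR_refl hwR hR, ?_, ?_, ?_, ?_, ?_⟩ <;>
      simp only [refl_ap_unit hww, hwv, Pi.sub_apply, Pi.smul_apply, smul_eq_mul, ← hμ, wo, wa, wx,
        wy, wt, ho] <;> ring
  have hno3 : ∀ {u : ι → F} {a b c : ι}, u ⬝ᵥ u = 1 → InR K u → a ≠ b → a ≠ c → b ≠ c →
      (∀ m, m ≠ a → m ≠ b → m ≠ c → u m = 0) → u a ≠ 0 → u b ≠ 0 → u c ≠ 0 → False := by
    intro u a b c hu huR hab hac hbc hout ha hb hc
    rcases (small_mono hK hN hsmall (T := {a, b, c})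
      (Finset.card_eq_three.2 ⟨a, b, c, hab, hac, hbc, rfl⟩) hu huR (fun m hm => by
        simp at hm; exact hout m hm.1 hm.2.1 hm.2.2)).1 a b c ha hb hc with h | h | h <;>
      contradiction
  -- every square is `± 1/2`
  have hμ1 : ∀ t, t ≠ o → (2 * v t ^ 2) ^ 2 = 1 := by
    intro t hto
    obtain ⟨x, hx⟩ := Finset.card_pos.1 (show 0 < ({o, t} : Finset ι)ᶜ.card by
      rw [Finset.card_compl, Finset.card_pair (Ne.symm hto), hι]; norm_num)
    obtain ⟨y, hy⟩ := Finset.card_pos.1 (show 0 < ({o, t, x} : Finset ι)ᶜ.card by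
      have := Finset.card_le_three (a := o) (b := t) (c := x)
      rw [Finset.card_compl]; omega)
    simp at hx hy
    obtain ⟨hxo, hxt⟩ := hx
    obtain ⟨hyo, hyt, hyx⟩ := hy
    obtain ⟨a, hao, hax, hay, hat, hcov⟩ :=
      hfour x y (Ne.symm hyx) hxo hyo t hto (Ne.symm hxt) (Ne.symm hyt)
    obtain ⟨μ, hμ⟩ : ∃ μ, μ = 2 * v t ^ 2 := ⟨_, rfl⟩
    rw [← hμ]
    by_contra hμs
    have hμ0 : μ ≠ 0 := hμ ▸ mul_ne_zero h2 (pow_ne_zero 2 (hfull t hto))
    have h1μ : 1 - μ ≠ 0 := fun e => hμs (by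
      rw [show μ = 1 by linear_combination -e]; norm_num)
    have main : ∀ x y : ι, x ≠ y → x ≠ o → y ≠ o → t ≠ x → t ≠ y → a ≠ x → a ≠ y →
        (∀ s, s = o ∨ s = x ∨ s = y ∨ s = t ∨ s = a) →
        v x - μ * v y ≠ 0 → v y + μ * v x ≠ 0 → False := by
      intro x y hxy hxo hyo htx hty hax hay hcov hx0 hy0
      obtain ⟨v', hvv, hvR, va, vo, vt, vx, vy⟩ :=
        key x y t a hxy hxo hyo hto htx hty hao hax hay hat hcov μ hμ
      have hall : ∀ s, v' s ≠ 0 := fun s => by
        rcases hcov s with e | e | e | e | e <;> rw [e]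
        · rw [vo]; exact neg_ne_zero.2 (mul_ne_zero hμ0 (hfull a hao))
        · rwa [vx]
        · rwa [vy]
        · rw [vt]; exact mul_ne_zero h1μ (hfull t hto)
        · rw [va]; exact hfull a hao
      have h := eq_squares_five hK hι hN hsmall hvv hvR hall hao
      rw [va, vo, neg_sq, mul_pow] at h
      exact hμs (mul_right_cancel₀ (pow_ne_zero 2 (hfull a hao)) (by linear_combination -h))
    have hcov' : ∀ s, s = o ∨ s = y ∨ s = x ∨ s = t ∨ s = a := fun s => by
      have := hcov s; tauto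
    by_cases hA : v x - μ * v y = 0 ∨ v y + μ * v x = 0
    · refine main y x hyx hyo hxo (Ne.symm hyt) (Ne.symm hxt) hay hax hcov' ?_ ?_
      · rcases hA with e | e
        · intro h
          exact hfull y hyo ((mul_eq_zero.1 (show (1 - μ ^ 2) * v y = 0 by
            linear_combination h + μ * e)).resolve_left fun e' => hμs (by linear_combination -e'))
        · intro h
          exact hfull y hyo ((mul_eq_zero.1 (show 2 * v y = 0 by
            linear_combination h + e)).resolve_left h2)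
      · rcases hA with e | e
        · intro h
          exact hfull x hxo ((mul_eq_zero.1 (show 2 * v x = 0 by
            linear_combination h + e)).resolve_left h2)
        · intro h
          exact hfull x hxo ((mul_eq_zero.1 (show (1 - μ ^ 2) * v x = 0 by
            linear_combination h - μ * e)).resolve_left fun e' => hμs (by linear_combination -e'))
    · push Not at hA
      exact main x y (Ne.symm hyx) hxo hyo (Ne.symm hxt) (Ne.symm hyt) hax hay hcov hA.1 hA.2
  -- two equal squares besides one equal to `1/2`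
  obtain ⟨t, hto, ht⟩ : ∃ t, t ≠ o ∧ 2 * v t ^ 2 = 1 := by
    by_contra! hall
    have hm : ∀ s ∈ (Finset.univ.erase o), 2 * (v s * v s) = -1 := fun s hs => by
      rw [← pow_two]
      exact ((sq_eq_one_iff.1 (hμ1 s (Finset.ne_of_mem_erase hs))).resolve_left
        (hall s (Finset.ne_of_mem_erase hs)))
    have h := hv
    rw [dotProduct, ← Finset.add_sum_erase _ _ (Finset.mem_univ o), ho, mul_zero, zero_add] at h
    have h' : 2 * (1 : F) = -4 := by
      rw [← h, Finset.mul_sum, Finset.sum_congr rfl hm, Finset.sum_const,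
        Finset.card_erase_of_mem (Finset.mem_univ o), Finset.card_univ, hι]
      simp
    exact h3 ((mul_eq_zero.1 (show 2 * (3 : F) = 0 by linear_combination h')).resolve_left h2)
  obtain ⟨x, y, hxy, hxo, hyo, hxt, hyt, hxy2⟩ : ∃ x y, x ≠ y ∧ x ≠ o ∧ y ≠ o ∧ x ≠ t ∧ y ≠ t ∧
      v x ^ 2 = v y ^ 2 := by
    obtain ⟨a, b, c, hab, hac, hbc, he⟩ := Finset.card_eq_three.1
      (show ({o, t} : Finset ι)ᶜ.card = 3 by
        rw [Finset.card_compl, Finset.card_pair (Ne.symm hto), hι])
    have hmem : ∀ s ∈ ({a, b, c} : Finset ι), s ≠ o ∧ s ≠ t := fun s hs => by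
      rw [← he] at hs; simpa using hs
    obtain ⟨ha1, ha2⟩ := hmem a (by simp)
    obtain ⟨hb1, hb2⟩ := hmem b (by simp)
    obtain ⟨hc1, hc2⟩ := hmem c (by simp)
    rcases sq_eq_one_iff.1 (hμ1 a ha1) with ea | ea <;>
      rcases sq_eq_one_iff.1 (hμ1 b hb1) with eb | eb <;>
      rcases sq_eq_one_iff.1 (hμ1 c hc1) with ec | ec
    all_goals first
      | exact ⟨a, b, hab, ha1, hb1, ha2, hb2, mul_left_cancel₀ h2 (ea.trans eb.symm)⟩
      | exact ⟨a, c, hac, ha1, hc1, ha2, hc2, mul_left_cancel₀ h2 (ea.trans ec.symm)⟩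
      | exact ⟨b, c, hbc, hb1, hc1, hb2, hc2, mul_left_cancel₀ h2 (eb.trans ec.symm)⟩
  obtain ⟨a, hao, hax, hay, hat, hcov⟩ := hfour x y hxy hxo hyo t hto (Ne.symm hxt) (Ne.symm hyt)
  obtain ⟨v', hvv, hvR, va, vo, vt, vx, vy⟩ := key x y t a hxy hxo hyo hto (Ne.symm hxt)
    (Ne.symm hyt) hao hax hay hat hcov 1 ht.symm
  rw [sub_self, zero_mul] at vt
  rw [one_mul] at vo vx vy
  have hvo : v' o ≠ 0 := by rw [vo]; exact neg_ne_zero.2 (hfull a hao)
  have hva : v' a ≠ 0 := va ▸ hfull a hao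
  rcases sq_eq_sq_iff_eq_or_eq_neg.1 hxy2 with e | e
  · refine hno3 hvv hvR (a := a) (b := o) (c := y) hao hay (Ne.symm hyo) (fun m h1 h2' h3' => ?_)
      hva hvo ?_
    · rcases hcov m with rfl | rfl | rfl | rfl | rfl <;>
        first | contradiction | exact vt | (rw [vx, e, sub_self])
    · rw [vy, e, ← two_mul]; exact mul_ne_zero h2 (hfull y hyo)
  · refine hno3 hvv hvR (a := a) (b := o) (c := x) hao hax (Ne.symm hxo) (fun m h1 h2' h3' => ?_)
      hva hvo ?_
    · rcases hcov m with rfl | rfl | rfl | rfl | rfl <;>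
        first | contradiction | exact vt | (rw [vy, e, add_neg_cancel])
    · rw [vx, e, show -v y - v y = -(2 * v y) by ring]
      exact neg_ne_zero.2 (mul_ne_zero h2 (hfull y hyo))

/-- No unit vector without zero coordinates. -/
theorem no_support_five (hK : Over K) (hι : Fintype.card ι = 5) (hN : NegIso K N)
    (hsmall : ∀ T : Finset ι, T.card = 3 → AllMono K T) (h3 : (3 : F) ≠ 0) {v : ι → F}
    (hv : v ⬝ᵥ v = 1) (hR : InR K v) (hfull : ∀ t, v t ≠ 0) : False := by
  classical
  have h2 := hK.two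
  obtain ⟨k⟩ : Nonempty ι := Fintype.card_pos_iff.1 (by omega)
  obtain ⟨α, hα⟩ : ∃ α, α = v k ^ 2 := ⟨_, rfl⟩
  have heq : ∀ t, v t ^ 2 = α := fun t => by
    rcases eq_or_ne t k with rfl | h
    · exact hα.symm
    · rw [hα]; exact eq_squares_five hK hι hN hsmall hv hR hfull h
  have h5α : 5 * α = 1 := by
    rw [← hv, dotProduct, Finset.sum_congr rfl fun t _ => show v t * v t = α by
      rw [← heq t]; ring, Finset.sum_const, Finset.card_univ, hι]
    simp
  obtain ⟨μ, hμ⟩ : ∃ μ, μ = 2 * (1 - 2 * α) := ⟨_, rfl⟩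
  obtain ⟨v', hv'⟩ : ∃ v' : ι → F, v' = ap (refl sq v) (ap (sgn k) v) := ⟨_, rfl⟩
  have hvR : InR K v' := hv' ▸ inR_refl hR (hR.sgn hK k)
  have hvv : v' ⬝ᵥ v' = 1 := by rw [hv', dot_ap_self, dot_ap_self, hv]
  have hdot : v ⬝ᵥ ap (sgn k) v = 1 - 2 * α := by
    rw [sgn_ap, dotProduct_sub, dotProduct_smul, dot_unitVec, hv, hα, smul_eq_mul]; ring
  have hc : ∀ s, v' s = if s = k then (-1 - μ) * v s else (1 - μ) * v s := fun s => by
    rw [hv', refl_ap_unit hv, hdot, ← hμ, Pi.sub_apply, Pi.smul_apply, sgn_coord, smul_eq_mul]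
    split_ifs <;> ring
  have h5μ : 5 * μ = 6 := by rw [hμ]; linear_combination -4 * h5α
  have hn1 : 1 - μ ≠ 0 := fun e => one_ne_zero (α := F) (by linear_combination -5 * e - h5μ)
  obtain ⟨l, hl⟩ := Finset.card_pos.1 (show 0 < ({k} : Finset ι)ᶜ.card by
    rw [Finset.card_compl, Finset.card_singleton, hι]; norm_num)
  simp at hl
  by_cases hk : -1 - μ = 0
  · refine no_support_four hK hι hN hsmall h3 hvv hvR (o := k) (by rw [hc, if_pos rfl, hk, zero_mul])
      fun t ht => ?_
    rw [hc, if_neg ht]; exact mul_ne_zero hn1 (hfull t)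
  · have h := eq_squares_five hK hι hN hsmall hvv hvR (fun s => by
      rw [hc]; split_ifs <;> exact mul_ne_zero ‹_› (hfull s)) hl
    rw [hc, hc, if_neg hl, if_pos rfl, mul_pow, mul_pow, heq, heq] at h
    have hα0 : α ≠ 0 := hα ▸ pow_ne_zero 2 (hfull k)
    have h' := mul_right_cancel₀ hα0 h
    have h120 : (2 * 2 * 2 * 3 : F) * 5 = 0 := by linear_combination -25 * h' + (-20) * h5μ
    rcases mul_eq_zero.1 h120 with e | e
    · exact mul_ne_zero (mul_ne_zero (mul_ne_zero h2 h2) h2) h3 e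
    · exact one_ne_zero (α := F) (by rw [← h5α, e, zero_mul])

/-- In characteristic three all unit vectors have reflections in `± K`. -/
theorem inR_all_five_three (hK : Over K) (hι : Fintype.card ι = 5) (hq : Fintype.card F = 3)
    {w : ι → F} (hw : w ⬝ᵥ w = 1) (hwR : InR K w) {a b : ι} (hab : a ≠ b) (ha : w a ≠ 0)
    (hb : w b ≠ 0) (v : ι → F) (hv : v ⬝ᵥ v = 1) : InR K v := by
  classical
  have h2 := hK.two
  have h3 : (3 : F) = 0 := by
    have := Nat.cast_card_eq_zero F
    rw [hq] at this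
    exact_mod_cast this
  have h01 : ∀ x : F, x ≠ 0 → x * x = 1 := fun x hx => by
    have := FiniteField.pow_card_sub_one_eq_one x hx
    rwa [hq, show 3 - 1 = 2 from rfl, pow_two] at this
  have hsupp : ∀ u : ι → F, u ⬝ᵥ u = 1 → (Finset.univ.filter fun i => u i ≠ 0).card = 1 ∨
      (Finset.univ.filter fun i => u i ≠ 0).card = 4 := by
    intro u hu
    have hle := Finset.card_filter_le (Finset.univ : Finset ι) fun i => u i ≠ 0
    rw [Finset.card_univ, hι] at hle
    have hsum : ((Finset.univ.filter fun i => u i ≠ 0).card : F) = 1 := by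
      rw [← hu, dotProduct, ← Finset.sum_filter_of_ne (s := (Finset.univ : Finset ι))
        (p := fun i => u i ≠ 0) (f := fun i => u i * u i) (fun i _ h h0 => h (by rw [h0, mul_zero])),
        Finset.card_eq_sum_ones, Nat.cast_sum]
      exact Finset.sum_congr rfl fun t ht => by
        rw [h01 _ (Finset.mem_filter.1 ht).2]; norm_num
    interval_cases h : (Finset.univ.filter fun i => u i ≠ 0).card
    · simp at hsum
    · exact .inl rfl
    · exact absurd hsum fun e => one_ne_zero (α := F) (by push_cast at e; linear_combination e)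
    · exact absurd hsum fun e => one_ne_zero (α := F) (by push_cast at e; linear_combination h3 - e)
    · exact .inr rfl
    · exact absurd hsum fun e => one_ne_zero (α := F) (by push_cast at e; linear_combination e - h3)
  rcases hsupp v hv with h1 | h4
  · obtain ⟨i, hi⟩ := Finset.card_eq_one.1 h1
    have hvi : ∀ m, v m ≠ 0 ↔ m = i := fun m => by
      rw [← Finset.mem_singleton, ← hi]; simp
    rw [eq_smul_unitVec (x := v) (j := i) fun m hm => by
      by_contra h; exact hm ((hvi m).1 h)]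
    exact (inR_unitVec hK i).smul hK ((hvi i).2 rfl)
  have hw4 : (Finset.univ.filter fun i => w i ≠ 0).card = 4 := (hsupp w hw).resolve_left fun h => by
    have := Finset.one_lt_card.2 (⟨a, by simp [ha], b, by simp [hb], hab⟩ :
      ∃ x ∈ (Finset.univ.filter fun i => w i ≠ 0), ∃ y ∈ (Finset.univ.filter fun i => w i ≠ 0), x ≠ y)
    omega
  obtain ⟨π, hπ, he⟩ := exists_even_image hK (hw4.trans h4.symm) (by omega)
  obtain ⟨f, hf⟩ : ∃ f, f = ap (permIso π : Grp) w := ⟨_, rfl⟩
  have hfl : ∀ D : Finset ι, InR K fun i => if i ∈ D then -f i else f i := fun D => by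
    induction D using Finset.induction with
    | empty => simpa [hf] using hwR.perm hπ
    | insert x D hx ih =>
      convert ih.sgn hK x using 1
      funext i
      rw [sgn_coord]
      by_cases hix : i = x
      · subst hix; simp [hx]
      · simp [hix]
  have hsame : ∀ i, f i ≠ 0 ↔ v i ≠ 0 := fun i => by
    obtain ⟨j, rfl⟩ := π.surjective i
    rw [hf, permIso_coord]
    have hmem := Finset.ext_iff.1 he (π j)
    simp [Finset.mem_image, π.injective.eq_iff] at hmem
    exact hmem
  convert hfl (Finset.univ.filter fun i => v i ≠ f i) using 1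
  funext i
  simp only [Finset.mem_filter, Finset.mem_univ, true_and]
  split_ifs with h
  · by_cases hfi : f i = 0
    · exact absurd (show v i = f i by rw [hfi]; by_contra hv0; exact (hsame i).2 hv0 hfi) h
    · exact (mul_self_eq_mul_self_iff.1
        ((h01 _ ((hsame i).1 hfi)).trans (h01 _ hfi).symm)).resolve_left h
  · exact not_not.1 h

/-- A non-monomial element provides a unit vector with non-monomial reflection in `± K`. -/
theorem exists_nonmono_vec (hK : Over K) (hι : Fintype.card ι = 5) (hN : NegIso K N) {g : Grp}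
    (hg : g ∈ K) (hgm : ¬ Mono g) : ∃ v : ι → F, v ⬝ᵥ v = 1 ∧ InR K v ∧
      ∃ a b, a ≠ b ∧ v a ≠ 0 ∧ v b ≠ 0 ∧
        ¬ ((∀ a b c, v a ≠ 0 → v b ≠ 0 → v c ≠ 0 → a = b ∨ a = c ∨ b = c) ∧
          ∀ a b, v a ≠ 0 → v b ≠ 0 → v a ^ 2 = v b ^ 2) := by
  classical
  have h2 := hK.two
  have : Nonempty ι := Fintype.card_pos_iff.1 (by omega)
  have hrow : ∀ k, InR K (ap g (unitVec k)) := fun k =>
    (inR_unitVec hK k).ap_pm hK hN (.inl hg) (by rw [sq_unitVec]; exact one_ne_zero)
  by_contra! hall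
  have hmono : ∀ u : ι → F, u ⬝ᵥ u = 1 → InR K u →
      (∀ a b c, u a ≠ 0 → u b ≠ 0 → u c ≠ 0 → a = b ∨ a = c ∨ b = c) ∧
        ∀ a b, u a ≠ 0 → u b ≠ 0 → u a ^ 2 = u b ^ 2 := by
    intro u hu huR
    by_cases h : ∃ a b, a ≠ b ∧ u a ≠ 0 ∧ u b ≠ 0
    · obtain ⟨a, b, hab, ha, hb⟩ := h
      exact hall u hu huR a b hab ha hb
    · push Not at h
      have h' : ∀ a b, u a ≠ 0 → u b ≠ 0 → a = b := fun a b ha hb => by
        by_contra hne; exact hb (h a b hne ha)
      exact ⟨fun a b c ha hb _ => .inl (h' a b ha hb), fun a b ha hb => by rw [h' a b ha hb]⟩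
  obtain ⟨i, x, y, hxy, hix, hiy⟩ : ∃ i x y, x ≠ y ∧ ap g (unitVec i) x ≠ 0 ∧
      ap g (unitVec i) y ≠ 0 := by
    by_contra! h
    refine hgm fun i => ?_
    obtain ⟨x, hx⟩ : ∃ x, ap g (unitVec i) x ≠ 0 := by
      by_contra! h0
      have := ap_row_self g i
      rw [show ap g (unitVec i) = 0 from funext h0, zero_dotProduct] at this
      exact zero_ne_one this
    exact ⟨x, _, eq_smul_unitVec fun m hm => h i x m (Ne.symm hm) hx⟩
  obtain ⟨r, hr⟩ : ∃ r, r = ap g (unitVec i) := ⟨_, rfl⟩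
  rw [← hr] at hix hiy
  have hrr : r ⬝ᵥ r = 1 := hr ▸ ap_row_self g i
  obtain ⟨hr3, hr2⟩ := hmono r hrr (hr ▸ hrow i)
  have hout : ∀ m, m ≠ x → m ≠ y → r m = 0 := fun m h1 h2' => by
    by_contra h
    rcases hr3 m x y h hix hiy with e | e | e
    · exact h1 e
    · exact h2' e
    · exact hxy e
  -- all vectors with two equal coordinates
  have hpair : ∀ p q : ι, p ≠ q → InR K (r x • (unitVec p + unitVec q)) := by
    intro p q hpq
    obtain ⟨π, hπ, he⟩ := exists_even_image hK (S := {x, y}) (S' := {p, q})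
      (by rw [Finset.card_pair hxy, Finset.card_pair hpq]) (by rw [Finset.card_pair hxy])
    have hπr : InR K (ap (permIso π : Grp) r) := (hr ▸ hrow i).perm hπ
    obtain ⟨u, hu⟩ : ∃ u, u = ap (permIso π : Grp) r := ⟨_, rfl⟩
    rw [← hu] at hπr
    have hzero : ∀ m, m ≠ p → m ≠ q → u m = 0 := by
      intro m hmp hmq
      obtain ⟨k, rfl⟩ := π.surjective m
      rw [hu, permIso_coord]
      refine hout k (fun e => ?_) (fun e => ?_)
      · have := he ▸ Finset.mem_image_of_mem π (show k ∈ ({x, y} : Finset ι) by simp [e])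
        simp [hmp, hmq] at this
      · have := he ▸ Finset.mem_image_of_mem π (show k ∈ ({x, y} : Finset ι) by simp [e])
        simp [hmp, hmq] at this
    have hsq : ∀ m, m = p ∨ m = q → u m = r x ∨ u m = -r x := by
      intro m hm
      obtain ⟨k, rfl⟩ := π.surjective m
      rw [hu, permIso_coord]
      have hk : π k ∈ ({x, y} : Finset ι).image π := by rw [he]; simpa using hm
      simp [π.injective.eq_iff] at hk
      rcases hk with rfl | rfl
      · exact .inl rfl
      · exact sq_eq_sq_iff_eq_or_eq_neg.1 (hr2 _ x hiy hix)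
    have hfix : ∀ (u : ι → F) (m : ι), InR K u → u m = -r x →
        ∃ u', InR K u' ∧ u' m = r x ∧ ∀ s, s ≠ m → u' s = u s := fun u m hu hm =>
      ⟨_, hu.sgn hK m, by rw [sgn_coord, if_pos rfl, hm, neg_neg], fun s hs => by
        rw [sgn_coord, if_neg hs]⟩
    obtain ⟨u', hu', h1, h2'⟩ : ∃ u', InR K u' ∧ u' p = r x ∧ ∀ s, s ≠ p → u' s = u s := by
      rcases hsq p (.inl rfl) with e | e
      · exact ⟨u, hπr, e, fun s _ => rfl⟩
      · exact hfix u p hπr e
    obtain ⟨u'', hu'', h3, h4⟩ : ∃ u'', InR K u'' ∧ u'' q = r x ∧ ∀ s, s ≠ q → u'' s = u' s := by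
      rcases hsq q (.inr rfl) with e | e
      · exact ⟨u', hu', by rw [h2' q hpq.symm, e], fun s _ => rfl⟩
      · exact hfix u' q hu' (by rw [h2' q hpq.symm, e])
    convert hu'' using 1
    funext s
    rcases eq_or_ne s q with rfl | hsq'
    · simp [h3, unitVec_same, unitVec_ne hpq.symm]
    rcases eq_or_ne s p with rfl | hsp
    · simp [h4 s hsq', h1, unitVec_same, unitVec_ne hpq]
    · simp [h4 s hsq', h2' s hsp, hzero s hsp hsq', unitVec_ne hsp, unitVec_ne hsq']
  have hnorm : ∀ p q : ι, p ≠ q →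
      (r x • (unitVec p + unitVec q)) ⬝ᵥ (r x • (unitVec p + unitVec q)) = (1 : F) := by
    intro p q hpq
    have hrr' : r x ^ 2 + r y ^ 2 = 1 := by
      rw [← hrr, dotProduct, ← Finset.sum_subset (Finset.subset_univ {x, y}) fun m _ hm => by
        simp at hm; rw [hout m hm.1 hm.2, mul_zero], Finset.sum_pair hxy]
      ring
    rw [hr2 y x hiy hix] at hrr'
    simp only [smul_dotProduct, dotProduct_smul, add_dotProduct, dotProduct_add, dot_unitVec,
      Pi.smul_apply, Pi.add_apply, unitVec_same, unitVec_ne hpq, unitVec_ne hpq.symm, smul_eq_mul]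
    linear_combination hrr'
  -- a second row with a further coordinate
  obtain ⟨w, hw⟩ := Finset.card_pos.1 (show 0 < ({x, y} : Finset ι)ᶜ.card by
    rw [Finset.card_compl, Finset.card_pair hxy, hι]; norm_num)
  simp at hw
  obtain ⟨q, hq⟩ : ∃ q, ap g (unitVec q) w ≠ 0 := by
    by_contra! h0
    have := ap_row_self g⁻¹ w
    rw [show ap g⁻¹ (unitVec w) = 0 from funext fun k => by rw [← ap_coord h2]; exact h0 k,
      zero_dotProduct] at this
    exact zero_ne_one this
  have hqi : q ≠ i := by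
    rintro rfl
    exact hq (by rw [← hr]; exact hout w hw.1 hw.2)
  obtain ⟨t, ht⟩ : ∃ t, t = ap g (unitVec q) := ⟨_, rfl⟩
  rw [← ht] at hq
  obtain ⟨ht3, -⟩ := hmono t (ht ▸ ap_row_self g q) (ht ▸ hrow q)
  have horth : t ⬝ᵥ r = 0 := by rw [ht, hr]; exact ap_row_orth h2 g hqi
  rw [dotProduct, ← Finset.sum_subset (Finset.subset_univ {x, y}) fun m _ hm => by
    simp at hm; rw [hout m hm.1 hm.2, mul_zero], Finset.sum_pair hxy] at horth
  have htxy : t x = 0 ∧ t y = 0 := by
    by_cases htx : t x = 0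
    · rw [htx, zero_mul, zero_add] at horth
      exact ⟨htx, (mul_eq_zero.1 horth).resolve_right hiy⟩
    · have hty : t y ≠ 0 := fun e => by
        rw [e, zero_mul, add_zero] at horth
        exact mul_ne_zero htx hix horth
      rcases ht3 x y w htx hty hq with e | e | e
      · exact absurd e hxy
      · exact absurd e.symm hw.1
      · exact absurd e.symm hw.2
  obtain ⟨h3', -⟩ := hmono (ap g (r x • (unitVec i + unitVec q)))
    (by rw [dot_ap_self]; exact hnorm i q hqi.symm)
    ((hpair i q hqi.symm).ap_pm hK hN (.inl hg)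
      (by rw [sq_apply, hnorm i q hqi.symm]; exact one_ne_zero))
  have hval : ∀ m, ap g (r x • (unitVec i + unitVec q)) m = r x * (r m + t m) := fun m => by
    rw [map_smul, map_add, ← hr, ← ht]; simp
  rcases h3' x y w (by rw [hval, htxy.1, add_zero]; exact mul_ne_zero hix hix)
    (by rw [hval, htxy.2, add_zero]; exact mul_ne_zero hix hiy)
    (by rw [hval, hout w hw.1 hw.2, zero_add]; exact mul_ne_zero hix hq) with e | e | e
  · exact hxy e
  · exact hw.1 e.symm
  · exact hw.2 e.symm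

/-- An overgroup of the monomial part of `Ω` in five dimensions with a non-monomial element. -/
theorem omega_le_of_nonmono_five (hK : Over K) (hι : Fintype.card ι = 5)
    (hprime : (Fintype.card F).Prime) {g : Grp} (hg : g ∈ K) (hgm : ¬ Mono g) :
    Omega F ⇑(sq (ι := ι) (F := F)) ≤ K := by
  classical
  obtain ⟨p, hp⟩ : ∃ p, Fintype.card F = p := ⟨_, rfl⟩
  rw [hp] at hprime
  have hfp : Fact p.Prime := ⟨hprime⟩
  have hC : CharP F p := charP_of_card_eq_prime hp
  have h2 := hK.two
  have hp2 : p ≠ 2 := fun e => h2 (by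
    have := CharP.cast_eq_zero F p
    rw [e] at this; exact_mod_cast this)
  have : Nonempty ι := Fintype.card_pos_iff.1 (by omega)
  obtain ⟨N, hN⟩ := exists_negIso hK hι
  obtain ⟨w, hw, hwR, a, b, hab, ha, hb, hbad⟩ := exists_nonmono_vec hK hι hN hg hgm
  refine omega_le_of_inR hK hι.ge fun v hv => ?_
  rcases (show p = 3 ∨ 5 ≤ p by
    have := hprime.two_le
    rcases (show p = 4 ∨ p ≠ 4 by omega) with h | h
    · rw [h] at hprime; exact absurd hprime (by norm_num)
    · omega) with rfl | hp5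
  · exact inR_all_five_three hK hι hp hw hwR hab ha hb v hv
  have h3 : (3 : F) ≠ 0 := fun e => by
    have := (CharP.cast_eq_zero_iff F p 3).1 (by exact_mod_cast e)
    exact absurd (Nat.le_of_dvd (by norm_num) this) (by omega)
  by_cases hex : ∃ T : Finset ι, T.card = 3 ∧ ¬ AllMono K T
  · obtain ⟨T, hT, hT'⟩ := hex
    exact inR_all_of_five hK hι.ge hp5 hp hT hT' v hv
  exfalso
  push Not at hex
  obtain ⟨S, hS⟩ : ∃ S : Finset ι, S = Finset.univ.filter fun m => w m ≠ 0 := ⟨_, rfl⟩
  have hmS : ∀ m, m ∈ S ↔ w m ≠ 0 := fun m => by simp [hS]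
  rcases le_or_gt S.card 3 with hle | hgt
  · obtain ⟨T, hST, -, hT⟩ := Finset.exists_subsuperset_card_eq (Finset.subset_univ S) hle
      (by rw [Finset.card_univ]; omega)
    exact hbad (small_mono hK hN hex hT hw hwR fun m hm => by
      by_contra h; exact hm (hST ((hmS m).2 h)))
  have hle := Finset.card_le_univ S
  rcases (show S.card = 4 ∨ S.card = 5 by omega) with h4 | h5
  · obtain ⟨o, ho⟩ := Finset.card_eq_one.1 (show Sᶜ.card = 1 by rw [Finset.card_compl, h4, hι])
    have ho' : ∀ m, w m = 0 ↔ m = o := fun m => by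
      simpa [hmS] using Finset.ext_iff.1 ho m
    exact no_support_four hK hι hN hex h3 hw hwR ((ho' o).2 rfl) fun t ht h => ht ((ho' t).1 h)
  · exact no_support_five hK hι hN hex h3 hw hwR fun t =>
      (hmS t).1 (by rw [Finset.eq_univ_of_card S (by rw [h5, hι])]; exact Finset.mem_univ t)

end Cfsg.Agent.Orth.Frame
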