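import Cfsg.Agent.Lib.Orth.Frame.Reduce
import Cfsg.Agent.Lib.Orth.Frame.Five

/-!
# Rigid overgroups in odd dimension

* `exists_flip_mem`, `exists_negIso_odd`
* `mono_of_rigid_odd` : in odd dimension at least seven the members of a rigid overgroup are monomial

In a rigid overgroup a unit vector with reflection in `± K` has either at most two or all coordinates
non-zero; in the second case the squares of the coordinates are equal, and reflecting the vector in a
copy with three or four signs changed gives a contradiction.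
-/

set_option autoImplicit false
set_option linter.unusedSectionVars false

namespace Cfsg.Agent.Orth.Frame

open Cfsg Matrix Module Cfsg.Agent.Orth
open QuadraticMap (polar)
open scoped Classical

variable {ι : Type} [Fintype ι] [DecidableEq ι] {F : Type*} [Field F] [Fintype F]

local notation "Grp" => IsoGrp (sq (ι := ι) (F := F))

variable {K : Subgroup (IsoGrp (sq (ι := ι) (F := F)))}

/-- The sign change on a set, with its parity. -/
theorem exists_flip_mem (hK : Over K) (S : Finset ι) :
    ∃ d : Grp, Flip S d ∧ (Even S.card → d ∈ K) ∧ (Odd S.card → ∀ m, d * sgn m ∈ K) := by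
  induction S using Finset.induction_on with
  | empty =>
    exact ⟨1, fun x m => by simp, fun _ => K.one_mem, fun h => by simp at h⟩
  | insert a S ha ih =>
    obtain ⟨d, hd, hev, hodd⟩ := ih
    refine ⟨d * sgn a, fun x m => ?_, fun h => ?_, fun h m => ?_⟩
    · rw [ap_mul, hd, sgn_coord]
      rcases eq_or_ne m a with rfl | hm
      · simp [ha]
      · simp [hm]
    · rw [Finset.card_insert_of_notMem ha, Nat.even_add_one, Nat.not_even_iff_odd] at h
      exact hodd h a
    · rw [Finset.card_insert_of_notMem ha, Nat.odd_add_one, Nat.not_odd_iff_even] at h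
      rw [mul_assoc]
      exact K.mul_mem (hev h) (hK.sgn_mul_sgn a m)

theorem exists_negIso_odd (hK : Over K) (ho : Odd (Fintype.card ι)) : ∃ N, NegIso K N := by
  obtain ⟨d, hd, -, h⟩ := exists_flip_mem hK (Finset.univ : Finset ι)
  exact ⟨d, fun x => funext fun m => by rw [hd, if_pos (Finset.mem_univ m)]; rfl,
    h (by rwa [Finset.card_univ])⟩

/-- Rows with at most two non-zero coordinates in odd dimension: some coordinate line goes to one. -/
theorem exists_line_of_rows (h2 : (2 : F) ≠ 0) (ho : Odd (Fintype.card ι)) {g : Grp}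
    (h : ∀ k, (supp (ap g (unitVec k))).card ≤ 2) :
    ∃ (i j : ι) (c : F), ap g (unitVec i) = c • unitVec j := by
  by_cases h1 : ∃ k, (supp (ap g (unitVec k))).card ≤ 1
  · obtain ⟨k, hk⟩ := h1
    obtain ⟨m, hm⟩ := Function.ne_iff.1 (show ap g (unitVec k) ≠ 0 from fun h0 => by
      have := ap_row_self g k
      rw [h0] at this
      simp at this)
    exact ⟨k, m, _, eq_smul_unitVec fun t ht => notMem_supp.1 fun h' =>
      ht (Finset.card_le_one.1 hk t h' m (mem_supp.2 hm))⟩
  push Not at h1
  exfalso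
  have htwo : ∀ k, (supp (ap g (unitVec k))).card = 2 := fun k => by
    have := h k; have := h1 k; omega
  obtain ⟨C, hC⟩ : ∃ C : Finset (Finset ι),
      C = Finset.univ.image fun k => supp (ap g (unitVec k)) := ⟨_, rfl⟩
  have hdisj : (C : Set (Finset ι)).PairwiseDisjoint id := by
    intro s hs t ht hne
    rw [hC] at hs ht
    simp only [Finset.coe_image, Finset.coe_univ, Set.image_univ, Set.mem_range] at hs ht
    obtain ⟨k, rfl⟩ := hs
    obtain ⟨l, rfl⟩ := ht
    refine Finset.disjoint_left.2 fun m hmk hml => ?_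
    simp only [id] at hmk hml
    have hsum := ap_row_orth h2 g (show k ≠ l from fun e => hne (by rw [e]))
    rw [dotProduct, Finset.sum_eq_single m] at hsum
    · exact mul_ne_zero (mem_supp.1 hmk) (mem_supp.1 hml) hsum
    · intro t _ htm
      by_contra h'
      rw [mul_eq_zero, not_or] at h'
      have e1 : ({m, t} : Finset ι) = supp (ap g (unitVec k)) := Finset.eq_of_subset_of_card_le
        (by simp [Finset.insert_subset_iff, hmk, mem_supp.2 h'.1])
        (by rw [htwo k, Finset.card_pair htm.symm])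
      have e2 : ({m, t} : Finset ι) = supp (ap g (unitVec l)) := Finset.eq_of_subset_of_card_le
        (by simp [Finset.insert_subset_iff, hml, mem_supp.2 h'.2])
        (by rw [htwo l, Finset.card_pair htm.symm])
      exact hne (e1.symm.trans e2)
    · simp
  have hU : (C.biUnion id).card = 2 * C.card := by
    rw [Finset.card_biUnion hdisj, Finset.sum_congr rfl (fun s hs => ?_), Finset.sum_const,
      smul_eq_mul, mul_comm]
    rw [hC] at hs
    obtain ⟨k, -, rfl⟩ := Finset.mem_image.1 hs
    exact htwo k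
  have hle : Fintype.card ι ≤ 2 * C.card := by
    rw [← Finset.card_univ, hC]
    refine Finset.card_le_mul_card_image _ 2 fun s hs => ?_
    obtain ⟨k, -, rfl⟩ := Finset.mem_image.1 hs
    refine le_trans (card_rows_le g fun l hl => ?_) (htwo k).le
    exact (Finset.mem_filter.1 hl).2.le
  have hge := Finset.card_le_univ (C.biUnion id)
  obtain ⟨r, hr⟩ := ho
  omega

variable (hK : Over K) (hR : Rigid K)
include hK hR

theorem mono_of_line_pm {N : Grp} (hN : NegIso K N) {g : Grp} (hg : g ∈ pm hN)
    (hl : ∃ (i j : ι) (c : F), ap g (unitVec i) = c • unitVec j) : Mono g := by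
  rcases hg with h | h
  · exact hR g h hl
  obtain ⟨i, j, c, hc⟩ := hl
  have hm := hR _ h ⟨i, j, -c, by rw [ap_mul, hN.ap_eq, map_neg, hc, neg_smul]⟩
  have hmN : Mono N := fun k => ⟨k, -1, by rw [hN.ap_eq, neg_one_smul]⟩
  have := hm.mul hmN
  rwa [mul_assoc, hN.mul_self, mul_one] at this

/-- A unit vector with a zero coordinate and reflection in `± K`. -/
theorem supp_le_two_of_zero [Nonempty ι] {N : Grp} (hN : NegIso K N) {v : ι → F} (hv : v ⬝ᵥ v = 1)
    (hvR : InR K v) {a : ι} (ha : v a = 0) : (supp v).card ≤ 2 := by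
  have hm := mono_of_line_pm hK hR hN (hvR.mem_pm hN) ⟨a, a, 1, by
    rw [refl_ap_unit hv, dot_unitVec, ha, mul_zero, zero_smul, sub_zero, one_smul]⟩
  have h := (refl_mono (by rw [hv]; exact one_ne_zero) hm hK.two).1
  by_contra hlt
  push Not at hlt
  obtain ⟨x, hx, y, hy, z, hz, hxy, hxz, hyz⟩ := Finset.two_lt_card.1 hlt
  rcases h x y z (mem_supp.1 hx) (mem_supp.1 hy) (mem_supp.1 hz) with e | e | e
  · exact hxy e
  · exact hxz e
  · exact hyz e

variable (h7 : 7 ≤ Fintype.card ι) (ho : Odd (Fintype.card ι))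
include h7 ho

/-- A unit vector without zero coordinates and reflection in `± K` has equal squares. -/
theorem eq_squares_of_full {N : Grp} (hN : NegIso K N) {v : ι → F} (hv : v ⬝ᵥ v = 1)
    (hvR : InR K v) (hfull : ∀ m, v m ≠ 0) {i j : ι} (hij : i ≠ j) : v i ^ 2 = v j ^ 2 := by
  have h2 := hK.two
  haveI : Nonempty ι := ⟨i⟩
  have hd := flip_pair (F := F) hij
  obtain ⟨d, hdd⟩ : ∃ d : Grp, d = sgn i * sgn j := ⟨_, rfl⟩
  rw [← hdd] at hd
  have hdK : d ∈ K := hdd ▸ hK.sgn_mul_sgn i j
  have hv0 : sq v ≠ 0 := by rw [sq_apply, hv]; exact one_ne_zero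
  have heven : Even (orderOf (d * refl sq v)) := even_order_of_dick h2 (by
    rw [dick_mul (good_sq h2), ((mem_omega_iff (good_sq h2) _).1 (hK.le hdK)).1,
      dick_refl (sq_nd h2) hv0, one_mul])
  obtain ⟨z, hz1, hzz, hzd, hza, hzH⟩ := exists_central hd.mul_self (refl_mul_self _ _) heven
  have hzL : z ∈ pm hN := hzH _ (mul_mem (.inl hdK) (hvR.mem_pm hN))
  -- `z` is monomial
  have hrow : ∀ k, (supp (ap z (unitVec k))).card ≤ 2 := by
    intro k
    by_cases hk : k ∈ ({i, j} : Finset ι)
    · have h1 := (hd.neg_iff h2 (ap z (unitVec k))).1 (by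
        rw [← ap_mul, ← hzd.eq, ap_mul, (hd.neg_iff h2 _).2 (unitVec_mem_span3 hk), map_neg])
      refine (Finset.card_le_card (show supp (ap z (unitVec k)) ⊆ {i, j} from fun m hm => ?_)).trans
        Finset.card_le_two
      by_contra h'
      exact mem_supp.1 hm (h1 m h')
    · have hfix : ap d (ap z (unitVec k)) = ap z (unitVec k) := by
        rw [← ap_mul, ← hzd.eq, ap_mul, (hd.fix_iff h2 _).2 fun m hm => unitVec_ne (fun (e : m = k) => hk (e ▸ hm))]
      exact supp_le_two_of_zero hK hR hN (ap_row_self z k)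
        ((inR_unitVec hK k).ap_pm hK hN hzL (by rw [sq_unitVec]; exact one_ne_zero))
        ((hd.fix_iff h2 _).1 hfix i (by simp))
  have hzm : Mono z := mono_of_line_pm hK hR hN hzL (exists_line_of_rows h2 ho hrow)
  obtain ⟨S, hS⟩ : ∃ S : Submodule F (ι → F), S = span3 {i, j} ⊔ (F ∙ v) := ⟨_, rfl⟩
  have hSc : finrank F S ≤ 3 := by
    have h1 := Submodule.finrank_sup_add_finrank_inf_eq (span3 (F := F) ({i, j} : Finset ι)) (F ∙ v)
    rw [← hS, finrank_span3, Finset.card_pair hij, finrank_span_singleton (fun h => hfull i (by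
      rw [h]; rfl))] at h1
    omega
  have hrS : resSpace z ≤ S := resSpace_le_of_fix h2 S fun x hx => by
    have hperp : ∀ w ∈ S, w ⬝ᵥ x = 0 := fun w hw => by
      have := hx w hw
      change polar _ w x = 0 at this
      rw [polar_sq] at this
      exact (mul_eq_zero.1 this).resolve_left h2
    refine hzH (fixVec x) (?_ : ap (d * refl sq v) x = x)
    rw [ap_mul, refl_ap_unit hv, dotProduct_comm, dotProduct_comm x v,
      hperp v (hS ▸ Submodule.mem_sup_right (Submodule.mem_span_singleton_self v)), mul_zero,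
      zero_smul, sub_zero, hd.fix_iff h2]
    intro m hm
    rw [← unitVec_dot x m]
    exact hperp _ (hS ▸ Submodule.mem_sup_left (unitVec_mem_span3 hm))
  -- `z` fixes or negates `v`
  have hzv : ap z v = v ∨ ap z v = -v := by
    obtain ⟨c, -, hc⟩ := exists_smul_of_refl_eq h2 (u := ap z v) (v := v) (by rwa [Q_ap]) (by
      rw [← conj_refl, hza.eq, mul_assoc, mul_inv_cancel, mul_one])
    have h1 := dot_ap_self z v
    rw [hc, smul_dotProduct, dotProduct_smul, hv, smul_eq_mul, smul_eq_mul, mul_one] at h1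
    rcases mul_self_eq_one_iff.1 h1 with rfl | rfl
    · exact .inl (by rw [hc, one_smul])
    · exact .inr (by rw [hc, neg_one_smul])
  rcases hzv with hzv | hzv
  swap
  · exfalso
    have hall : moved z = Finset.univ := Finset.eq_univ_iff_forall.2 fun m => by
      by_contra h'
      exact hfull m (eq_zero_of_neg_fix h2 hzv h')
    have h1 := moved_le h2 hzm hzz
    rw [hall, Finset.card_univ] at h1
    have := (Submodule.finrank_mono hrS).trans hSc
    omega
  have hside : ∀ a b : ι, ({a, b} : Finset ι) = {i, j} → ap z (unitVec a) = unitVec a ∨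
      v a ^ 2 = v b ^ 2 := by
    intro a b hab
    have ha : a ∈ ({i, j} : Finset ι) := hab ▸ by simp
    obtain ⟨t, c, hc⟩ := hzm a
    have hc1 : c = 1 ∨ c = -1 := mul_self_eq_one_iff.1 (by
      have := ap_row_self z a
      rwa [hc, smul_dotProduct, dotProduct_smul, dot_unitVec, unitVec_same, smul_eq_mul,
        smul_eq_mul, mul_one] at this)
    have ht : t = a ∨ t = b := by
      have h1 := (hd.neg_iff h2 (ap z (unitVec a))).1 (by
        rw [← ap_mul, ← hzd.eq, ap_mul, (hd.neg_iff h2 _).2 (unitVec_mem_span3 ha), map_neg])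
      by_contra h'
      have := h1 t (by rw [← hab]; simpa using h')
      rcases hc1 with rfl | rfl <;> simp [hc, unitVec_same] at this
    have h1 := dot_ap h2 z v (unitVec a)
    rw [hzv, hc, dotProduct_smul, dot_unitVec, dot_unitVec, smul_eq_mul] at h1
    rcases ht with rfl | rfl
    · rcases hc1 with rfl | rfl
      · exact .inl (by rw [hc, one_smul])
      · exact absurd (show 2 * v t = 0 by linear_combination -h1) (mul_ne_zero h2 (hfull t))
    · exact .inr (by rcases hc1 with rfl | rfl <;> rw [← h1] <;> ring)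
  rcases hside i j rfl with hi | h
  swap; · exact h
  rcases hside j i (Finset.pair_comm j i) with hj | h
  swap; · exact h.symm
  -- otherwise `z` would be trivial
  exfalso
  have hSfix : S ≤ fixSpace z := by
    rw [hS]
    refine sup_le (fun x hx => mem_fixSpace.2 ?_)
      ((Submodule.span_singleton_le_iff_mem _ _).2 (mem_fixSpace.2 hzv))
    conv_lhs => rw [eq_sum_unitVec x]
    conv_rhs => rw [eq_sum_unitVec x]
    rw [map_sum]
    refine Finset.sum_congr rfl fun t _ => ?_
    rw [map_smul]
    by_cases ht : t ∈ ({i, j} : Finset ι)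
    · simp only [Finset.mem_insert, Finset.mem_singleton] at ht
      rcases ht with rfl | rfl
      · rw [hi]
      · rw [hj]
    · rw [hx t ht, zero_smul, zero_smul]
  refine hz1 (eq_one_of_resSpace_eq_bot (eq_bot_iff.2 fun y hy => ?_))
  have h1 := neg_of_mem_resSpace hzz hy
  rw [mem_fixSpace.1 (hSfix (hrS hy))] at h1
  rw [Submodule.mem_bot]
  have : (2 : F) • y = 0 := by linear_combination (norm := module) h1
  exact (smul_eq_zero.1 this).resolve_left h2

/-- In odd dimension at least seven all members of a rigid overgroup are monomial. -/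
theorem mono_of_rigid_odd {g : Grp} (hg : g ∈ K) : Mono g := by
  have h2 := hK.two
  obtain ⟨N, hN⟩ := exists_negIso_odd hK ho
  haveI : Nonempty ι := Fintype.card_pos_iff.1 (by omega)
  refine hR g hg (exists_line_of_rows h2 ho fun k => ?_)
  obtain ⟨v, hvdef⟩ : ∃ v, v = ap g (unitVec k) := ⟨_, rfl⟩
  rw [← hvdef]
  have hv : v ⬝ᵥ v = 1 := hvdef ▸ ap_row_self g k
  have hvR : InR K v := hvdef ▸
    (inR_unitVec hK k).ap_pm hK hN (.inl hg) (by rw [sq_unitVec]; exact one_ne_zero)
  by_cases hz : ∃ a, v a = 0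
  · obtain ⟨a, ha⟩ := hz
    exact supp_le_two_of_zero hK hR hN hv hvR ha
  push Not at hz
  exfalso
  obtain ⟨m0⟩ := ‹Nonempty ι›
  obtain ⟨μ, hμ⟩ : ∃ μ : F, μ = v m0 ^ 2 := ⟨_, rfl⟩
  have hsq : ∀ m, v m * v m = μ := fun m => by
    rw [hμ, ← pow_two]
    rcases eq_or_ne m m0 with rfl | hm
    · rfl
    · exact eq_squares_of_full hK hR h7 ho hN hv hvR hz hm
  have hμ0 : μ ≠ 0 := hμ ▸ pow_ne_zero 2 (hz m0)
  -- changing `a` signs gives a vector orthogonal to `v`
  have key : ∀ a, 3 ≤ a → a + 3 ≤ Fintype.card ι → (1 : F) - 2 * (a : F) * μ = 0 := by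
    intro a ha3 han
    obtain ⟨Q, -, hQ⟩ := Finset.exists_subset_card_eq (show a ≤ (Finset.univ : Finset ι).card by
      rw [Finset.card_univ]; omega)
    obtain ⟨D, hD, hDe, hDo⟩ := exists_flip_mem hK Q
    have hDL : D ∈ pm hN := by
      rcases Nat.even_or_odd Q.card with h | h
      · exact .inl (hDe h)
      · refine .inr ?_
        have := K.mul_mem (hDo h m0) (K.inv_mem (hN.sgn_mem m0))
        rwa [_root_.mul_inv_rev, hN.inv_eq, sgn_inv, mul_assoc, ← mul_assoc (Frame.sgn m0),
          sgn_mul_self, one_mul] at this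
    have huR : InR K (ap D v) := hvR.ap_pm hK hN hDL (by rw [sq_apply, hv]; exact one_ne_zero)
    obtain ⟨c, hc⟩ : ∃ c, c = v ⬝ᵥ ap D v := ⟨_, rfl⟩
    have hce : c = 1 - 2 * (a : F) * μ := by
      have e2 : ∀ m ∈ Q, v m * ap D v m = -μ := fun m hm => by
        rw [hD, if_pos hm, mul_neg, hsq]
      have e3 : ∀ m ∈ Qᶜ, v m * ap D v m = v m * v m := fun m hm => by
        rw [hD, if_neg (Finset.mem_compl.1 hm)]
      have h1 : (1 : F) = ∑ m ∈ Q, μ + ∑ m ∈ Qᶜ, μ := by
        rw [Finset.sum_add_sum_compl, ← hv, dotProduct]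
        exact Finset.sum_congr rfl fun m _ => hsq m
      rw [hc, dotProduct, ← Finset.sum_add_sum_compl Q, Finset.sum_congr rfl e2,
        Finset.sum_congr rfl (fun m hm => (e3 m hm).trans (hsq m)), Finset.sum_neg_distrib]
      rw [Finset.sum_const μ (s := Q), nsmul_eq_mul, hQ] at h1 ⊢
      linear_combination -h1
    obtain ⟨w, hw⟩ : ∃ w, w = ap (refl sq v) (ap D v) := ⟨_, rfl⟩
    have hwR : InR K w := hw ▸ inR_refl hvR huR
    have hww : w ⬝ᵥ w = 1 := by rw [hw, dot_ap_self, dot_ap_self, hv]
    have hwe : w = ap D v - (2 * c) • v := by rw [hw, refl_ap_unit hv, hc]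
    have hwQ : ∀ m ∈ Q, w m = -(1 + 2 * c) * v m := fun m hm => by
      rw [hwe, Pi.sub_apply, Pi.smul_apply, hD, if_pos hm, smul_eq_mul]; ring
    have hwnQ : ∀ m, m ∉ Q → w m = (1 - 2 * c) * v m := fun m hm => by
      rw [hwe, Pi.sub_apply, Pi.smul_apply, hD, if_neg hm, smul_eq_mul]; ring
    obtain ⟨mQ, hmQ⟩ := Finset.card_pos.1 (show 0 < Q.card by omega)
    obtain ⟨mC, hmC⟩ := Finset.card_pos.1 (show 0 < Qᶜ.card by rw [Finset.card_compl]; omega)
    rw [Finset.mem_compl] at hmC
    by_cases h1 : 1 + 2 * c = 0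
    · exfalso
      have hz0 : w mQ = 0 := by rw [hwQ mQ hmQ, h1]; ring
      have hne : (1 : F) - 2 * c ≠ 0 := fun e => h2 (by linear_combination h1 + e)
      have := (Finset.card_le_card (show Qᶜ ⊆ supp w from fun m hm => mem_supp.2 (by
        rw [hwnQ m (Finset.mem_compl.1 hm)]; exact mul_ne_zero hne (hz m)))).trans
        (supp_le_two_of_zero hK hR hN hww hwR hz0)
      rw [Finset.card_compl] at this
      omega
    by_cases h3 : 1 - 2 * c = 0
    · exfalso
      have hz0 : w mC = 0 := by rw [hwnQ mC hmC, h3]; ring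
      have := (Finset.card_le_card (show Q ⊆ supp w from fun m hm => mem_supp.2 (by
        rw [hwQ m hm]; exact mul_ne_zero (neg_ne_zero.2 h1) (hz m)))).trans
        (supp_le_two_of_zero hK hR hN hww hwR hz0)
      omega
    have hwfull : ∀ m, w m ≠ 0 := fun m => by
      by_cases hm : m ∈ Q
      · rw [hwQ m hm]; exact mul_ne_zero (neg_ne_zero.2 h1) (hz m)
      · rw [hwnQ m hm]; exact mul_ne_zero h3 (hz m)
    have he := eq_squares_of_full hK hR h7 ho hN hww hwR hwfull (show mQ ≠ mC from fun e =>
      hmC (e ▸ hmQ))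
    rw [hwQ mQ hmQ, hwnQ mC hmC, mul_pow, mul_pow, pow_two (v mQ), pow_two (v mC), hsq, hsq] at he
    rw [← hce]
    have h8 : 2 * 2 * 2 * c * μ = 0 := by linear_combination he
    exact (mul_eq_zero.1 ((mul_eq_zero.1 h8).resolve_right hμ0)).resolve_left
      (mul_ne_zero (mul_ne_zero h2 h2) h2)
  have e3 := key 3 le_rfl (by omega)
  have e4 := key 4 (by omega) (by omega)
  push_cast at e3 e4
  exact mul_ne_zero h2 hμ0 (by linear_combination e3 - e4)

end Cfsg.Agent.Orth.Frame
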