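import Cfsg.Agent.Lib.Orth.Frame.Basic

/-!
# Overgroups of the monomial group: the groups `inner K S`, the central involution of two involutions

* `Over K` : a subgroup of `Ω` containing the sign pairs and the squares of permutations
* `inner K S` : isometries supported on the coordinates in `S` lying in `K` up to an outside sign change
* `AllMono`, `mono_of_fix`
* `exists_central`, `even_order_of_neg`, `even_order_of_dick`, `even_order_of_finrank`
* `InR K v` : the reflection in `v` times a sign change lies in `K`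
-/

set_option autoImplicit false
set_option linter.unusedSectionVars false
set_option linter.unusedSimpArgs false

namespace Cfsg.Agent.Orth.Frame

open Cfsg Matrix Module Cfsg.Agent.Orth
open QuadraticMap (polar)

variable {ι : Type} [Fintype ι] [DecidableEq ι] {F : Type*} [Field F]

local notation "Grp" => IsoGrp (sq (ι := ι) (F := F))

/-- The three-cycle `a → b → c → a`. -/
def cyc (a b c : ι) : Equiv.Perm ι := Equiv.swap a b * Equiv.swap b c

theorem cyc_fst {a b c : ι} (hab : a ≠ b) (hac : a ≠ c) : cyc a b c a = b := by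
  rw [cyc, Equiv.Perm.mul_apply, Equiv.swap_apply_of_ne_of_ne hab hac, Equiv.swap_apply_left]

theorem cyc_snd {a b c : ι} (hac : a ≠ c) (hbc : b ≠ c) : cyc a b c b = c := by
  rw [cyc, Equiv.Perm.mul_apply, Equiv.swap_apply_left,
    Equiv.swap_apply_of_ne_of_ne hac.symm hbc.symm]

theorem cyc_thd (a b c : ι) : cyc a b c c = a := by
  rw [cyc, Equiv.Perm.mul_apply, Equiv.swap_apply_right, Equiv.swap_apply_right]

theorem cyc_ne {a b c i : ι} (ha : i ≠ a) (hb : i ≠ b) (hc : i ≠ c) : cyc a b c i = i := by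
  rw [cyc, Equiv.Perm.mul_apply, Equiv.swap_apply_of_ne_of_ne hb hc,
    Equiv.swap_apply_of_ne_of_ne ha hb]

theorem cyc_sq_sq {a b c : ι} (hab : a ≠ b) (hac : a ≠ c) (hbc : b ≠ c) :
    cyc a b c = (cyc a b c * cyc a b c) * (cyc a b c * cyc a b c) := by
  ext i
  simp only [Equiv.Perm.mul_apply]
  by_cases ha : i = a
  · subst ha; simp [cyc_fst hab hac, cyc_snd hac hbc, cyc_thd]
  by_cases hb : i = b
  · subst hb; simp [cyc_fst hab hac, cyc_snd hac hbc, cyc_thd]
  by_cases hc : i = c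
  · subst hc; simp [cyc_fst hab hac, cyc_snd hac hbc, cyc_thd]
  simp [cyc_ne ha hb hc]

theorem swap_swap_eq_sq {a b c d : ι} (hab : a ≠ b) (hac : a ≠ c) (had : a ≠ d) (hbc : b ≠ c)
    (hbd : b ≠ d) (hcd : c ≠ d) : Equiv.swap a b * Equiv.swap c d =
      (Equiv.swap a c * Equiv.swap c b * Equiv.swap b d) *
        (Equiv.swap a c * Equiv.swap c b * Equiv.swap b d) := by
  ext i
  simp only [Equiv.Perm.mul_apply, Equiv.swap_apply_def]
  by_cases h1 : i = a
  · subst h1; simp [hab, hac, had, hab.symm, hac.symm, had.symm, hbc, hbd, hcd, hbc.symm, hbd.symm, hcd.symm]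
  by_cases h2 : i = b
  · subst h2; simp [hab, hac, had, hab.symm, hac.symm, had.symm, hbc, hbd, hcd, hbc.symm, hbd.symm, hcd.symm]
  by_cases h3 : i = c
  · subst h3; simp [hab, hac, had, hab.symm, hac.symm, had.symm, hbc, hbd, hcd, hbc.symm, hbd.symm, hcd.symm]
  by_cases h4 : i = d
  · subst h4; simp [hab, hac, had, hab.symm, hac.symm, had.symm, hbc, hbd, hcd, hbc.symm, hbd.symm, hcd.symm]
  simp [h1, h2, h3, h4]

/-- The central involution of the group generated by two involutions whose product has even order. -/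
theorem exists_central {G : Type*} [Group G] [Finite G] {d a : G} (hd : d * d = 1) (ha : a * a = 1)
    (he : Even (orderOf (d * a))) :
    ∃ z : G, z ≠ 1 ∧ z * z = 1 ∧ Commute z d ∧ Commute z a ∧
      ∀ H : Subgroup G, d * a ∈ H → z ∈ H := by
  obtain ⟨r, hr⟩ := he
  have hpos := orderOf_pos (d * a)
  have hz : (d * a) ^ r * (d * a) ^ r = 1 := by rw [← pow_add, ← hr, pow_orderOf_eq_one]
  have hdd : d⁻¹ = d := inv_eq_of_mul_eq_one_right hd
  have haa : a⁻¹ = a := inv_eq_of_mul_eq_one_right ha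
  have hflip : d * (d * a) * d⁻¹ = (d * a)⁻¹ := by
    rw [← mul_assoc, hd, one_mul, _root_.mul_inv_rev, haa]
  have h : Commute ((d * a) ^ r) d := by
    have h1 : d * (d * a) ^ r * d⁻¹ = (d * a) ^ r := by
      rw [← conj_pow, hflip, inv_pow, inv_eq_of_mul_eq_one_right hz]
    exact (mul_inv_eq_iff_eq_mul.1 h1).symm
  refine ⟨(d * a) ^ r, fun h1 => ?_, hz, h, ?_, fun H hH => H.pow_mem hH r⟩
  · have := orderOf_le_of_pow_eq_one (by omega) h1
    omega
  · have := h.mul_right ((Commute.refl (d * a)).pow_left r)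
    rwa [← mul_assoc, hd, one_mul] at this

variable [Fintype F]

theorem good_sq (h2 : (2 : F) ≠ 0) : Good (sq (ι := ι) (F := F)) :=
  Good.of_two_ne_zero (sq_nd h2) h2

theorem mul_sgn_mem_omega (h2 : (2 : F) ≠ 0) (i j : ι) : (sgn i * sgn j : Grp) ∈ Omega F ⇑(sq) := by
  classical
  have hQ : ∀ i : ι, sq (unitVec i : ι → F) ≠ 0 := fun i => by rw [sq_unitVec]; exact one_ne_zero
  rw [mem_omega_iff (good_sq h2), sgn, sgn, dick_refl_mul (sq_nd h2) _ (hQ i),
    dick_refl (sq_nd h2) (hQ j), spin_refl_mul (sq_nd h2) _ (hQ i), spin_refl (sq_nd h2) (hQ j),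
    sq_unitVec, sq_unitVec]
  simp

theorem sq_mem_omega (h2 : (2 : F) ≠ 0) (g : Grp) : g * g ∈ Omega F ⇑(sq) := by
  rw [mem_omega_iff (good_sq h2), dick_mul (good_sq h2), spin_mul (good_sq h2)]
  rcases dick_eq_or g with h | h <;> rcases spin_eq_or (good_sq h2) g with h' | h' <;> simp [h, h']

theorem dick_sgn (h2 : (2 : F) ≠ 0) (i : ι) : dick (sgn i : Grp) = -1 :=
  dick_refl (sq_nd h2) (by rw [sq_unitVec]; exact one_ne_zero)

/-- A subgroup of `Ω` containing the products of two sign changes and the squares of permutations. -/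
structure Over (K : Subgroup (IsoGrp (sq (ι := ι) (F := F)))) : Prop where
  two : (2 : F) ≠ 0
  le : K ≤ Omega F ⇑(sq (ι := ι) (F := F))
  sgn_mul_sgn : ∀ i j : ι, (sgn i * sgn j : Grp) ∈ K
  perm_sq : ∀ τ : Equiv.Perm ι, (permIso (τ * τ) : Grp) ∈ K

variable {K : Subgroup (IsoGrp (sq (ι := ι) (F := F)))}

/-- A subgroup of `Ω` containing the monomial elements of `Ω`. -/
theorem Over.of_mono (h2 : (2 : F) ≠ 0) (hle : K ≤ Omega F ⇑(sq (ι := ι) (F := F)))
    (hm : ∀ g, g ∈ Omega F ⇑(sq (ι := ι) (F := F)) → Mono g → g ∈ K) : Over K :=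
  ⟨h2, hle, fun i j => hm _ (mul_sgn_mem_omega h2 i j) ((mono_sgn i).mul (mono_sgn j)),
    fun _ => hm _ (by rw [permIso_mul]; exact sq_mem_omega h2 _) (mono_permIso _)⟩

theorem Over.cyc_mem (hK : Over K) {a b c : ι} (hab : a ≠ b) (hac : a ≠ c) (hbc : b ≠ c) :
    permIso (cyc a b c) ∈ K := cyc_sq_sq hab hac hbc ▸ hK.perm_sq _

theorem Over.swap_mem (hK : Over K) {a b c d : ι} (hab : a ≠ b) (hac : a ≠ c) (had : a ≠ d)
    (hbc : b ≠ c) (hbd : b ≠ d) (hcd : c ≠ d) :
    permIso (Equiv.swap a b * Equiv.swap c d) ∈ K :=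
  swap_swap_eq_sq hab hac had hbc hbd hcd ▸ hK.perm_sq _

theorem Over.sgn_mem_iff (hK : Over K) (g : Grp) (m m' : ι) : g * sgn m ∈ K ↔ g * sgn m' ∈ K := by
  have key : ∀ a b : ι, g * sgn a ∈ K → g * sgn b ∈ K := fun a b h => by
    have := K.mul_mem h (hK.sgn_mul_sgn a b)
    rwa [mul_assoc, ← mul_assoc (sgn a), sgn_mul_self, one_mul] at this
  exact ⟨key m m', key m' m⟩

/-- The isometries fixing the coordinate vectors outside `S` which lie in `K` up to an outside sign. -/
def inner (K : Subgroup (IsoGrp (sq (ι := ι) (F := F)))) (S : Finset ι) :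
    Subgroup (IsoGrp (sq (ι := ι) (F := F))) where
  carrier := {g | (∀ m, m ∉ S → ap g (unitVec m) = unitVec m) ∧ (g ∈ K ∨ ∀ m, m ∉ S → g * sgn m ∈ K)}
  mul_mem' {g h} hg hh := by
    refine ⟨fun m hm => by rw [ap_mul, hh.1 m hm, hg.1 m hm], ?_⟩
    rcases hg.2 with h1 | h1 <;> rcases hh.2 with h2 | h2
    · exact .inl (K.mul_mem h1 h2)
    · exact .inr fun m hm => by rw [mul_assoc]; exact K.mul_mem h1 (h2 m hm)
    · refine .inr fun m hm => ?_
      rw [mul_assoc, (commute_sgn_of_fix (hh.1 m hm)).eq, ← mul_assoc]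
      exact K.mul_mem (h1 m hm) h2
    · by_cases hS : ∃ m, m ∉ S
      · obtain ⟨m, hm⟩ := hS
        left
        have := K.mul_mem (h1 m hm) (h2 m hm)
        rwa [mul_assoc, ← mul_assoc (sgn m), ← (commute_sgn_of_fix (hh.1 m hm)).eq, mul_assoc h,
          sgn_mul_self, mul_one] at this
      · exact .inr fun m hm => absurd ⟨m, hm⟩ hS
  one_mem' := ⟨fun m _ => ap_one _, .inl K.one_mem⟩
  inv_mem' {g} hg := by
    have hf : ∀ m, m ∉ S → ap g⁻¹ (unitVec m) = unitVec m := fun m hm => ap_inj g (by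
      rw [ap_ap_inv, hg.1 m hm])
    refine ⟨hf, hg.2.imp K.inv_mem fun h m hm => ?_⟩
    have := K.inv_mem (h m hm)
    rwa [_root_.mul_inv_rev, sgn_inv, ← (commute_sgn_of_fix (hf m hm)).eq] at this

theorem mem_inner_iff {S : Finset ι} {g : Grp} : g ∈ inner K S ↔
    (∀ m, m ∉ S → ap g (unitVec m) = unitVec m) ∧ (g ∈ K ∨ ∀ m, m ∉ S → g * sgn m ∈ K) := Iff.rfl

theorem inner_fix_coord (hK : Over K) {S : Finset ι} {g : Grp} (hg : g ∈ inner K S) {m : ι}
    (hm : m ∉ S) (x : ι → F) : ap g x m = x m := by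
  have h := dot_ap hK.two g x (unitVec m)
  rwa [hg.1 m hm, dot_unitVec, dot_unitVec] at h

theorem sgn_mem_inner (hK : Over K) {S : Finset ι} {i : ι} (hi : i ∈ S) : sgn i ∈ inner K S :=
  ⟨fun _ hm => sgn_ap_ne fun h => hm (h ▸ hi), .inr fun m _ => hK.sgn_mul_sgn i m⟩

theorem cyc_mem_inner (hK : Over K) {S : Finset ι} {a b c : ι} (hab : a ≠ b) (hac : a ≠ c)
    (hbc : b ≠ c) (ha : a ∈ S) (hb : b ∈ S) (hc : c ∈ S) : permIso (cyc a b c) ∈ inner K S :=
  ⟨fun m hm => by
    rw [permIso_unitVec, cyc_ne (fun h => hm (by rw [h]; exact ha)) (fun h => hm (by rw [h]; exact hb))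
      (fun h => hm (by rw [h]; exact hc))],
    .inl (hK.cyc_mem hab hac hbc)⟩

/-- Membership in a smaller `inner`. -/
theorem mem_inner_of_fix (hK : Over K) {S T : Finset ι} (hS : ∃ m, m ∉ S) {g : Grp}
    (hg : g ∈ inner K S) (h : ∀ i, i ∉ T → ap g (unitVec i) = unitVec i) : g ∈ inner K T := by
  obtain ⟨m, hm⟩ := hS
  exact ⟨h, hg.2.imp id fun h' m' _ => (hK.sgn_mem_iff g m m').1 (h' m hm)⟩

theorem inner_mono_sub (hK : Over K) {S T : Finset ι} (hT : ∃ m, m ∉ T) (hTS : T ⊆ S) :
    inner K T ≤ inner K S := fun g hg => by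
  obtain ⟨m, hm⟩ := hT
  exact ⟨fun i hi => hg.1 i fun h => hi (hTS h),
    hg.2.imp id fun h' m' _ => (hK.sgn_mem_iff g m m').1 (h' m hm)⟩

theorem conj_perm_inner (hK : Over K) {S : Finset ι} {π : Equiv.Perm ι} (hπ : permIso π ∈ K)
    {g : Grp} (hg : g ∈ inner K S) :
    permIso π * g * (permIso π)⁻¹ ∈ inner K (S.image π) := by
  have hinv : ∀ m, ap (permIso π : Grp)⁻¹ (unitVec m) = unitVec (π.symm m) := fun m => by
    rw [permIso_inv, permIso_unitVec]; rfl
  refine ⟨fun m hm => ?_, hg.2.imp (fun h => K.mul_mem (K.mul_mem hπ h) (K.inv_mem hπ))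
    fun h m hm => ?_⟩
  · rw [ap_mul, ap_mul, hinv, hg.1 _ fun h => hm (Finset.mem_image.2 ⟨_, h, π.apply_symm_apply m⟩),
      permIso_unitVec, Equiv.apply_symm_apply]
  · have h' := K.mul_mem (K.mul_mem hπ (h (π.symm m) fun h =>
      hm (Finset.mem_image.2 ⟨_, h, π.apply_symm_apply m⟩))) (K.inv_mem hπ)
    have e : (sgn m : Grp) = permIso π * sgn (π.symm m) * (permIso π)⁻¹ := by
      rw [conj_sgn, permIso_unitVec, Equiv.apply_symm_apply]; rfl
    rw [e]
    convert h' using 1
    group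

/-- All members of `inner K T` are monomial. -/
def AllMono (K : Subgroup (IsoGrp (sq (ι := ι) (F := F)))) (T : Finset ι) : Prop :=
  ∀ g ∈ inner K T, Mono g

/-- An element of `inner K S` mapping some coordinate line to a coordinate line is monomial, when
the groups of one coordinate less are. -/
theorem mono_of_fix (hK : Over K) {S : Finset ι} (hS : ∃ m, m ∉ S) (hS3 : 3 ≤ S.card)
    (hsmall : ∀ i ∈ S, AllMono K (S.erase i)) {g : Grp} (hg : g ∈ inner K S) {i j : ι} (hi : i ∈ S)
    {c : F} (h : ap g (unitVec i) = c • unitVec j) : Mono g := by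
  have hjS : j ∈ S := by
    by_contra hj
    have h1 : ap g (unitVec i) = ap g (c • unitVec j) := by rw [h, map_smul, hg.1 j hj]
    exact hj (unitVec_inj (ap_inj g h1) ▸ hi)
  have hc : c = 1 ∨ c = -1 := mul_self_eq_one_iff.1 (by
    have := ap_row_self g i
    rwa [h, smul_dotProduct, dotProduct_smul, dot_unitVec, unitVec_same, smul_eq_mul, smul_eq_mul,
      mul_one] at this)
  obtain ⟨k, hk, hkm, hkji⟩ : ∃ k ∈ inner K S, Mono k ∧ ap k (unitVec j) = unitVec i := by
    rcases eq_or_ne i j with rfl | hij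
    · exact ⟨1, one_mem _, Mono.one, ap_one _⟩
    · obtain ⟨t, htS, hti, htj⟩ : ∃ t ∈ S, t ≠ i ∧ t ≠ j := by
        by_contra! hall
        have : S ⊆ {i, j} := fun t ht => by
          rcases eq_or_ne t i with rfl | h'
          · simp
          · simp [hall t ht h']
        have := (Finset.card_le_card this).trans Finset.card_le_two
        omega
      exact ⟨permIso (cyc j i t), cyc_mem_inner hK hij.symm (Ne.symm htj) (Ne.symm hti) hjS hi htS,
        mono_permIso _, by rw [permIso_unitVec, cyc_fst hij.symm (Ne.symm htj)]⟩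
  have key : ∀ k' ∈ inner K S, Mono k' → ap (k' * g) (unitVec i) = unitVec i → Mono g :=
    fun k' hk' hm' hf => by
      have h1 : Mono (k' * g) := hsmall i hi _ (mem_inner_of_fix hK hS (mul_mem hk' hg) fun m hm => by
        rcases eq_or_ne m i with rfl | hmi
        · exact hf
        · exact (mul_mem hk' hg).1 m fun h' => hm (Finset.mem_erase.2 ⟨hmi, h'⟩))
      simpa using hm'.inv.mul h1
  rcases hc with rfl | rfl
  · exact key k hk hkm (by rw [ap_mul, h, one_smul, hkji])
  · exact key (sgn i * k) (mul_mem (sgn_mem_inner hK hi) hk) ((mono_sgn i).mul hkm)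
      (by rw [ap_mul, h, ap_mul, map_smul, hkji, map_smul, sgn_ap_same, neg_one_smul, neg_neg])

instance : Finite (IsoGrp (sq (ι := ι) (F := F))) :=
  Finite.of_injective (fun g => ((g : GL ι F) : Matrix ι ι F))
    fun _ _ hgh => Subtype.ext (Units.ext hgh)

theorem even_order_of_neg (h2 : (2 : F) ≠ 0) {x : Grp} {w : ι → F} (hw : w ≠ 0)
    (h : ap x w = -w) : Even (orderOf x) := by
  by_contra ho
  have hp : ∀ k : ℕ, ap (x ^ k) w = (-1 : F) ^ k • w := fun k => by
    induction k with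
    | zero => simp
    | succ k ih => rw [pow_succ, ap_mul, h, map_neg, ih, pow_succ, mul_neg_one, neg_smul]
  have h1 := hp (orderOf x)
  rw [pow_orderOf_eq_one, ap_one, (Nat.not_even_iff_odd.1 ho).neg_one_pow, neg_one_smul] at h1
  exact hw (by
    have : (2 : F) • w = 0 := by linear_combination (norm := module) h1
    exact (smul_eq_zero.1 this).resolve_left h2)

theorem even_order_of_dick (h2 : (2 : F) ≠ 0) {x : Grp} (h : dick x = -1) : Even (orderOf x) := by
  by_contra ho
  have h1 := map_pow (dickHom (good_sq h2)) x (orderOf x)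
  rw [pow_orderOf_eq_one, map_one, dickHom_apply, h, (Nat.not_even_iff_odd.1 ho).neg_one_pow] at h1
  omega

theorem finrank_resSpace_conj (g a : Grp) :
    finrank F (resSpace (g * a * g⁻¹)) = finrank F (resSpace a) := by
  have h : resSpace (g * a * g⁻¹) = (resSpace a).map (ap g) := by
    ext w
    simp only [mem_resSpace, Submodule.mem_map]
    constructor
    · rintro ⟨x, rfl⟩
      exact ⟨_, ⟨ap g⁻¹ x, rfl⟩, by simp⟩
    · rintro ⟨y, ⟨x, rfl⟩, rfl⟩
      exact ⟨ap g x, by simp⟩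
  rw [h]
  exact (Submodule.equivMapOfInjective (ap g) (fun _ _ e => ap_inj g e) _).finrank_eq.symm

theorem even_order_of_finrank {d a : Grp} (hd : d * d = 1) (ha : a * a = 1)
    (h : finrank F (resSpace d) ≠ finrank F (resSpace a)) : Even (orderOf (d * a)) := by
  by_contra ho
  obtain ⟨k, hk⟩ := Nat.not_even_iff_odd.1 ho
  refine h ?_
  set x := d * a with hx
  have hd' : d⁻¹ = d := inv_eq_of_mul_eq_one_right hd
  have ha' : a⁻¹ = a := inv_eq_of_mul_eq_one_right ha
  have hxi : a * x * a⁻¹ = x⁻¹ := by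
    rw [hx, _root_.mul_inv_rev, ha', hd', mul_assoc, mul_assoc, ha, mul_one]
  have e : a * x ^ k = (x ^ k)⁻¹ * a := by
    rw [← inv_pow, ← hxi, conj_pow, mul_assoc, inv_mul_cancel, mul_one]
  have h1 : x ^ (k + 1) * a * (x ^ (k + 1))⁻¹ = d := by
    have hpk : x ^ (k + 1) = (x ^ k)⁻¹ := eq_inv_of_mul_eq_one_left (by
      rw [← pow_add, show k + 1 + k = orderOf x by omega, pow_orderOf_eq_one])
    calc x ^ (k + 1) * a * (x ^ (k + 1))⁻¹ = (x ^ k)⁻¹ * a * x ^ k := by rw [hpk, inv_inv]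
      _ = a * (x ^ k * x ^ k) := by rw [← e, mul_assoc]
      _ = a * x⁻¹ := by
        congr 1
        refine eq_inv_of_mul_eq_one_left ?_
        rw [← pow_add, ← pow_succ, show k + k + 1 = orderOf x by omega, pow_orderOf_eq_one]
      _ = d := by rw [hx, _root_.mul_inv_rev, ha', hd', ← mul_assoc, ha, one_mul]
  rw [← h1, finrank_resSpace_conj]

theorem even_finrank_of_omega (h2 : (2 : F) ≠ 0) {z : Grp} (hz : z ∈ Omega F ⇑(sq)) :
    Even (finrank F (resSpace z)) := by
  have := ((mem_omega_iff (good_sq h2) z).1 hz).1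
  rw [dick] at this
  exact (neg_one_pow_eq_one_iff_even (by norm_num)).1 this

/-- The reflection in `v` times a sign change lies in `K`. -/
def InR (K : Subgroup (IsoGrp (sq (ι := ι) (F := F)))) (v : ι → F) : Prop :=
  ∀ m, refl sq v * sgn m ∈ K

theorem InR.of_one (hK : Over K) {v : ι → F} {m : ι} (h : refl sq v * sgn m ∈ K) : InR K v :=
  fun m' => (hK.sgn_mem_iff _ m m').1 h

theorem inR_unitVec (hK : Over K) (i : ι) : InR K (unitVec i) := fun m => hK.sgn_mul_sgn i m

theorem inR_refl {u v : ι → F} (hu : InR K u) (hv : InR K v) :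
    InR K (ap (refl sq u) v) := fun m => by
  rw [← conj_refl, refl_inv]
  have := K.mul_mem (K.mul_mem (hu m) (K.inv_mem (hv m))) (hu m)
  rwa [_root_.mul_inv_rev, refl_inv, sgn_inv, mul_assoc (refl sq u), ← mul_assoc (sgn m) (sgn m),
    sgn_mul_self, one_mul, ← mul_assoc] at this

theorem inR_of_inner (hK : Over K) {S : Finset ι} (hS : ∃ m, m ∉ S) {v : ι → F} (hv : sq v ≠ 0)
    (h : refl sq v ∈ inner K S) : InR K v := by
  obtain ⟨m, hm⟩ := hS
  rcases h.2 with h1 | h1
  · have := ((mem_omega_iff (good_sq hK.two) _).1 (hK.le h1)).1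
    rw [dick_refl (sq_nd hK.two) hv] at this
    omega
  · exact InR.of_one hK (h1 m hm)

theorem InR.sgn (hK : Over K) {v : ι → F} (h : InR K v) (i : ι) : InR K (ap (Frame.sgn i) v) :=
  inR_refl (inR_unitVec hK i) h

theorem InR.perm {v : ι → F} (h : InR K v) {π : Equiv.Perm ι} (hπ : permIso π ∈ K) :
    InR K (ap (permIso π) v) := fun m => by
  have h1 := K.mul_mem (K.mul_mem hπ (h (π.symm m))) (K.inv_mem hπ)
  have e : (Frame.sgn m : Grp) = permIso π * Frame.sgn (π.symm m) * (permIso π)⁻¹ := by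
    rw [conj_sgn, permIso_unitVec, Equiv.apply_symm_apply]; rfl
  rw [← conj_refl, e]
  convert h1 using 1
  group

/-- Members of `inner K S` preserve `InR`. -/
theorem InR.ap_inner (hK : Over K) {S : Finset ι} (hS : ∃ m, m ∉ S) {v : ι → F} (h : InR K v)
    {g : Grp} (hg : g ∈ inner K S) : InR K (ap g v) := by
  have hS' := hS
  obtain ⟨m, hm⟩ := hS
  have key : ∀ k ∈ K, ap k (unitVec m) = ap g (unitVec m) ∨ ap k (unitVec m) = -ap g (unitVec m) →
      ∀ w, InR K w → InR K (ap k w) := by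
    intro k hk hkm w hw
    refine InR.of_one hK (m := m) ?_
    have hc : Commute k (Frame.sgn m) := commute_refl_of_fix (by rwa [hg.1 m hm] at hkm)
    rw [← conj_refl]
    have := K.mul_mem (K.mul_mem hk (hw m)) (K.inv_mem hk)
    rwa [mul_assoc (k * refl sq w), hc.inv_left.eq, ← mul_assoc, mul_assoc k]
  rcases hg.2 with h1 | h1
  · exact key g h1 (.inl rfl) v h
  · have := key (g * Frame.sgn m) (h1 m hm)
      (.inr (by rw [ap_mul, sgn_ap_same, map_neg])) _ (h.sgn hK m)
    rwa [ap_mul, ← ap_mul (Frame.sgn m), sgn_mul_self, ap_one] at this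

/-- The stabiliser of a vector. -/
def fixVec (y : ι → F) : Subgroup (IsoGrp (sq (ι := ι) (F := F))) where
  carrier := {g | ap g y = y}
  mul_mem' {g h} hg hh := by
    show ap (g * h) y = y
    rw [ap_mul, hh, hg]
  one_mem' := ap_one _
  inv_mem' {g} hg := ap_inj g (by rw [ap_ap_inv, hg])

end Cfsg.Agent.Orth.Frame
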