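import Cfsg.Agent.Lib.Orth.Frame.Plane
import Cfsg.Agent.Lib.Orth.Frame.Group

/-!
# A non-monomial element of an overgroup may be taken to fix a coordinate vector

`exists_fix_line` : for `|ι| ≥ 10`, some non-monomial member of `K` maps a coordinate line to one.
-/

set_option autoImplicit false
set_option linter.unusedSectionVars false

namespace Cfsg.Agent.Orth.Frame

open Cfsg Matrix Module Cfsg.Agent.Orth
open QuadraticMap (polar)
open scoped Classical

variable {ι : Type} [Fintype ι] [DecidableEq ι] {F : Type*} [Field F] [Fintype F]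

local notation "Grp" => IsoGrp (sq (ι := ι) (F := F))

variable {K : Subgroup (IsoGrp (sq (ι := ι) (F := F)))}

/-- Every member of `K` mapping some coordinate line to a coordinate line is monomial. -/
def Rigid (K : Subgroup (IsoGrp (sq (ι := ι) (F := F)))) : Prop :=
  ∀ g ∈ K, (∃ (i j : ι) (c : F), ap g (unitVec i) = c • unitVec j) → Mono g

/-- The support. -/
noncomputable def supp (x : ι → F) : Finset ι := Finset.univ.filter fun m => x m ≠ 0

theorem mem_supp {x : ι → F} {m : ι} : m ∈ supp x ↔ x m ≠ 0 := by simp [supp]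

theorem notMem_supp {x : ι → F} {m : ι} : m ∉ supp x ↔ x m = 0 := by simp [supp]

theorem Mono.of_inv {g : Grp} (h : Mono g⁻¹) : Mono g := inv_inv g ▸ h.inv

theorem conj_invol {g d : Grp} (hd : d * d = 1) : (g * d * g⁻¹) * (g * d * g⁻¹) = 1 := by
  rw [show g * d * g⁻¹ * (g * d * g⁻¹) = g * (d * d) * g⁻¹ by group, hd, mul_one, mul_inv_cancel]

theorem res_even (hK : Over K) {z : Grp} (hz : z ∈ K) : Even (finrank F (resSpace z)) :=
  even_finrank_of_omega hK.two (hK.le hz)

theorem res_pos {z : Grp} (hz : z ≠ 1) : 0 < finrank F (resSpace z) :=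
  Nat.pos_of_ne_zero fun h => hz (eq_one_of_resSpace_eq_bot (Submodule.finrank_eq_zero.1 h))

theorem moved_le (h2 : (2 : F) ≠ 0) {z : Grp} (hm : Mono z) (hz : z * z = 1) :
    (moved z).card ≤ 2 * finrank F (resSpace z) :=
  le_trans (Nat.le_add_right _ _) (card_moved_add_le h2 hm hz)

theorem resSpace_le_of_fix (h2 : (2 : F) ≠ 0) {t : Grp} (S : Submodule F (ι → F))
    (h : ∀ x ∈ perpSub (sq (ι := ι) (F := F)) S, ap t x = x) : resSpace t ≤ S := by
  intro v hv
  rw [← perpSub_perpSub (sq_nd h2) S]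
  exact fun w hw => polar_fix_resSpace (h w hw) hv

/-- Vectors negated and vectors fixed by an involution inside a subspace. -/
theorem finrank_inv_le (h2 : (2 : F) ≠ 0) {z : Grp} (hz : z * z = 1) (S : Submodule F (ι → F))
    (hS : resSpace z ≤ S) :
    finrank F (resSpace z) + finrank F (fixSpace z ⊓ S : Submodule F (ι → F)) ≤ finrank F S := by
  have hb : resSpace z ⊓ (fixSpace z ⊓ S) = ⊥ := by
    rw [eq_bot_iff]
    intro x hx
    have h1 := neg_of_mem_resSpace hz hx.1
    rw [mem_fixSpace.1 hx.2.1] at h1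
    rw [Submodule.mem_bot]
    have : (2 : F) • x = 0 := by linear_combination (norm := module) h1
    exact (smul_eq_zero.1 this).resolve_left h2
  rw [← Submodule.finrank_sup_add_finrank_inf_eq, hb, finrank_bot, add_zero]
  exact Submodule.finrank_mono (sup_le hS inf_le_right)

theorem zero_of_fix_neg (h2 : (2 : F) ≠ 0) {z : Grp} {x : ι → F} (hx : ap z x = x) {m : ι}
    (hm : ap z (unitVec m) = -unitVec m) : x m = 0 := by
  have h := dot_ap h2 z x (unitVec m)
  rw [hx, hm, dotProduct_neg, dot_unitVec] at h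
  exact (mul_eq_zero.1 (show 2 * x m = 0 by linear_combination -h)).resolve_left h2

/-- Rows supported in a common set of coordinates. -/
theorem card_rows_le (h : Grp) {A M : Finset ι} (hA : ∀ k ∈ A, supp (ap h (unitVec k)) ⊆ M) :
    A.card ≤ M.card := by
  rw [← finrank_span3 (F := F) A, ← finrank_span3 (F := F) M,
    (Submodule.equivMapOfInjective (ap h) (fun _ _ e => ap_inj h e) (span3 A)).finrank_eq]
  refine Submodule.finrank_mono ?_
  rintro _ ⟨x, hx, rfl⟩
  rw [eq_sum_unitVec x, map_sum]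
  refine Submodule.sum_mem _ fun k _ => ?_
  rw [map_smul]
  by_cases hk : k ∈ A
  · exact Submodule.smul_mem _ _ fun m hm => notMem_supp.1 fun h' => hm (hA k hk h')
  · rw [hx k hk, zero_smul]; exact Submodule.zero_mem _

/-- A negated vector with an odd support of size three forces a negated coordinate. -/
theorem supp_eq_moved (h2 : (2 : F) ≠ 0) {z : Grp} (hm : Mono z) (hz : z * z = 1)
    (hr : finrank F (resSpace z) ≤ 2) {y : ι → F} (hy : ap z y = -y) (h3 : 3 ≤ (supp y).card) :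
    moved z = supp y := by
  have hsub : supp y ⊆ moved z := fun m hm' => by
    by_contra h
    exact mem_supp.1 hm' (eq_zero_of_neg_fix h2 hy h)
  refine (Finset.eq_of_subset_of_card_le hsub ?_).symm
  have hcard := card_moved_add_le h2 hm hz
  by_contra hlt
  push Not at hlt
  obtain ⟨σ, c, hc, hσ, hc1, -⟩ := hm.exists_perm h2 hz
  have hinv : ∀ m ∈ supp y, σ m ∈ supp y := fun m hm' => by
    have := neg_vec_perm h2 hc hy m
    rw [mem_supp] at hm' ⊢
    intro h0
    rw [h0, mul_zero] at this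
    exact hm' (by linear_combination this)
  have h3' : (supp y).card = 3 := by omega
  obtain ⟨a, b, e, hab, hae, hbe, he⟩ := Finset.card_eq_three.1 h3'
  obtain ⟨f, hf, hff⟩ : ∃ f ∈ supp y, σ f = f := by
    by_contra! hno
    have hcases : ∀ m ∈ supp y, σ m = a ∨ σ m = b ∨ σ m = e := fun m hm' => by
      simpa [he] using hinv m hm'
    have ha : a ∈ supp y := by rw [he]; simp
    have hb : b ∈ supp y := by rw [he]; simp
    have he' : e ∈ supp y := by rw [he]; simp
    have hinj : Function.Injective σ := Function.LeftInverse.injective hσ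
    have A := hσ a
    have B := hσ b
    have E := hσ e
    rcases hcases a ha with h1 | h1 | h1 <;> rcases hcases b hb with h4 | h4 | h4 <;>
      rcases hcases e he' with h5 | h5 | h5 <;> rw [h1] at A <;> rw [h4] at B <;> rw [h5] at E <;>
      first
        | exact hno a ha h1
        | exact hno b hb h4
        | exact hno e he' h5
        | exact hab (hinj (h1.trans h4.symm))
        | exact hae (hinj (h1.trans h5.symm))
        | exact hbe (hinj (h4.trans h5.symm))
        | simp_all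
  have hneg : f ∈ Finset.univ.filter fun i : ι => ap z (unitVec i) = -unitVec i := by
    refine Finset.mem_filter.2 ⟨Finset.mem_univ _, ?_⟩
    have hmv := hsub hf
    rw [hc, hff]
    rcases hc1 f with e' | e'
    · exact absurd (by rw [hc, hff, e', one_smul]) (Finset.mem_filter.1 hmv).2
    · rw [e', neg_one_smul]
  have := Finset.card_pos.2 ⟨f, hneg⟩
  omega

variable (hK : Over K) (hR : Rigid K) (hn : 10 ≤ Fintype.card ι)
include hK hR hn

/-- Fusion: if `g d_ij g⁻¹` is monomial then so is `g`. -/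
theorem mono_of_conj_mono {g : Grp} (hg : g ∈ K) {i j : ι} (hij : i ≠ j)
    (hm : Mono (g * (sgn i * sgn j) * g⁻¹)) : Mono g := by
  have h2 := hK.two
  obtain ⟨h, rfl⟩ : ∃ h, g = h⁻¹ := ⟨g⁻¹, (inv_inv g).symm⟩
  have hh : h ∈ K := inv_inv h ▸ K.inv_mem hg
  rw [inv_inv] at hm
  have hd := flip_pair (F := F) hij
  have hres : finrank F (resSpace (h⁻¹ * (sgn i * sgn j) * h : Grp)) = 2 := by
    have := finrank_resSpace_conj h⁻¹ (sgn i * sgn j : Grp)
    rw [inv_inv] at this
    rw [this, hd.finrank h2, Finset.card_pair hij]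
  have hsq : h⁻¹ * (sgn i * sgn j) * h * (h⁻¹ * (sgn i * sgn j) * h) = 1 := by
    have := conj_invol (g := h⁻¹) hd.mul_self
    rwa [inv_inv] at this
  have hmv := moved_le h2 hm hsq
  obtain ⟨O, hO⟩ : ∃ O : Finset ι, O = (moved (h⁻¹ * (sgn i * sgn j) * h : Grp))ᶜ := ⟨_, rfl⟩
  have hOc : 6 ≤ O.card := by rw [hO, Finset.card_compl]; omega
  have hrow : ∀ k ∈ O, ap h (unitVec k) i = 0 ∧ ap h (unitVec k) j = 0 := by
    intro k hk
    rw [hO, Finset.mem_compl, notMem_moved, ap_mul, ap_mul] at hk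
    have h1 : ap (sgn i * sgn j) (ap h (unitVec k)) = ap h (unitVec k) :=
      ap_inj h⁻¹ (by rw [hk, ap_inv_ap])
    have := (hd.fix_iff h2 _).1 h1
    exact ⟨this i (by simp), this j (by simp)⟩
  have hgi : ∀ k ∈ O, ap h⁻¹ (unitVec i) k = 0 := fun k hk => by
    rw [ap_coord h2, inv_inv]; exact (hrow k hk).1
  -- pairs of rows
  have hpair : ∀ k ∈ O, ∀ l ∈ O, k ≠ l → 3 ≤ (supp (ap h (unitVec k))).card →
      supp (ap h (unitVec l)) ⊆ supp (ap h (unitVec k)) ∧ (supp (ap h (unitVec k))).card ≤ 4 := by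
    intro k hk l hl hkl h3
    have hd' := flip_pair (F := F) hkl
    obtain ⟨x, hx⟩ : ∃ x : Grp, x = h * (sgn k * sgn l) * h⁻¹ := ⟨_, rfl⟩
    have hxK : x ∈ K := hx ▸ K.mul_mem (K.mul_mem hh (hK.sgn_mul_sgn k l)) hg
    have hxm : Mono x := hR x hxK ⟨i, i, 1, by
      rw [hx, ap_mul, ap_mul, (hd'.fix_iff h2 _).2 (fun m hm' => ?_), ap_ap_inv, one_smul]
      simp only [Finset.mem_insert, Finset.mem_singleton] at hm'
      rcases hm' with rfl | rfl
      · exact hgi m hk
      · exact hgi m hl⟩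
    have hxx : x * x = 1 := hx ▸ conj_invol hd'.mul_self
    have hxr : finrank F (resSpace x) = 2 := by
      rw [hx, finrank_resSpace_conj, hd'.finrank h2, Finset.card_pair hkl]
    have hneg : ∀ m, m = k ∨ m = l → ap x (ap h (unitVec m)) = -ap h (unitVec m) := fun m hm' => by
      rw [hx, ap_mul, ap_mul, ap_inv_ap, (hd'.neg_iff h2 _).2 (unitVec_mem_span3 (by
        simpa using hm')), map_neg]
    have hM := supp_eq_moved h2 hxm hxx hxr.le (hneg k (.inl rfl)) h3
    refine ⟨fun m hm' => ?_, ?_⟩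
    · rw [← hM]
      by_contra h'
      exact mem_supp.1 hm' (eq_zero_of_neg_fix h2 (hneg l (.inr rfl)) h')
    · rw [← hM]; have := moved_le h2 hxm hxx; omega
  have hsmall : ∀ k ∈ O, (supp (ap h (unitVec k))).card ≤ 2 := by
    intro k hk
    by_contra hlt
    obtain ⟨l, hl, hlk⟩ := Finset.exists_mem_ne (show 1 < O.card by omega) k
    have h4 := (hpair k hk l hl hlk.symm (by omega)).2
    have := card_rows_le h (A := O) (M := supp (ap h (unitVec k))) fun l hl => by
      rcases eq_or_ne k l with rfl | hkl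
      · exact subset_rfl
      · exact (hpair k hk l hl hkl (by omega)).1
    omega
  by_cases hone : ∃ k ∈ O, (supp (ap h (unitVec k))).card ≤ 1
  · obtain ⟨k, -, hk1⟩ := hone
    refine (hR h hh ?_).inv
    have hne : (supp (ap h (unitVec k))).Nonempty := by
      rw [Finset.nonempty_iff_ne_empty]
      intro he
      have := ap_row_self h k
      rw [show ap h (unitVec k) = 0 from funext fun m => notMem_supp.1 (by rw [he]; simp)] at this
      simp at this
    obtain ⟨m, hm'⟩ := hne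
    exact ⟨k, m, _, eq_smul_unitVec fun t ht => notMem_supp.1 fun h' =>
      ht (Finset.card_le_one.1 hk1 t h' m hm')⟩
  push Not at hone
  have htwo : ∀ k ∈ O, (supp (ap h (unitVec k))).card = 2 := fun k hk => by
    have := hsmall k hk; have := hone k hk; omega
  have hdisj : ∀ k ∈ O, ∀ l ∈ O, supp (ap h (unitVec k)) ≠ supp (ap h (unitVec l)) →
      ∀ m, m ∈ supp (ap h (unitVec k)) → m ∉ supp (ap h (unitVec l)) := by
    intro k hk l hl hne m hmk hml
    have hsum := ap_row_orth h2 h (show k ≠ l from fun e => hne (by rw [e]))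
    rw [dotProduct, Finset.sum_eq_single m] at hsum
    · exact mul_ne_zero (mem_supp.1 hmk) (mem_supp.1 hml) hsum
    · intro t _ htm
      by_contra h'
      rw [mul_eq_zero, not_or] at h'
      have e1 : ({m, t} : Finset ι) = supp (ap h (unitVec k)) := Finset.eq_of_subset_of_card_le
        (by simp [Finset.insert_subset_iff, hmk, mem_supp.2 h'.1])
        (by rw [htwo k hk, Finset.card_pair htm.symm])
      have e2 : ({m, t} : Finset ι) = supp (ap h (unitVec l)) := Finset.eq_of_subset_of_card_le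
        (by simp [Finset.insert_subset_iff, hml, mem_supp.2 h'.2])
        (by rw [htwo l hl, Finset.card_pair htm.symm])
      exact hne (e1.symm.trans e2)
    · simp
  obtain ⟨k1, hk1⟩ := Finset.card_pos.1 (show 0 < O.card by omega)
  have hsame := card_rows_le h
    (A := O.filter fun k => supp (ap h (unitVec k)) = supp (ap h (unitVec k1)))
    (M := supp (ap h (unitVec k1))) fun k hk => (Finset.mem_filter.1 hk).2.le
  rw [htwo k1 hk1] at hsame
  have hsplit := Finset.card_filter_add_card_filter_not (s := O)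
    (fun k => supp (ap h (unitVec k)) = supp (ap h (unitVec k1)))
  obtain ⟨k2, hk2, k3, hk3, h23⟩ := Finset.one_lt_card.1 (show 1 <
    (O.filter fun k => ¬supp (ap h (unitVec k)) = supp (ap h (unitVec k1))).card by omega)
  obtain ⟨hk2, hne2⟩ := Finset.mem_filter.1 hk2
  obtain ⟨hk3, hne3⟩ := Finset.mem_filter.1 hk3
  have h12 : k1 ≠ k2 := fun e => hne2 (by rw [e])
  have h13 : k1 ≠ k3 := fun e => hne3 (by rw [e])
  exfalso
  obtain ⟨t, ht⟩ := Finset.card_pos.1 (show 0 < (supp (ap h (unitVec k1))).card by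
    rw [htwo k1 hk1]; omega)
  have ht2 := notMem_supp.1 (hdisj k1 hk1 k2 hk2 (Ne.symm hne2) t ht)
  have ht3 := notMem_supp.1 (hdisj k1 hk1 k3 hk3 (Ne.symm hne3) t ht)
  obtain ⟨x, hx⟩ : ∃ x : Grp, x = h * permIso (cyc k1 k2 k3) * h⁻¹ := ⟨_, rfl⟩
  have hfixv : ∀ v : ι → F, v k1 = 0 → v k2 = 0 → v k3 = 0 →
      ap (permIso (cyc k1 k2 k3) : Grp) v = v := by
    intro v e1 e2 e3
    funext s
    obtain ⟨s, rfl⟩ := (cyc k1 k2 k3).surjective s
    rw [permIso_coord]
    by_cases a1 : s = k1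
    · subst a1; rw [cyc_fst h12 h13, e1, e2]
    by_cases a2 : s = k2
    · subst a2; rw [cyc_snd h13 h23, e2, e3]
    by_cases a3 : s = k3
    · subst a3; rw [cyc_thd, e3, e1]
    rw [cyc_ne a1 a2 a3]
  have hxm : Mono x := hR x (hx ▸ K.mul_mem (K.mul_mem hh (hK.cyc_mem h12 h13 h23)) hg) ⟨i, i, 1, by
    rw [hx, ap_mul, ap_mul, hfixv _ (hgi k1 hk1) (hgi k2 hk2) (hgi k3 hk3), ap_ap_inv, one_smul]⟩
  obtain ⟨c, hc⟩ : ∃ c : F, c = ap h⁻¹ (unitVec t) k1 := ⟨_, rfl⟩
  have hcc : c = ap h (unitVec k1) t := by rw [hc, ap_coord h2, inv_inv]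
  have hc0 : c ≠ 0 := hcc ▸ mem_supp.1 ht
  have hz : ∀ k, ap h (unitVec k) t = 0 → ap h⁻¹ (unitVec t) k = 0 := fun k hk => by
    rw [ap_coord h2, inv_inv, hk]
  have hv : ap x (unitVec t) =
      unitVec t - c • ap h (unitVec k1) + c • ap h (unitVec k2) := by
    have e : ap (permIso (cyc k1 k2 k3) : Grp) (ap h⁻¹ (unitVec t)) =
        ap h⁻¹ (unitVec t) - c • unitVec k1 + c • unitVec k2 := by
      conv_lhs => rw [show ap h⁻¹ (unitVec t) = (ap h⁻¹ (unitVec t) - c • unitVec k1) +
        c • unitVec k1 by abel]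
      rw [map_add, map_smul, permIso_unitVec, cyc_fst h12 h13, hfixv]
      · simp [hc, unitVec_same]
      · simp [hz k2 ht2, unitVec_ne h12.symm]
      · simp [hz k3 ht3, unitVec_ne h13.symm]
    rw [hx, ap_mul, ap_mul, e, map_add, map_sub, map_smul, map_smul, ap_ap_inv]
  obtain ⟨m1, hm1, m2, hm2, hm12⟩ := Finset.one_lt_card.1
    (show 1 < (supp (ap h (unitVec k2))).card by rw [htwo k2 hk2]; omega)
  obtain ⟨j', e', he'⟩ := hxm t
  have hval : ∀ m ∈ supp (ap h (unitVec k2)), j' = m := fun m hm' => by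
    by_contra hne
    have h0 := congrFun (hv.symm.trans he') m
    have hmt : m ≠ t := fun e => (mem_supp.1 hm') (e ▸ ht2)
    simp [unitVec_ne hmt, unitVec_ne (Ne.symm hne), mem_supp.1 hm', hc0,
      notMem_supp.1 (hdisj k2 hk2 k1 hk1 hne2 m hm')] at h0
  exact hm12 ((hval m1 hm1).symm.trans (hval m2 hm2))

/-- Two rows vanishing at the same coordinate: monomial. -/
theorem mono_of_zero {g : Grp} (hg : g ∈ K) {p q m : ι} (hpq : p ≠ q)
    (hp : ap g (unitVec p) m = 0) (hq : ap g (unitVec q) m = 0) : Mono g := by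
  have h2 := hK.two
  refine mono_of_conj_mono hK hR hn hg hpq (hR _
    (K.mul_mem (K.mul_mem hg (hK.sgn_mul_sgn p q)) (K.inv_mem hg)) ⟨m, m, 1, ?_⟩)
  rw [ap_mul, ap_mul, ((flip_pair (F := F) hpq).fix_iff h2 _).2 (fun t ht => ?_), ap_ap_inv,
    one_smul]
  rw [← ap_coord h2]
  simp only [Finset.mem_insert, Finset.mem_singleton] at ht
  rcases ht with rfl | rfl <;> assumption

theorem mono_of_commute_flip {g d : Grp} (hg : g ∈ K) {Q : Finset ι} (hd : Flip Q d)
    (hQ : 2 ≤ Q.card) {m : ι} (hm : m ∉ Q) (hc : Commute g d) : Mono g := by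
  obtain ⟨p, hp, q, hq, hpq⟩ := Finset.one_lt_card.1 (show 1 < Q.card by omega)
  have key : ∀ t ∈ Q, ap g (unitVec t) m = 0 := fun t ht =>
    (hd.neg_iff hK.two (ap g (unitVec t))).1 (by
      rw [← ap_mul, ← hc.eq, ap_mul, (hd.neg_iff hK.two _).2 (unitVec_mem_span3 ht), map_neg]) m hm
  exact mono_of_zero hK hR hn hg hpq (key p hp) (key q hq)

/-- A vector of a plane with two zero coordinates. -/
theorem plane_pair {g : Grp} (hg : g ∈ K) (hgm : ¬ Mono g) {p q i j : ι} (hpq : p ≠ q)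
    (hij : i ≠ j) {u : ι → F} (hu : u ∈ plane g p q) (hu0 : u ≠ 0) (hui : u i = 0)
    (huj : u j = 0) :
    ((supp u).card ≤ 2 ∧ u ⬝ᵥ u ≠ 0 ∧ ∀ x ∈ plane g p q, x i ^ 2 = x j ^ 2) ∨
      ∃ y ∈ plane g p q, y ≠ 0 ∧ (supp y).card ≤ 4 ∧
        ∀ x ∈ plane g p q, ∃ k m : F, x = k • u + m • y := by
  have h2 := hK.two
  have hfull : ∀ m, ¬(ap g (unitVec p) m = 0 ∧ ap g (unitVec q) m = 0) := fun m h =>
    hgm (mono_of_zero hK hR hn hg hpq h.1 h.2)
  have hzall : ∀ {m}, (∀ x ∈ plane g p q, x m = 0) → False := fun h =>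
    hfull _ ⟨h _ (plane_fst g p q), h _ (plane_snd g p q)⟩
  have hd := flip_pair (F := F) hij
  have hd' := flip_pair (F := F) hpq
  obtain ⟨d, hdd⟩ : ∃ d : Grp, d = sgn i * sgn j := ⟨_, rfl⟩
  obtain ⟨a, ha⟩ : ∃ a : Grp, a = g * (sgn p * sgn q) * g⁻¹ := ⟨_, rfl⟩
  rw [← hdd] at hd
  have haneg : ∀ x, ap a x = -x ↔ x ∈ plane g p q := fun x => by
    rw [mem_plane_iff, ← hd'.neg_iff h2, ha, ap_mul, ap_mul]
    exact ⟨fun h => ap_inj g (by rw [h, map_neg, ap_ap_inv]), fun h => by
      rw [h, map_neg, ap_ap_inv]⟩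
  have haK : a ∈ K := ha ▸ K.mul_mem (K.mul_mem hg (hK.sgn_mul_sgn p q)) (K.inv_mem hg)
  have hdu : ap d u = u := (hd.fix_iff h2 u).2 (by simp [hui, huj])
  have heven : Even (orderOf (d * a)) := even_order_of_neg h2 hu0
    (by rw [ap_mul, (haneg u).2 hu, map_neg, hdu])
  obtain ⟨z, hz1, hzz, hzd, hza, hzH⟩ := exists_central hd.mul_self (ha ▸ conj_invol hd'.mul_self)
    heven
  have hzK : z ∈ K := hzH K (K.mul_mem (hdd ▸ hK.sgn_mul_sgn i j) haK)
  obtain ⟨m0, hm0⟩ : ∃ m0, m0 ∉ ({i, j} : Finset ι) := by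
    by_contra! hall
    have := (Finset.eq_univ_iff_forall.2 hall) ▸ (Finset.card_le_two : ({i, j} : Finset ι).card ≤ 2)
    rw [Finset.card_univ] at this
    omega
  have hzm : Mono z := mono_of_commute_flip hK hR hn hzK hd (by rw [Finset.card_pair hij]) hm0 hzd
  have hzW' : ∀ x ∈ plane g p q, ap z x ∈ plane g p q := fun x hx => (haneg _).1 (by
    rw [← ap_mul, ← hza.eq, ap_mul, (haneg x).2 hx, map_neg])
  obtain ⟨S, hSdef⟩ : ∃ S : Submodule F (ι → F), S = span3 {i, j} ⊔ plane g p q := ⟨_, rfl⟩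
  have hW2 : finrank F (span3 (F := F) ({i, j} : Finset ι)) = 2 := by
    rw [finrank_span3, Finset.card_pair hij]
  have hP2 := finrank_plane g hpq
  have hSadd := Submodule.finrank_sup_add_finrank_inf_eq (span3 (F := F) ({i, j} : Finset ι))
    (plane g p q)
  rw [hW2, hP2, ← hSdef] at hSadd
  have hresS : resSpace z ≤ S := resSpace_le_of_fix h2 S fun x hx => by
    have hperp : ∀ w ∈ S, w ⬝ᵥ x = 0 := fun w hw => by
      have := hx w hw
      change polar _ w x = 0 at this
      rw [polar_sq] at this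
      exact (mul_eq_zero.1 this).resolve_left h2
    refine hzH (fixVec x) (?_ : ap (d * a) x = x)
    have hax : ap a x = x := by
      rw [ha, ap_mul, ap_mul, (hd'.fix_iff h2 _).2 (fun t ht => ?_), ap_ap_inv]
      rw [← unitVec_dot (ap g⁻¹ x) t, ← dot_ap h2 g, ap_ap_inv]
      exact hperp _ (hSdef ▸ Submodule.mem_sup_right ⟨_, unitVec_mem_span3 ht, rfl⟩)
    rw [ap_mul, hax, hd.fix_iff h2]
    intro t ht
    rw [← unitVec_dot x t]
    exact hperp _ (hSdef ▸ Submodule.mem_sup_left (unitVec_mem_span3 ht))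
  have hSfix := finrank_inv_le h2 hzz S hresS
  have hev := res_even hK hzK
  have hpos := res_pos hz1
  have hmoved := moved_le h2 hzm hzz
  have hzu : ap z u = u ∨ ap z u = -u := by
    have hdzu : ap d (ap z u) = ap z u := by rw [← ap_mul, ← hzd.eq, ap_mul, hdu]
    obtain ⟨k, hk⟩ := plane_zero_at hpq hu (hzW' u hu) hu0 hui
      ((hd.fix_iff h2 _).1 hdzu i (by simp)) (hfull i)
    have h1 : ap z (ap z u) = u := by rw [← ap_mul, hzz, ap_one]
    rw [hk, map_smul, hk, smul_smul] at h1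
    have h3 : (k * k - 1) • u = 0 := by rw [sub_smul, h1, one_smul, sub_self]
    rcases mul_self_eq_one_iff.1 (sub_eq_zero.1 ((smul_eq_zero.1 h3).resolve_right hu0)) with
      rfl | rfl
    · exact .inl (by rw [hk, one_smul])
    · exact .inr (by rw [hk, neg_one_smul])
  have hWinf : finrank F S = 4 → ∀ x ∈ span3 (F := F) ({i, j} : Finset ι), x ∈ plane g p q → x = 0 := by
    intro h4 x hx hx'
    have h0 : span3 (F := F) ({i, j} : Finset ι) ⊓ plane g p q = ⊥ :=
      Submodule.finrank_eq_zero.1 (by omega)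
    have hmem : x ∈ span3 (F := F) ({i, j} : Finset ι) ⊓ plane g p q := ⟨hx, hx'⟩
    rw [h0] at hmem
    exact (Submodule.mem_bot F).1 hmem
  rcases hzu with hzu | hzu
  · right
    obtain ⟨y, hy, hzy, hy0⟩ : ∃ y ∈ plane g p q, ap z y = -y ∧ y ≠ 0 := by
      by_contra! hall
      have hfix : ∀ x ∈ plane g p q, ap z x = x := fun x hx => sub_eq_zero.1 (hall _
        (sub_mem (hzW' x hx) hx) (by rw [map_sub, ← ap_mul, hzz, ap_one, neg_sub]))
      have hle : plane g p q ≤ fixSpace z ⊓ S := fun x hx =>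
        ⟨mem_fixSpace.2 (hfix x hx), hSdef ▸ Submodule.mem_sup_right hx⟩
      have hle2 := Submodule.finrank_mono hle
      rw [hP2] at hle2
      obtain ⟨r, hr⟩ := hev
      have heq := Submodule.eq_of_le_of_finrank_le hle (by rw [hP2]; omega)
      obtain ⟨w, hw⟩ : ∃ w : ι → F, w = ap z (unitVec i) + unitVec i := ⟨_, rfl⟩
      have hwW : w ∈ span3 (F := F) ({i, j} : Finset ι) := hw ▸ add_mem ((hd.neg_iff h2 _).1 (by
        rw [← ap_mul, ← hzd.eq, ap_mul, (hd.neg_iff h2 _).2 (unitVec_mem_span3 (by simp)), map_neg]))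
        (unitVec_mem_span3 (by simp))
      have hwP : w ∈ plane g p q := heq ▸ ⟨mem_fixSpace.2 (by
          rw [hw, map_add, ← ap_mul, hzz, ap_one, add_comm]),
        hSdef ▸ Submodule.mem_sup_left hwW⟩
      have hzi : ap z (unitVec i) = -unitVec i :=
        eq_neg_of_add_eq_zero_left (hw ▸ hWinf (by omega) w hwW hwP)
      exact hzall fun x hx => zero_of_fix_neg h2 (hfix x hx) hzi
    have hne : ∀ k : F, y ≠ k • u := fun k e => hy0 (by
      have h1 := hzy
      rw [e, map_smul, hzu] at h1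
      have : (2 : F) • (k • u) = 0 := by linear_combination (norm := module) h1
      rw [e]; exact (smul_eq_zero.1 this).resolve_left h2)
    refine ⟨y, hy, hy0, ?_, plane_decomp hpq hu hy hu0 hne⟩
    have h1 : 0 < finrank F (fixSpace z ⊓ S : Submodule F (ι → F)) := by
      have hmem : u ∈ fixSpace z ⊓ S := ⟨mem_fixSpace.2 hzu, hSdef ▸ Submodule.mem_sup_right hu⟩
      have hle : Submodule.span F {u} ≤ fixSpace z ⊓ S := by
        rwa [Submodule.span_singleton_le_iff_mem]
      have := Submodule.finrank_mono hle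
      rw [finrank_span_singleton hu0] at this
      omega
    have hsub : supp y ⊆ moved z := fun m hm => by
      by_contra h'
      exact mem_supp.1 hm (eq_zero_of_neg_fix h2 hzy h')
    have := Finset.card_le_card hsub
    obtain ⟨r, hr⟩ := hev
    omega
  · left
    obtain ⟨y, hy, hzy, hy0⟩ : ∃ y ∈ plane g p q, ap z y = y ∧ y ≠ 0 := by
      by_contra! hall
      have hneg : ∀ x ∈ plane g p q, ap z x = -x := fun x hx => eq_neg_of_add_eq_zero_left (hall _
        (add_mem (hzW' x hx) hx) (by rw [map_add, ← ap_mul, hzz, ap_one, add_comm]))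
      obtain ⟨m, hm⟩ : ∃ m, m ∉ moved z := by
        by_contra! hall'
        rw [Finset.eq_univ_iff_forall.2 hall', Finset.card_univ] at hmoved
        omega
      exact hzall fun x hx => eq_zero_of_neg_fix h2 (hneg x hx) hm
    have hne : ∀ k : F, y ≠ k • u := fun k e => hy0 (by
      have h1 := hzy
      rw [e, map_smul, hzu] at h1
      have : (2 : F) • (k • u) = 0 := by linear_combination (norm := module) -h1
      rw [e]; exact (smul_eq_zero.1 this).resolve_left h2)
    have huy : u ⬝ᵥ y = 0 := by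
      have h1 := dot_ap h2 z u y
      rw [hzu, hzy, neg_dotProduct] at h1
      exact (mul_eq_zero.1 (show 2 * (u ⬝ᵥ y) = 0 by linear_combination -h1)).resolve_left h2
    have hdec := plane_decomp hpq hu hy hu0 hne
    have hfy : 0 < finrank F (fixSpace z ⊓ S : Submodule F (ι → F)) := by
      have hle : Submodule.span F {y} ≤ fixSpace z ⊓ S := by
        rw [Submodule.span_singleton_le_iff_mem]
        exact ⟨mem_fixSpace.2 hzy, hSdef ▸ Submodule.mem_sup_right hy⟩
      have := Submodule.finrank_mono hle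
      rw [finrank_span_singleton hy0] at this
      omega
    obtain ⟨σ, c, hc, hσ, hc1, -⟩ := hzm.exists_perm h2 hzz
    have hinW : ∀ t ∈ ({i, j} : Finset ι), σ t ∈ ({i, j} : Finset ι) := fun t ht => by
      have h1 := (hd.neg_iff h2 (ap z (unitVec t))).1 (by
        rw [← ap_mul, ← hzd.eq, ap_mul, (hd.neg_iff h2 _).2 (unitVec_mem_span3 ht), map_neg])
      by_contra hnot
      have h3 := h1 _ hnot
      rw [hc, Pi.smul_apply, unitVec_same, smul_eq_mul, mul_one] at h3
      rcases hc1 t with e | e <;> rw [e] at h3 <;> simp at h3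
    rcases eq_or_ne (σ i) i with hi | hi
    · exfalso
      have hj : σ j = j := by
        rcases Finset.mem_insert.1 (hinW j (by simp)) with e | e
        · exact absurd ((hσ j).symm.trans ((congrArg σ e).trans hi)).symm hij
        · exact Finset.mem_singleton.1 e
      have hzero : ∀ t, u t = 0 → ap z (unitVec t) = -unitVec t → False := fun t hut hzt =>
        hzall (m := t) fun x hx => by
          obtain ⟨k, m, rfl⟩ := hdec x hx
          simp [hut, zero_of_fix_neg h2 hzy hzt]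
      rcases hc1 i with ci | ci
      swap
      · exact hzero i hui (by rw [hc, hi, ci, neg_one_smul])
      rcases hc1 j with cj | cj
      swap
      · exact hzero j huj (by rw [hc, hj, cj, neg_one_smul])
      have hle : span3 (F := F) ({i, j} : Finset ι) ≤ fixSpace z ⊓ S := fun x hx => by
        refine ⟨mem_fixSpace.2 ?_, hSdef ▸ Submodule.mem_sup_left hx⟩
        conv_lhs => rw [eq_sum_unitVec x]
        conv_rhs => rw [eq_sum_unitVec x]
        rw [map_sum]
        refine Finset.sum_congr rfl fun t _ => ?_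
        rw [map_smul]
        by_cases ht : t ∈ ({i, j} : Finset ι)
        · simp only [Finset.mem_insert, Finset.mem_singleton] at ht
          rcases ht with rfl | rfl
          · rw [hc, hi, ci, one_smul]
          · rw [hc, hj, cj, one_smul]
        · rw [hx t ht, zero_smul, zero_smul]
      have hle2 := Submodule.finrank_mono hle
      rw [hW2] at hle2
      obtain ⟨r, hr⟩ := hev
      have heq := Submodule.eq_of_le_of_finrank_le hle (by rw [hW2]; omega)
      exact hy0 (hWinf (by omega) y (heq ▸ ⟨mem_fixSpace.2 hzy, hSdef ▸ Submodule.mem_sup_right hy⟩)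
        hy)
    · have hij' : σ i = j := by
        rcases Finset.mem_insert.1 (hinW i (by simp)) with e | e
        · exact absurd e hi
        · exact Finset.mem_singleton.1 e
      have hji : σ j = i := by rw [← hij', hσ]
      have him : ∀ t, σ t ≠ t → t ∈ moved z := fun t ht => by
        by_contra h'
        have := notMem_moved.1 h'
        rw [hc] at this
        exact ht (unitVec_inj this.symm).symm
      have hsub : supp u ∪ {i, j} ⊆ moved z := by
        intro t ht
        rcases Finset.mem_union.1 ht with ht | ht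
        · by_contra h'
          exact mem_supp.1 ht (eq_zero_of_neg_fix h2 hzu h')
        · simp only [Finset.mem_insert, Finset.mem_singleton] at ht
          rcases ht with rfl | rfl
          · exact him _ hi
          · exact him _ (by rw [hji]; exact hij)
      refine ⟨?_, plane_nonsingular h2 hpq hu hy hu0 hne huy, fun x hx => ?_⟩
      · have h1 := Finset.card_le_card hsub
        rw [Finset.card_union_of_disjoint (by simp [notMem_supp.2 hui, notMem_supp.2 huj]),
          Finset.card_pair hij] at h1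
        obtain ⟨r, hr⟩ := hev
        omega
      · obtain ⟨k, m, rfl⟩ := hdec x hx
        have h1 := dot_ap h2 z y (unitVec i)
        rw [hzy, hc, hij', dotProduct_smul, dot_unitVec, dot_unitVec, smul_eq_mul] at h1
        simp only [Pi.add_apply, Pi.smul_apply, smul_eq_mul, hui, huj, mul_zero, zero_add, ← h1]
        rcases hc1 i with e | e <;> rw [e] <;> ring

/-- No plane of a non-monomial element contains a vector with two zero coordinates. -/
theorem mono_of_small {g : Grp} (hg : g ∈ K) {p q i j : ι} (hpq : p ≠ q) (hij : i ≠ j) {u : ι → F}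
    (hu : u ∈ plane g p q) (hu0 : u ≠ 0) (hui : u i = 0) (huj : u j = 0) : Mono g := by
  by_contra hgm
  have h2 := hK.two
  have hzall : ∀ {g : Grp}, g ∈ K → ¬ Mono g → ∀ {p q m : ι}, p ≠ q →
      (∀ x ∈ plane g p q, x m = 0) → False := fun {g} hg hgm {p q m} hpq h =>
    hgm (mono_of_zero hK hR hn hg hpq (h _ (plane_fst g p q)) (h _ (plane_snd g p q)))
  obtain ⟨ρ, hρ, hρ0, hρ4⟩ : ∃ ρ ∈ plane g p q, ρ ≠ 0 ∧ (supp ρ).card ≤ 4 := by
    rcases plane_pair hK hR hn hg hgm hpq hij hu hu0 hui huj with ⟨h, -⟩ | ⟨y, hy, hy0, hy4, -⟩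
    · exact ⟨u, hu, hu0, by omega⟩
    · exact ⟨y, hy, hy0, hy4⟩
  have key : ∀ k l, k ∉ supp ρ → l ∉ supp ρ → k ≠ l →
      (supp ρ).card ≤ 2 ∧ ρ ⬝ᵥ ρ ≠ 0 ∧ ∀ x ∈ plane g p q, x k ^ 2 = x l ^ 2 := by
    intro k l hk hl hkl
    rcases plane_pair hK hR hn hg hgm hpq hkl hρ hρ0 (notMem_supp.1 hk) (notMem_supp.1 hl) with
      h | ⟨y, -, -, hy4, hdec⟩
    · exact h
    · exfalso
      obtain ⟨m, hm⟩ : ∃ m, m ∉ supp ρ ∪ supp y := by
        by_contra! hall
        have := Finset.card_union_le (supp ρ) (supp y)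
        rw [Finset.eq_univ_iff_forall.2 hall, Finset.card_univ] at this
        omega
      rw [Finset.mem_union, not_or, notMem_supp, notMem_supp] at hm
      refine hzall hg hgm hpq (m := m) fun x hx => ?_
      obtain ⟨a, b, rfl⟩ := hdec x hx
      simp [hm.1, hm.2]
  have hcompl : 6 ≤ (supp ρ)ᶜ.card := by rw [Finset.card_compl]; omega
  obtain ⟨k0, hk0, l0, hl0, hkl0⟩ := Finset.one_lt_card.1 (show 1 < (supp ρ)ᶜ.card by omega)
  rw [Finset.mem_compl] at hk0 hl0
  obtain ⟨hρ2, hρρ, -⟩ := key k0 l0 hk0 hl0 hkl0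
  have hs2 : (supp ρ).card = 2 := by
    by_contra hne
    have h1 : (supp ρ).card ≤ 1 := by omega
    obtain ⟨m, hm⟩ := Function.ne_iff.1 hρ0
    have he : ρ = ρ m • unitVec m := eq_smul_unitVec fun t ht => notMem_supp.1 fun h' =>
      ht (Finset.card_le_one.1 h1 t h' m (mem_supp.2 hm))
    have hmp : (unitVec m : ι → F) ∈ plane g p q := by
      have h' := Submodule.smul_mem _ (ρ m)⁻¹ hρ
      rw [he, smul_smul, Pi.smul_apply, unitVec_same, smul_eq_mul, mul_one, inv_mul_cancel₀ hm,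
        one_smul] at h'
      exact h'
    refine hgm (mono_of_conj_mono hK hR hn hg hpq (hR _
      (K.mul_mem (K.mul_mem hg (hK.sgn_mul_sgn p q)) (K.inv_mem hg)) ⟨m, m, -1, ?_⟩))
    rw [ap_mul, ap_mul, ((flip_pair (F := F) hpq).neg_iff h2 _).2 (mem_plane_iff.1 hmp), map_neg,
      ap_ap_inv, neg_one_smul]
  obtain ⟨k, l, hkl, hsup⟩ := Finset.card_eq_two.1 hs2
  have hρout : ∀ m, m ≠ k → m ≠ l → ρ m = 0 := fun m h1 h3 =>
    notMem_supp.1 (by rw [hsup]; simp [h1, h3])
  -- the second vector of the plane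
  obtain ⟨f, hfdef⟩ : ∃ f : ι → F, f = (-(ap g⁻¹ ρ q)) • ap g (unitVec p) +
      (ap g⁻¹ ρ p) • ap g (unitVec q) := ⟨_, rfl⟩
  have hf : f ∈ plane g p q := hfdef ▸ add_mem (Submodule.smul_mem _ _ (plane_fst g p q))
    (Submodule.smul_mem _ _ (plane_snd g p q))
  have hfp : ap g⁻¹ f p = -(ap g⁻¹ ρ q) := by
    simp [hfdef, unitVec_same, unitVec_ne hpq]
  have hfq : ap g⁻¹ f q = ap g⁻¹ ρ p := by
    simp [hfdef, unitVec_same, unitVec_ne hpq.symm]
  have hρf : ρ ⬝ᵥ f = 0 := by rw [dot_plane h2 hpq hρ, hfp, hfq]; ring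
  have hff : f ⬝ᵥ f = ρ ⬝ᵥ ρ := by
    rw [dot_plane h2 hpq hf, dot_plane h2 hpq hρ, hfp, hfq]; ring
  have hne : ∀ c : F, f ≠ c • ρ := fun c e => by
    have h1 := hρf
    rw [e, dotProduct_smul, smul_eq_mul, mul_eq_zero] at h1
    rcases h1 with rfl | h1
    · rw [zero_smul] at e; exact hρρ (by rw [← hff, e, dotProduct_zero])
    · exact hρρ h1
  have hdec := plane_decomp hpq hρ hf hρ0 hne
  have hf0 : ∀ m, m ≠ k → m ≠ l → f m ≠ 0 := fun m h1 h3 h0 => hzall hg hgm hpq (m := m) fun x hx => by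
    obtain ⟨a, b, rfl⟩ := hdec x hx
    simp [hρout m h1 h3, h0]
  have haeq : g * (sgn p * sgn q) * g⁻¹ = refl sq ρ * refl sq f := by
    refine ext_ap fun v => ?_
    obtain ⟨A, hA⟩ : ∃ A, A = g * (sgn p * sgn q) * g⁻¹ := ⟨_, rfl⟩
    have hAneg : ∀ y ∈ plane g p q, ap A y = -y := fun y hy => by
      rw [hA, ap_mul, ap_mul, ((flip_pair (F := F) hpq).neg_iff h2 _).2 (mem_plane_iff.1 hy),
        map_neg, ap_ap_inv]
    obtain ⟨r, hr⟩ : ∃ r, r = v - ((ρ ⬝ᵥ v) / (ρ ⬝ᵥ ρ)) • ρ - ((f ⬝ᵥ v) / (f ⬝ᵥ f)) • f :=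
      ⟨_, rfl⟩
    have e1 : ρ ⬝ᵥ r = 0 := by
      rw [hr, dotProduct_sub, dotProduct_sub, dotProduct_smul, dotProduct_smul, hρf,
        smul_eq_mul, smul_eq_mul, div_mul_cancel₀ _ hρρ]; ring
    have e2 : f ⬝ᵥ r = 0 := by
      rw [hr, dotProduct_sub, dotProduct_sub, dotProduct_smul, dotProduct_smul,
        dotProduct_comm f ρ, hρf, smul_eq_mul, smul_eq_mul,
        div_mul_cancel₀ _ (hff ▸ hρρ : f ⬝ᵥ f ≠ 0)]; ring
    have hr' : ap A r = r := by
      rw [hA, ap_mul, ap_mul, ((flip_pair (F := F) hpq).fix_iff h2 _).2 (fun t ht => ?_),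
        ap_ap_inv]
      rw [← unitVec_dot (ap g⁻¹ _) t, ← dot_ap h2 g, ap_ap_inv]
      obtain ⟨a, b, e⟩ := hdec _ (⟨_, unitVec_mem_span3 ht, rfl⟩ :
        ap g (unitVec t) ∈ plane g p q)
      rw [e, add_dotProduct, smul_dotProduct, smul_dotProduct, e1, e2]; simp
    rw [hr, map_sub, map_sub, map_smul, map_smul, hAneg ρ hρ, hAneg f hf] at hr'
    rw [← hA, ap_mul, refl_ap_dot f, refl_ap_dot ρ, dotProduct_sub, dotProduct_smul, hρf,
      smul_zero, sub_zero]
    linear_combination (norm := module) hr'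
  have hk : f k ≠ 0 := fun h0 => by
    have h1 := hρf
    rw [dotProduct, ← Finset.sum_subset (Finset.subset_univ {k, l}) (fun m _ hm => by
      simp at hm; rw [hρout m hm.1 hm.2, zero_mul]), Finset.sum_pair hkl, h0, mul_zero, zero_add,
      mul_eq_zero] at h1
    have hfl := h1.resolve_left (mem_supp.1 (by rw [hsup]; simp))
    have hD := flip_pair (F := F) hkl
    have hDρ : ap (sgn k * sgn l) ρ = -ρ := (hD.neg_iff h2 ρ).2 fun m hm => by
      simp at hm; exact hρout m hm.1 hm.2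
    have hDf : ap (sgn k * sgn l) f = f := (hD.fix_iff h2 f).2 (by simp [h0, hfl])
    have hcomm : Commute (g * (sgn p * sgn q) * g⁻¹) (sgn k * sgn l) := by
      show _ * _ = _ * _
      rw [haeq]
      refine (mul_inv_eq_iff_eq_mul.1 ?_).symm
      rw [show (sgn k * sgn l : Grp) * (refl sq ρ * refl sq f) * (sgn k * sgn l)⁻¹ =
        ((sgn k * sgn l) * refl sq ρ * (sgn k * sgn l)⁻¹) *
          ((sgn k * sgn l) * refl sq f * (sgn k * sgn l)⁻¹) by group, conj_refl, conj_refl, hDρ,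
        hDf, ← neg_one_smul F ρ, refl_smul _ (neg_ne_zero.2 one_ne_zero)]
    obtain ⟨m0, hm0⟩ := Finset.card_pos.1 (show 0 < (supp ρ)ᶜ.card by omega)
    rw [Finset.mem_compl, hsup] at hm0
    exact hgm (mono_of_conj_mono hK hR hn hg hpq (mono_of_commute_flip hK hR hn
      (K.mul_mem (K.mul_mem hg (hK.sgn_mul_sgn p q)) (K.inv_mem hg)) hD
      (by rw [Finset.card_pair hkl]) hm0 hcomm))
  obtain ⟨μ, hμ, hμall⟩ : ∃ μ : F, μ ≠ 0 ∧ ∀ m, m ≠ k → m ≠ l → f m ^ 2 = μ := by
    refine ⟨f k0 ^ 2, pow_ne_zero 2 (hf0 k0 (fun e => hk0 (by rw [e, hsup]; simp))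
      (fun e => hk0 (by rw [e, hsup]; simp))), fun m h1 h3 => ?_⟩
    rcases eq_or_ne m k0 with rfl | hm
    · rfl
    · exact (key m k0 (by rw [hsup]; simp [h1, h3]) hk0 hm).2.2 f hf
  obtain ⟨s, hs⟩ : ∃ s : F, s = f k * f k + f l * f l := ⟨_, rfl⟩
  have hρk : ρ k ≠ 0 := mem_supp.1 (by rw [hsup]; simp)
  have hρl : ρ l ≠ 0 := mem_supp.1 (by rw [hsup]; simp)
  have hρsum : ∀ x : ι → F, ρ ⬝ᵥ x = ρ k * x k + ρ l * x l := fun x => by
    rw [dotProduct, ← Finset.sum_subset (Finset.subset_univ {k, l}) (fun m _ hm => by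
      simp at hm; rw [hρout m hm.1 hm.2, zero_mul]), Finset.sum_pair hkl]
  have hs0 : s ≠ 0 := by
    intro e
    have h1 := hρsum f
    rw [hρf] at h1
    have h3 := hρsum ρ
    exact mul_ne_zero (mul_ne_zero hρρ hk) hk
      (by rw [h3]; linear_combination (ρ k * f k - ρ l * f l) * (-h1) + ρ l * ρ l * (e - hs))
  -- two sizes of sign changes
  have step : ∀ (Q : Finset ι) (D : Grp), Flip Q D → D ∈ K → k ∉ Q → l ∉ Q → 2 ≤ Q.card →
      Q.card ≤ 4 → f ⬝ᵥ f = 4 * (Q.card : F) * μ := by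
    intro Q D hD hDK hkQ hlQ hQ2 hQ4
    obtain ⟨N, hN⟩ : ∃ N : F, N = f ⬝ᵥ f := ⟨_, rfl⟩
    have hN0 : N ≠ 0 := hN ▸ hff ▸ hρρ
    obtain ⟨f', hf'⟩ : ∃ f', f' = ap D f := ⟨_, rfl⟩
    have hf'f' : f' ⬝ᵥ f' = N := by rw [hf', dot_ap_self, hN]
    have hDρ : ap D ρ = ρ := (hD.fix_iff h2 ρ).2 fun m hm =>
      hρout m (fun e => hkQ (e ▸ hm)) (fun e => hlQ (e ▸ hm))
    have hρf' : ρ ⬝ᵥ f' = 0 := by rw [hf', ← hDρ, dot_ap h2, hρf]
    have hff' : f ⬝ᵥ f' = N - 2 * ((Q.card : F) * μ) := by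
      have e1 : ∀ m ∈ Q, f m * f m = μ := fun m hm => by
        rw [← pow_two]; exact hμall m (fun e => hkQ (e ▸ hm)) (fun e => hlQ (e ▸ hm))
      have e2 : ∀ m ∈ Q, f m * f' m = -μ := fun m hm => by
        rw [hf', hD, if_pos hm, mul_neg, e1 m hm]
      have e3 : ∀ m ∈ Qᶜ, f m * f' m = f m * f m := fun m hm => by
        rw [hf', hD, if_neg (Finset.mem_compl.1 hm)]
      rw [hN, dotProduct, dotProduct, ← Finset.sum_add_sum_compl Q,
        ← Finset.sum_add_sum_compl Q (fun m => f m * f m), Finset.sum_congr rfl e1,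
        Finset.sum_congr rfl e2, Finset.sum_congr rfl e3, Finset.sum_const, Finset.sum_const,
        nsmul_eq_mul, nsmul_eq_mul]
      ring
    obtain ⟨X, hX⟩ : ∃ X : Grp, X = refl sq f * refl sq f' := ⟨_, rfl⟩
    have hQf : sq f ≠ 0 := by rw [sq_apply, ← hN]; exact hN0
    have hXK : X ∈ K := by
      have haK : g * (sgn p * sgn q) * g⁻¹ ∈ K :=
        K.mul_mem (K.mul_mem hg (hK.sgn_mul_sgn p q)) (K.inv_mem hg)
      have := K.mul_mem haK (K.mul_mem (K.mul_mem hDK haK) (K.inv_mem hDK))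
      have e : D * (refl sq ρ * refl sq f) * D⁻¹ = refl sq ρ * refl sq f' := by
        rw [show D * (refl sq ρ * refl sq f) * D⁻¹ =
          (D * refl sq ρ * D⁻¹) * (D * refl sq f * D⁻¹) by group, conj_refl, conj_refl, hDρ, hf']
      have hc : Commute (refl sq f) (refl sq ρ : Grp) := commute_refl_of_fix (.inl (by
        rw [refl_ap_dot, dotProduct_comm, hρf]; simp))
      rw [haeq, e, mul_assoc, ← mul_assoc (refl sq f), hc.eq, mul_assoc (refl sq ρ) (refl sq f),
        ← mul_assoc, refl_mul_self, one_mul, ← hX] at this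
      exact this
    obtain ⟨v, hv⟩ : ∃ v : ι → F, v = f k • unitVec k + f l • unitVec l := ⟨_, rfl⟩
    have hvf : ∀ x : ι → F, x ⬝ᵥ v = f k * x k + f l * x l := fun x => by
      simp [hv, dotProduct_add, dotProduct_smul, dot_unitVec]
    have hf'k : f' k = f k := by rw [hf', hD, if_neg hkQ]
    have hf'l : f' l = f l := by rw [hf', hD, if_neg hlQ]
    obtain ⟨α, hα⟩ : ∃ α : F, α = 2 * s / N * (2 * (f ⬝ᵥ f') / N - 1) := ⟨_, rfl⟩
    obtain ⟨γ, hγ⟩ : ∃ γ : F, γ = -(2 * s / N) := ⟨_, rfl⟩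
    have hXv : ap X v = v + α • f + γ • f' := by
      have h1 : f' ⬝ᵥ v = s := by rw [hvf, hf'k, hf'l, hs]
      have h3 : f ⬝ᵥ v = s := by rw [hvf, hs]
      rw [hX, ap_mul, refl_ap_dot f', refl_ap_dot f, h1, hf'f', dotProduct_sub, dotProduct_smul,
        h3, ← hN, hα, hγ, smul_eq_mul]
      match_scalars <;> field_simp <;> ring
    have hXρ : ap X ρ = ρ := by
      rw [hX, ap_mul, refl_ap_dot f', dotProduct_comm f' ρ, hρf', mul_zero, zero_div, zero_smul,
        sub_zero, refl_ap_dot, dotProduct_comm, hρf, mul_zero, zero_div, zero_smul, sub_zero]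
    have hkl2 : ∀ {y : ι → F}, (∀ m, m ≠ k → m ≠ l → y m = 0) →
        y ∈ span3 (F := F) ({k, l} : Finset ι) := fun h m hm => by
      simp at hm; exact h m hm.1 hm.2
    have hwP : ap X v ∈ plane X k l := ⟨v, hkl2 (fun m h1 h3 => by
      simp [hv, unitVec_ne h1, unitVec_ne h3]), rfl⟩
    have hρP : ρ ∈ plane X k l := ⟨ρ, hkl2 hρout, hXρ⟩
    have hwout : ∀ m, m ≠ k → m ≠ l → ap X v m = α * f m + γ * f' m := fun m h1 h3 => by
      rw [hXv]; simp [hv, unitVec_ne h1, unitVec_ne h3]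
    have hwQ : ∀ m, m ≠ k → m ≠ l → m ∈ Q → ap X v m = (α - γ) * f m := fun m h1 h3 hm => by
      rw [hwout m h1 h3, hf', hD, if_pos hm]; ring
    have hwnQ : ∀ m, m ≠ k → m ≠ l → m ∉ Q → ap X v m = (α + γ) * f m := fun m h1 h3 hm => by
      rw [hwout m h1 h3, hf', hD, if_neg hm]; ring
    obtain ⟨m1, hm1⟩ := Finset.card_pos.1 (show 0 < Q.card by omega)
    have hm1k : m1 ≠ k := fun e => hkQ (e ▸ hm1)
    have hm1l : m1 ≠ l := fun e => hlQ (e ▸ hm1)
    have hRc : 4 ≤ ((Q ∪ {k, l})ᶜ).card := by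
      rw [Finset.card_compl]
      have := Finset.card_union_le Q {k, l}
      rw [Finset.card_pair hkl] at this
      omega
    have hout : ∀ m, m ∈ (Q ∪ {k, l})ᶜ → m ∉ Q ∧ m ≠ k ∧ m ≠ l := fun m hm => by
      simp at hm; tauto
    have hγ0 : γ ≠ 0 := by
      rw [hγ]; simp [h2, hs0, hN0]
    have hXm : ¬ Mono X := by
      intro hXm
      obtain ⟨ja, ca, hja⟩ := hXm k
      obtain ⟨jb, cb, hjb⟩ := hXm l
      have hsub : supp (ap X v) ⊆ {ja, jb} := fun m hm => by
        by_contra h'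
        simp at h'
        exact mem_supp.1 hm (by simp [hv, hja, hjb, unitVec_ne h'.1, unitVec_ne h'.2])
      have h2le := (Finset.card_le_card hsub).trans Finset.card_le_two
      by_cases hαγ : α + γ = 0
      · have hne' : α - γ ≠ 0 := fun e => hγ0 ((mul_eq_zero.1
          (show 2 * γ = 0 by linear_combination hαγ - e)).resolve_left h2)
        have : Q ∪ {k} ⊆ supp (ap X v) := fun m hm => by
          rcases Finset.mem_union.1 hm with hm | hm
          · exact mem_supp.2 (by
              rw [hwQ m (fun e => hkQ (e ▸ hm)) (fun e => hlQ (e ▸ hm)) hm]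
              exact mul_ne_zero hne' (hf0 m (fun e => hkQ (e ▸ hm)) (fun e => hlQ (e ▸ hm))))
          · rw [Finset.mem_singleton] at hm
            subst hm
            refine mem_supp.2 ?_
            have : ap X v m = f m := by
              rw [hXv]
              simp only [hv, Pi.add_apply, Pi.smul_apply, smul_eq_mul, unitVec_same,
                unitVec_ne hkl, hf'k]
              linear_combination f m * hαγ
            rw [this]; exact hk
        have := Finset.card_le_card this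
        rw [Finset.card_union_of_disjoint (by simp [hkQ]), Finset.card_singleton] at this
        omega
      · have : (Q ∪ {k, l})ᶜ ⊆ supp (ap X v) := fun m hm => by
          obtain ⟨h1, h3, h4⟩ := hout m hm
          exact mem_supp.2 (by rw [hwnQ m h3 h4 h1]; exact mul_ne_zero hαγ (hf0 m h3 h4))
        have := Finset.card_le_card this
        omega
    have hne' : ∀ c : F, ap X v ≠ c • ρ := fun c e => by
      have h1 : ap X v = ap X (c • ρ) := by rw [e, map_smul, hXρ]
      have h3 := congrArg (fun x => x ⬝ᵥ v) (ap_inj X h1)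
      simp only [smul_dotProduct, smul_eq_mul] at h3
      have h5 := hρsum f
      rw [hρf] at h5
      rw [hvf v, hvf ρ, show f k * ρ k + f l * ρ l = 0 by linear_combination -h5, mul_zero] at h3
      simp [hv, unitVec_same, unitVec_ne hkl, unitVec_ne hkl.symm] at h3
      exact hs0 (hs ▸ h3)
    have hdecX := plane_decomp hkl hρP hwP hρ0 hne'
    obtain ⟨m2, hm2⟩ := Finset.card_pos.1 (show 0 < ((Q ∪ {k, l})ᶜ).card by omega)
    obtain ⟨hm2Q, hm2k, hm2l⟩ := hout m2 hm2
    have hαγ : α + γ ≠ 0 := fun e => hzall hXK hXm hkl (m := m2) fun x hx => by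
      obtain ⟨a, b, rfl⟩ := hdecX x hx
      simp [hρout m2 hm2k hm2l, hwnQ m2 hm2k hm2l hm2Q, e]
    rcases plane_pair hK hR hn hXK hXm hkl (show m1 ≠ m2 from fun e => hm2Q (e ▸ hm1)) hρP hρ0
        (hρout m1 hm1k hm1l) (hρout m2 hm2k hm2l) with ⟨-, -, hsq⟩ | ⟨y, -, -, hy4, hdecy⟩
    · have h1 := hsq _ hwP
      rw [hwQ m1 hm1k hm1l hm1, hwnQ m2 hm2k hm2l hm2Q, mul_pow, mul_pow, hμall m1 hm1k hm1l,
        hμall m2 hm2k hm2l] at h1
      have h3 : (2 * 2) * (α * γ) = 0 :=
        mul_right_cancel₀ hμ (by linear_combination -h1)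
      have hα0 : α = 0 :=
        (mul_eq_zero.1 ((mul_eq_zero.1 h3).resolve_left (mul_ne_zero h2 h2))).resolve_right hγ0
      rw [hα, hff'] at hα0
      field_simp at hα0
      rw [← hN]
      simp [h2, hs0] at hα0
      linear_combination hα0
    · exfalso
      obtain ⟨a, b, hab⟩ := hdecy _ hwP
      have hαγ' : α - γ ≠ 0 := fun e => hzall hXK hXm hkl (m := m1) fun x hx => by
        obtain ⟨a, b, rfl⟩ := hdecX x hx
        simp [hρout m1 hm1k hm1l, hwQ m1 hm1k hm1l hm1, e]
      have : ({k, l} : Finset ι)ᶜ ⊆ supp y := fun m hm => by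
        simp only [Finset.mem_compl, Finset.mem_insert, Finset.mem_singleton, not_or] at hm
        obtain ⟨h3, h4⟩ := hm
        refine mem_supp.2 fun h0 => ?_
        have e0 : ap X v m = 0 := by rw [hab]; simp [hρout m h3 h4, h0]
        by_cases h1 : m ∈ Q
        · exact mul_ne_zero hαγ' (hf0 m h3 h4) ((hwQ m h3 h4 h1).symm.trans e0)
        · exact mul_ne_zero hαγ (hf0 m h3 h4) ((hwnQ m h3 h4 h1).symm.trans e0)
      have := Finset.card_le_card this
      rw [Finset.card_compl, Finset.card_pair hkl] at this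
      omega
  obtain ⟨Q4, hQ4, hQ4c⟩ := Finset.exists_subset_card_eq (show 4 ≤ (supp ρ)ᶜ.card by omega)
  obtain ⟨a, b, c, d, hab, hac, had, hbc, hbd, hcd, rfl⟩ := Finset.card_eq_four.1 hQ4c
  have hin : ∀ m ∈ ({a, b, c, d} : Finset ι), m ≠ k ∧ m ≠ l := fun m hm => by
    have := hQ4 hm
    rw [Finset.mem_compl, hsup] at this
    simpa using this
  obtain ⟨⟨ha1, ha2⟩, ⟨hb1, hb2⟩, ⟨hc1, hc2⟩, ⟨hd1, hd2⟩⟩ :
      (a ≠ k ∧ a ≠ l) ∧ (b ≠ k ∧ b ≠ l) ∧ (c ≠ k ∧ c ≠ l) ∧ (d ≠ k ∧ d ≠ l) :=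
    ⟨hin a (by simp), hin b (by simp), hin c (by simp), hin d (by simp)⟩
  have h1 := step {a, b} _ (flip_pair hab) (hK.sgn_mul_sgn a b)
    (by simp [ha1.symm, hb1.symm]) (by simp [ha2.symm, hb2.symm]) (by rw [Finset.card_pair hab])
    (by rw [Finset.card_pair hab]; omega)
  have hdis : Disjoint ({a, b} : Finset ι) {c, d} := by simp [hac, had, hbc, hbd, hac.symm, had.symm, hbc.symm, hbd.symm]
  have h3 := step ({a, b} ∪ {c, d}) _ ((flip_pair hab).mul (flip_pair hcd) hdis)
    (K.mul_mem (hK.sgn_mul_sgn a b) (hK.sgn_mul_sgn c d))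
    (by simp [ha1.symm, hb1.symm, hc1.symm, hd1.symm]) (by simp [ha2.symm, hb2.symm, hc2.symm, hd2.symm])
    (by rw [Finset.card_union_of_disjoint hdis, Finset.card_pair hab]; omega)
    (by rw [Finset.card_union_of_disjoint hdis, Finset.card_pair hab, Finset.card_pair hcd])
  rw [Finset.card_union_of_disjoint hdis, Finset.card_pair hab, Finset.card_pair hcd, h1,
    Finset.card_pair hab] at h3
  push_cast at h3
  exact mul_ne_zero (mul_ne_zero (mul_ne_zero h2 h2) h2) hμ (by linear_combination -h3)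

/-- All members of a rigid overgroup are monomial. -/
theorem mono_of_rigid {g : Grp} (hg : g ∈ K) : Mono g := by
  by_contra hgm
  have h2 := hK.two
  obtain ⟨Z6, -, hZ6⟩ := Finset.exists_subset_card_eq (show 6 ≤ (Finset.univ : Finset ι).card by
    rw [Finset.card_univ]; omega)
  obtain ⟨i, hi⟩ := Finset.card_pos.1 (show 0 < Z6.card by omega)
  obtain ⟨j, hj, hji⟩ := Finset.exists_mem_ne (show 1 < Z6.card by omega) i
  obtain ⟨Z, -, hZc⟩ := Finset.exists_subset_card_eq (show 4 ≤ Z6.card by omega)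
  obtain ⟨a, b, c, e, hab, hac, hae, hbc, hbe, hce, rfl⟩ := Finset.card_eq_four.1 hZc
  have hdis : Disjoint ({a, b} : Finset ι) {c, e} := by
    simp [hac.symm, hae.symm, hbc.symm, hbe.symm]
  have hd := flip_pair (F := F) hji.symm
  obtain ⟨d, hdd⟩ : ∃ d : Grp, d = sgn i * sgn j := ⟨_, rfl⟩
  rw [← hdd] at hd
  obtain ⟨dZ, hdZ⟩ : ∃ dZ : Grp, dZ = sgn a * sgn b * (sgn c * sgn e) := ⟨_, rfl⟩
  have hZ : Flip ({a, b} ∪ {c, e}) dZ := hdZ ▸ (flip_pair hab).mul (flip_pair hce) hdis
  have hZ4 : ({a, b} ∪ {c, e} : Finset ι).card = 4 := by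
    rw [Finset.card_union_of_disjoint hdis, Finset.card_pair hab, Finset.card_pair hce]
  obtain ⟨z, hz⟩ : ∃ z : Grp, z = g * dZ * g⁻¹ := ⟨_, rfl⟩
  have hzz : z * z = 1 := hz ▸ conj_invol hZ.mul_self
  have hzK : z ∈ K := hz ▸ K.mul_mem (K.mul_mem hg (hdZ ▸ K.mul_mem (hK.sgn_mul_sgn a b)
    (hK.sgn_mul_sgn c e))) (K.inv_mem hg)
  have heven := even_order_of_finrank hd.mul_self hzz (by
    rw [hd.finrank h2, hz, finrank_resSpace_conj, hZ.finrank h2, hZ4, Finset.card_pair hji.symm]
    omega)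
  obtain ⟨t, ht1, htt, htd, htz, htH⟩ := exists_central hd.mul_self hzz heven
  have htK : t ∈ K := htH K (K.mul_mem (hdd ▸ hK.sgn_mul_sgn i j) hzK)
  obtain ⟨m1, hm1⟩ : ∃ m, m ∉ ({i, j} : Finset ι) := by
    by_contra! hall
    have h1 : ({i, j} : Finset ι).card ≤ 2 := Finset.card_le_two
    rw [Finset.eq_univ_iff_forall.2 hall, Finset.card_univ] at h1
    omega
  obtain ⟨m4, hm4⟩ : ∃ m, m ∉ ({a, b} ∪ {c, e} : Finset ι) := by
    by_contra! hall
    rw [Finset.eq_univ_iff_forall.2 hall, Finset.card_univ] at hZ4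
    omega
  have htm : Mono t :=
    mono_of_commute_flip hK hR hn htK hd (by rw [Finset.card_pair hji.symm]) hm1 htd
  obtain ⟨s, hs⟩ : ∃ s : Grp, s = g⁻¹ * t * g := ⟨_, rfl⟩
  have hsK : s ∈ K := hs ▸ K.mul_mem (K.mul_mem (K.inv_mem hg) htK) hg
  have hsd : Commute s dZ := by
    show s * dZ = dZ * s
    have h1 : t * z = z * t := htz
    rw [hz] at h1
    rw [hs]
    calc g⁻¹ * t * g * dZ = g⁻¹ * (t * (g * dZ * g⁻¹)) * g := by group
      _ = g⁻¹ * (g * dZ * g⁻¹ * t) * g := by rw [h1]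
      _ = dZ * (g⁻¹ * t * g) := by group
  have hsm : Mono s := mono_of_commute_flip hK hR hn hsK hZ (by omega) hm4 hsd
  have hss : s * s = 1 := by
    have := conj_invol (g := g⁻¹) htt
    rw [inv_inv] at this
    exact hs ▸ this
  have hsr : finrank F (resSpace s) = finrank F (resSpace t) := by
    have := finrank_resSpace_conj g⁻¹ t
    rw [inv_inv] at this
    rw [hs, this]
  -- `[V,t]` lies in the sum of the two eigenspaces
  obtain ⟨S, hS⟩ : ∃ S : Submodule F (ι → F),
      S = span3 {i, j} ⊔ (span3 ({a, b} ∪ {c, e})).map (ap g) := ⟨_, rfl⟩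
  have hSc : finrank F S ≤ 6 := by
    have h1 := Submodule.finrank_sup_add_finrank_inf_eq (span3 (F := F) ({i, j} : Finset ι))
      ((span3 ({a, b} ∪ {c, e})).map (ap g))
    rw [← hS, finrank_span3, Finset.card_pair hji.symm,
      ← (Submodule.equivMapOfInjective (ap g) (fun _ _ e => ap_inj g e) _).finrank_eq,
      finrank_span3, hZ4] at h1
    omega
  have hrS : resSpace t ≤ S := resSpace_le_of_fix h2 S fun x hx => by
    have hperp : ∀ w ∈ S, w ⬝ᵥ x = 0 := fun w hw => by
      have := hx w hw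
      change polar _ w x = 0 at this
      rw [polar_sq] at this
      exact (mul_eq_zero.1 this).resolve_left h2
    refine htH (fixVec x) (?_ : ap (d * z) x = x)
    have hzx : ap z x = x := by
      rw [hz, ap_mul, ap_mul, (hZ.fix_iff h2 _).2 (fun m hm => ?_), ap_ap_inv]
      rw [← unitVec_dot (ap g⁻¹ x) m, ← dot_ap h2 g, ap_ap_inv]
      exact hperp _ (hS ▸ Submodule.mem_sup_right ⟨_, unitVec_mem_span3 hm, rfl⟩)
    rw [ap_mul, hzx, hd.fix_iff h2]
    intro m hm
    rw [← unitVec_dot x m]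
    exact hperp _ (hS ▸ Submodule.mem_sup_left (unitVec_mem_span3 hm))
  have hr6 := (Submodule.finrank_mono hrS).trans hSc
  -- two coordinates fixed by `s`
  have hfix : ∀ p q, p ≠ q → ap s (unitVec p) = unitVec p → ap s (unitVec q) = unitVec q → False := by
    intro p q hpq hp hq
    have hrow : ∀ r, ap s (unitVec r) = unitVec r →
        ap t (ap g (unitVec r)) = ap g (unitVec r) := fun r hr => by
      rw [hs, ap_mul, ap_mul] at hr
      exact ap_inj g⁻¹ (by rw [hr, ap_inv_ap])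
    have hpl : ∀ x ∈ plane g p q, ap t x = x := fun x hx => by
      conv_lhs => rw [plane_coord hpq hx]
      conv_rhs => rw [plane_coord hpq hx]
      rw [map_add, map_smul, map_smul, hrow p hp, hrow q hq]
    obtain ⟨σ, κ, hκ, hσ, hκ1, -⟩ := htm.exists_perm h2 htt
    obtain ⟨m, hm⟩ : ∃ m, ap t (unitVec m) ≠ unitVec m := by
      by_contra! hall
      exact ht1 (ext_unitVec fun r => by rw [hall r, ap_one])
    by_cases hσm : σ m = m
    · rcases hκ1 m with h | h
      · exact hm (by rw [hκ, hσm, h, one_smul])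
      · have hneg : ap t (unitVec m) = -unitVec m := by rw [hκ, hσm, h, neg_one_smul]
        exact hgm (mono_of_zero hK hR hn hg hpq (zero_of_fix_neg h2 (hpl _ (plane_fst g p q)) hneg)
          (zero_of_fix_neg h2 (hpl _ (plane_snd g p q)) hneg))
    · have hrel : ∀ x ∈ plane g p q, κ m * x (σ m) = x m := fun x hx => by
        have h := dot_ap h2 t x (unitVec m)
        rwa [hpl x hx, hκ, dotProduct_smul, dot_unitVec, dot_unitVec, smul_eq_mul] at h
      obtain ⟨u, hu⟩ : ∃ u : ι → F, u = ap g (unitVec q) m • ap g (unitVec p) -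
          ap g (unitVec p) m • ap g (unitVec q) := ⟨_, rfl⟩
      have huP : u ∈ plane g p q := hu ▸ sub_mem (Submodule.smul_mem _ _ (plane_fst g p q))
        (Submodule.smul_mem _ _ (plane_snd g p q))
      have hum : u m = 0 := by simp [hu]; ring
      have hu0 : u ≠ 0 := fun h0 => by
        have h1 : ap g⁻¹ u = 0 := by rw [h0, map_zero]
        rw [hu, map_sub, map_smul, map_smul, ap_inv_ap, ap_inv_ap] at h1
        refine hgm (mono_of_zero hK hR hn hg hpq (m := m) ?_ ?_)
        · simpa [unitVec_same, unitVec_ne hpq.symm] using congrFun h1 q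
        · simpa [unitVec_same, unitVec_ne hpq] using congrFun h1 p
      refine hgm (mono_of_small hK hR hn hg hpq (Ne.symm hσm) huP hu0 hum ?_)
      have h := hrel u huP
      rw [hum, mul_eq_zero] at h
      exact h.resolve_left fun h0 => by rcases hκ1 m with h' | h' <;> simp [h'] at h0
  have hms := moved_le h2 hsm hss
  have hmc : (moved s)ᶜ.card ≤ 1 := by
    by_contra hlt
    obtain ⟨p, hp, q, hq, hpq⟩ := Finset.one_lt_card.1 (show 1 < (moved s)ᶜ.card by omega)
    rw [Finset.mem_compl, notMem_moved] at hp hq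
    exact hfix p q hpq hp hq
  rw [Finset.card_compl] at hmc
  rw [hsr] at hms
  have heq : resSpace t = S := Submodule.eq_of_le_of_finrank_le hrS (by
    obtain ⟨r, hr⟩ := res_even hK htK
    omega)
  -- two coordinates negated by `t`
  have hneg : ∀ r ∈ ({i, j} : Finset ι), ap s (ap g⁻¹ (unitVec r)) = -ap g⁻¹ (unitVec r) := by
    intro r hr
    have h1 : (unitVec r : ι → F) ∈ resSpace t := by
      rw [heq, hS]; exact Submodule.mem_sup_left (unitVec_mem_span3 hr)
    rw [hs, ap_mul, ap_mul, ap_ap_inv, neg_of_mem_resSpace htt h1, map_neg]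
  -- some coordinate fixed or interchanged with another by `s`
  obtain ⟨σ, κ, hκ, hσ, hκ1, -⟩ := hsm.exists_perm h2 hss
  obtain ⟨m, hm⟩ : ∃ m, ap s (unitVec m) = unitVec m ∨ σ m ≠ m := by
    by_contra! hall
    have h1 : (Finset.univ.filter fun m : ι => ap s (unitVec m) = -unitVec m) = Finset.univ :=
      Finset.eq_univ_iff_forall.2 fun m => by
        obtain ⟨h3, h4⟩ := hall m
        refine Finset.mem_filter.2 ⟨Finset.mem_univ _, ?_⟩
        rcases hκ1 m with h | h
        · exact absurd (by rw [hκ, h4, h, one_smul]) h3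
        · rw [hκ, h4, h, neg_one_smul]
    have h5 : moved s = Finset.univ := Finset.eq_univ_iff_forall.2 fun m => by
      by_contra h'
      exact (hall m).1 (notMem_moved.1 h')
    have := card_moved_add_le h2 hsm hss
    rw [h1, h5, Finset.card_univ] at this
    omega
  by_cases hfixm : ap s (unitVec m) = unitVec m
  · exact hgm (mono_of_zero hK hR hn (K.inv_mem hg) hji.symm
      (eq_zero_of_neg_fix h2 (hneg i (by simp)) (notMem_moved.2 hfixm))
      (eq_zero_of_neg_fix h2 (hneg j (by simp)) (notMem_moved.2 hfixm))).of_inv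
  have hσm := hm.resolve_left hfixm
  have hnegP : ∀ x ∈ plane g⁻¹ i j, ap s x = -x := fun x hx => by
    conv_lhs => rw [plane_coord hji.symm hx]
    conv_rhs => rw [plane_coord hji.symm hx]
    rw [map_add, map_smul, map_smul, hneg i (by simp), hneg j (by simp)]
    module
  obtain ⟨u, hu⟩ : ∃ u : ι → F, u = ap g⁻¹ (unitVec j) m • ap g⁻¹ (unitVec i) -
      ap g⁻¹ (unitVec i) m • ap g⁻¹ (unitVec j) := ⟨_, rfl⟩
  have huP : u ∈ plane g⁻¹ i j := hu ▸ sub_mem (Submodule.smul_mem _ _ (plane_fst g⁻¹ i j))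
    (Submodule.smul_mem _ _ (plane_snd g⁻¹ i j))
  have hum : u m = 0 := by simp [hu]; ring
  have hu0 : u ≠ 0 := fun h0 => by
    have h1 : ap g u = 0 := by rw [h0, map_zero]
    rw [hu, map_sub, map_smul, map_smul, ap_ap_inv, ap_ap_inv] at h1
    refine hgm (mono_of_zero hK hR hn (K.inv_mem hg) hji.symm (m := m) ?_ ?_).of_inv
    · simpa [unitVec_same, unitVec_ne hji] using congrFun h1 j
    · simpa [unitVec_same, unitVec_ne hji.symm] using congrFun h1 i
  refine hgm (mono_of_small hK hR hn (K.inv_mem hg) hji.symm (Ne.symm hσm) huP hu0 hum ?_).of_inv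
  have h := neg_vec_perm h2 hκ (hnegP u huP) m
  rw [hum] at h
  have hκ0 : κ m ≠ 0 := fun h0 => by rcases hκ1 m with h' | h' <;> simp [h'] at h0
  simpa [hκ0] using h

end Cfsg.Agent.Orth.Frame
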