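import Cfsg.Agent.Lib.Orth.Frame.Fill
import Cfsg.Agent.Lib.Orth.Frame.Reduce
import Cfsg.Agent.Lib.Orth.Frame.Odd
import Cfsg.Agent.Lib.Orth.Decomp

/-!
# Frame stabilisers are maximal in `Ω`

* `omega_le_of_nonmono` : an overgroup of the monomial part of `Ω` with a non-monomial element is `Ω`
* `frame_maximal` : the stabiliser in `Ω(Q)` of an orthogonal decomposition into isometric lines is
  maximal, for `|F|` an odd prime and dimension at least ten
-/

set_option autoImplicit false
set_option linter.unusedSectionVars false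

namespace Cfsg.Agent.Orth.Frame

open Cfsg Matrix Module Cfsg.Agent.Orth
open QuadraticMap (polar)
open scoped Classical

variable {ι : Type} [Fintype ι] [DecidableEq ι] {F : Type*} [Field F] [Fintype F]

local notation "Grp" => IsoGrp (sq (ι := ι) (F := F))

variable {K : Subgroup (IsoGrp (sq (ι := ι) (F := F)))}

/-- An element of `K` outside the monomial group fixing a coordinate vector. -/
theorem exists_not_allMono (hK : Over K)
    (hn : 10 ≤ Fintype.card ι ∨ (7 ≤ Fintype.card ι ∧ Odd (Fintype.card ι))) {g : Grp} (hg : g ∈ K)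
    (hgm : ¬ Mono g) : ∃ i, ¬ AllMono K (Finset.univ.erase i) := by
  obtain ⟨g, hg, ⟨i, j, c, hc⟩, hgm⟩ : ∃ g ∈ K,
      (∃ (i j : ι) (c : F), ap g (unitVec i) = c • unitVec j) ∧ ¬ Mono g := by
    by_contra! hall
    rcases hn with hn | ⟨hn, ho⟩
    · exact hgm (mono_of_rigid hK hall hn hg)
    · exact hgm (mono_of_rigid_odd hK hall hn ho hg)
  refine ⟨i, fun hall => hgm ?_⟩
  have hout : ∀ {x : Grp}, ap x (unitVec i) = unitVec i → x ∈ K → Mono x := fun {x} hx hxK =>
    hall x ⟨fun m hm => by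
      rw [Finset.mem_erase, not_and_or] at hm
      rcases hm with hm | hm
      · rw [not_not.1 hm, hx]
      · exact absurd (Finset.mem_univ m) hm, .inl hxK⟩
  have hc1 : c = 1 ∨ c = -1 := mul_self_eq_one_iff.1 (by
    have := ap_row_self g i
    rwa [hc, smul_dotProduct, dotProduct_smul, dot_unitVec, unitVec_same, smul_eq_mul, smul_eq_mul,
      mul_one] at this)
  obtain ⟨t, -, hti, htj⟩ : ∃ t ∈ (Finset.univ : Finset ι), t ≠ i ∧ t ≠ j := by
    obtain ⟨t, ht⟩ := Finset.card_pos.1 (show 0 < ({i, j} : Finset ι)ᶜ.card by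
      rw [Finset.card_compl]; have := Finset.card_le_two (a := i) (b := j); omega)
    simp at ht
    exact ⟨t, Finset.mem_univ t, ht.1, ht.2⟩
  obtain ⟨k, hk, hkm, hkj⟩ : ∃ k ∈ K, Mono k ∧ ap k (unitVec j) = unitVec i := by
    rcases eq_or_ne i j with rfl | hij
    · exact ⟨1, K.one_mem, Mono.one, ap_one _⟩
    · exact ⟨_, hK.cyc_mem hij.symm htj.symm hti.symm, mono_permIso _, by
        rw [permIso_unitVec, cyc_fst hij.symm htj.symm]⟩
  have hfin : ∀ k' ∈ K, Mono k' → ap (k' * g) (unitVec i) = unitVec i → Mono g :=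
    fun k' hk' hm' hf => by simpa using hm'.inv.mul (hout hf (K.mul_mem hk' hg))
  rcases hc1 with rfl | rfl
  · exact hfin k hk hkm (by rw [ap_mul, hc, one_smul, hkj])
  · exact hfin (sgn i * sgn t * k) (K.mul_mem (hK.sgn_mul_sgn i t) hk)
      (((mono_sgn i).mul (mono_sgn t)).mul hkm)
      (by rw [ap_mul, hc, ap_mul, map_smul, hkj, map_smul, ap_mul, sgn_ap_ne hti.symm, sgn_ap_same,
        neg_one_smul, neg_neg])

/-- An overgroup of the monomial part of `Ω` with a non-monomial element is the whole of `Ω`. -/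
theorem omega_le_of_nonmono (hK : Over K)
    (hn : 10 ≤ Fintype.card ι ∨ (7 ≤ Fintype.card ι ∧ Odd (Fintype.card ι)))
    (hprime : (Fintype.card F).Prime) {g : Grp} (hg : g ∈ K) (hgm : ¬ Mono g) :
    Omega F ⇑(sq (ι := ι) (F := F)) ≤ K := by
  obtain ⟨p, hp⟩ : ∃ p, Fintype.card F = p := ⟨_, rfl⟩
  rw [hp] at hprime
  have hfp : Fact p.Prime := ⟨hprime⟩
  have hC : CharP F p := charP_of_card_eq_prime hp
  have h2 := hK.two
  have hp2 : p ≠ 2 := fun e => h2 (by
    have := CharP.cast_eq_zero F p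
    rw [e] at this; exact_mod_cast this)
  have h7 : 7 ≤ Fintype.card ι := by
    rcases hn with h | h
    · omega
    · exact h.1
  refine omega_le_of_inR hK (by omega) fun v hv => ?_
  obtain ⟨i, hi⟩ := exists_not_allMono hK hn hg hgm
  obtain ⟨S, hSout, hS, hmin⟩ : ∃ S : Finset ι, (∃ m, m ∉ S) ∧ ¬ AllMono K S ∧
      ∀ T, T ⊂ S → AllMono K T := by
    by_contra! hall
    have key : ∀ S : Finset ι, (∃ m, m ∉ S) → AllMono K S := fun S => by
      induction S using Finset.strongInductionOn with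
      | _ S ih =>
        intro hS
        by_contra hm
        obtain ⟨T, hT, hT'⟩ := hall S hS hm
        obtain ⟨m, hm'⟩ := hS
        exact hT' (ih T hT ⟨m, fun h => hm' (hT.1 h)⟩)
    exact hi (key _ ⟨i, Finset.notMem_erase i _⟩)
  rcases (show p = 3 ∨ 5 ≤ p by
    have := hprime.two_le
    rcases (show p = 4 ∨ p ≠ 4 by omega) with h | h
    · rw [h] at hprime; exact absurd hprime (by norm_num)
    · omega) with rfl | hp5
  · have h4 : S.card = 4 := by
      rcases le_or_gt S.card 3 with h | h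
      · exact absurd (allMono_of_three hK hp h) hS
      rcases eq_or_ne S.card 4 with h' | h'
      · exact h'
      refine absurd (allMono_of_five hK hSout (by omega) hmin fun _ x hx => ?_) hS
      rcases eq_or_ne x 0 with rfl | hx0
      · exact one_ne_zero (α := F) (by linear_combination hx)
      · have := FiniteField.pow_card_sub_one_eq_one x hx0
        rw [hp, show 3 - 1 = 2 from rfl, hx] at this
        exact h2 (by linear_combination -this)
    exact inR_all_of_three hK (by omega) hp h4 hS v hv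
  · have h3 : (3 : F) ≠ 0 := fun e => by
      have := (CharP.cast_eq_zero_iff F p 3).1 (by exact_mod_cast e)
      exact absurd (Nat.le_of_dvd (by norm_num) this) (by omega)
    by_cases hex : ∃ T : Finset ι, T.card = 3 ∧ ¬ AllMono K T
    · obtain ⟨T, hT, hT'⟩ := hex
      exact inR_all_of_five hK (by omega) hp5 hp hT hT' v hv
    · push Not at hex
      refine absurd ?_ hS
      have hsmall : ∀ U : Finset ι, U.card ≤ 3 → AllMono K U := by
        intro U hU
        obtain ⟨T, hUT, -, hT⟩ := Finset.exists_subsuperset_card_eq (Finset.subset_univ U) hU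
          (by rw [Finset.card_univ]; omega)
        refine fun x hx => hex T hT x (inner_mono_sub hK ?_ hUT hx)
        by_contra! hall
        rw [Finset.eq_univ_iff_forall.2 hall, Finset.card_univ] at hU
        omega
      rcases le_or_gt S.card 3 with h | h
      · exact hsmall S h
      rcases eq_or_ne S.card 4 with h' | h'
      · exact allMono_of_four hK h3 (by omega) h' hsmall
      · exact allMono_of_five hK hSout (by omega) hmin fun e => absurd e h3

theorem exists_omega_nonmono (h2 : (2 : F) ≠ 0) (hn : 4 ≤ Fintype.card ι) :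
    ∃ g : Grp, g ∈ Omega F ⇑(sq) ∧ ¬ Mono g := by
  obtain ⟨S, -, hS⟩ := Finset.exists_subset_card_eq
    (show 4 ≤ (Finset.univ : Finset ι).card by rwa [Finset.card_univ])
  obtain ⟨a, b, c, d, hab, hac, had, hbc, hbd, hcd, -⟩ := Finset.card_eq_four.1 hS
  obtain ⟨r, s, hrs⟩ := exists_two_squares h2 (A := (1 : F)) one_ne_zero one_ne_zero (-1)
  obtain ⟨v, hv⟩ : ∃ v : ι → F, v = unitVec a + r • unitVec b + s • unitVec c + unitVec d :=
    ⟨_, rfl⟩
  have va : v a = 1 := by simp [hv, unitVec_same, unitVec_ne hab, unitVec_ne hac, unitVec_ne had]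
  have vb : v b = r := by simp [hv, unitVec_same, unitVec_ne hab.symm, unitVec_ne hbc, unitVec_ne hbd]
  have vc : v c = s := by simp [hv, unitVec_same, unitVec_ne hac.symm, unitVec_ne hbc.symm, unitVec_ne hcd]
  have vd : v d = 1 := by simp [hv, unitVec_same, unitVec_ne had.symm, unitVec_ne hbd.symm, unitVec_ne hcd.symm]
  have hvv : v ⬝ᵥ v = 1 := by
    conv_lhs => arg 2; rw [hv]
    simp only [dotProduct_add, dotProduct_smul, dot_unitVec, va, vb, vc, vd, smul_eq_mul]
    linear_combination hrs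
  have hQv : sq v = 1 := by rw [sq_apply, hvv]
  refine ⟨refl sq v * sgn a, (mem_omega_iff (good_sq h2) _).2 ⟨?_, ?_⟩, fun hm => ?_⟩
  · rw [dick_mul (good_sq h2), dick_refl (sq_nd h2) (by rw [hQv]; exact one_ne_zero), dick_sgn h2]
    norm_num
  · rw [sgn, spin_refl_mul (sq_nd h2) _ (by rw [hQv]; exact one_ne_zero),
      spin_refl (sq_nd h2) (by rw [sq_unitVec]; exact one_ne_zero), hQv, sq_unitVec, map_one,
      mul_one]
  · have h := refl_mono (by rw [hvv]; exact one_ne_zero) (by
      have := hm.mul (mono_sgn a)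
      rwa [mul_assoc, sgn_mul_self, mul_one] at this) h2
    by_cases hr : r = 0
    · have hs : v c ≠ 0 := by
        rw [vc]; intro hs
        exact one_ne_zero (α := F) (by rw [hr, hs] at hrs; linear_combination hrs)
      rcases h.1 a c d (by simp [va]) hs (by simp [vd]) with e | e | e
      · exact hac e
      · exact had e
      · exact hcd e
    · rcases h.1 a b d (by simp [va]) (by rwa [vb]) (by simp [vd]) with e | e | e
      · exact hab e
      · exact had e
      · exact hbd e

/-- The frame stabiliser is maximal. -/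
theorem frame_maximal' {Q : QuadraticForm F (ι → F)} {t : ℕ} {D : Fin t → Submodule F (ι → F)}
    (hprime : (Fintype.card F).Prime) (hodd : Odd (Fintype.card F)) (hn : 10 ≤ Fintype.card ι ∨ (7 ≤ Fintype.card ι ∧ Odd (Fintype.card ι)))
    (hD : Geo.IsOrthogonalMDecomposition ⇑Q 1 D) :
    Geo.IsMaximalIn (Geo.omegaGL ⇑Q) (Geo.decompositionStabilizer D ⊓ Geo.omegaGL ⇑Q) := by
  have h2 : (2 : F) ≠ 0 := fun h => by
    have hc : ringChar F = 2 := CharP.ringChar_of_prime_eq_zero Nat.prime_two (by exact_mod_cast h)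
    have := (FiniteField.even_card_iff_char_two).1 hc
    rw [Nat.odd_iff] at hodd
    omega
  have hmd := hD.decomp.decomp
  have hint : DirectSum.IsInternal D :=
    (DirectSum.isInternal_submodule_iff_iSupIndep_and_iSup_eq_top D).2 ⟨hmd.indep, hmd.iSup_eq_top⟩
  have hfin : ∀ i, Module.Basis (Fin 1) F (D i) := fun i => Module.finBasisOfFinrankEq F (D i) (hmd.finrank_eq i)
  let i0 : Fin t := ⟨0, by have := hmd.two_le; omega⟩
  obtain ⟨v0, hv0, hv00⟩ := Submodule.exists_mem_ne_zero_of_ne_bot (p := D i0) (fun h => by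
    have h1 := hmd.finrank_eq i0
    rw [h, finrank_bot] at h1
    omega)
  have hchoose : ∀ i, ∃ x ∈ D i, x ≠ 0 ∧ Q x = Q v0 := fun i => by
    obtain ⟨e, he⟩ := hD.isometric i0 i
    refine ⟨(e ⟨v0, hv0⟩ : D i), (e ⟨v0, hv0⟩).2, fun h => hv00 ?_, he _⟩
    have h1 : e ⟨v0, hv0⟩ = 0 := Subtype.ext h
    exact congrArg Subtype.val (e.map_eq_zero_iff.1 h1)
  choose v hvD hv0' hQv using hchoose
  have hline : ∀ i, ∀ x ∈ D i, ∃ a : F, x = a • v i := fun i x hx => by
    obtain ⟨a, ha⟩ := (finrank_eq_one_iff_of_nonzero' (⟨v i, hvD i⟩ : D i)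
      (by simpa using hv0' i)).1 (hmd.finrank_eq i) ⟨x, hx⟩
    exact ⟨a, (congrArg Subtype.val ha).symm⟩
  have hc : Q v0 ≠ 0 := by
    intro h
    obtain ⟨y, hy, hxy⟩ := member_nondeg hD i0 v0 hv0 hv00
    obtain ⟨a, rfl⟩ := hline i0 y hy
    have h1 : Q (v i0) = 0 := by rw [hQv, h]
    obtain ⟨b, hb⟩ := hline i0 v0 hv0
    rw [hb, pl_smul_left, pl_smul_right, pl_self, h1] at hxy
    simp at hxy
  let bs := hint.collectedBasis hfin
  have hcard : t = Fintype.card ι := by
    have := Module.finrank_eq_card_basis bs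
    rw [finrank_space] at this
    simpa using this.symm
  let e : Fin t ≃ ι := (finCongr hcard).trans (Fintype.equivFin ι).symm
  obtain ⟨M, hM⟩ : ∃ M : Matrix ι ι F, M = Matrix.of fun m j => v (e.symm j) m := ⟨_, rfl⟩
  have hMe : ∀ j, M *ᵥ unitVec j = v (e.symm j) := fun j => by
    rw [hM, unitVec, Matrix.mulVec_single_one]; rfl
  have hMx : ∀ x, M *ᵥ x = ∑ j, x j • v (e.symm j) := fun x => by
    conv_lhs => rw [eq_sum_unitVec x]
    rw [Matrix.mulVec_sum]
    exact Finset.sum_congr rfl fun j _ => by rw [Matrix.mulVec_smul, hMe]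
  have horth : ∀ i j : ι, i ≠ j → polar ⇑Q (v (e.symm i)) (v (e.symm j)) = 0 := fun i j hij =>
    member_orth hD (e.symm.injective.ne hij) (hvD _) (hvD _)
  have hQM : ∀ x, Q (M *ᵥ x) = Q v0 * sq x := fun x => by
    rw [hMx, Q_sum_orth _ _ fun i _ j _ hij => by
      rw [pl_smul_left, pl_smul_right, horth i j hij, mul_zero, mul_zero], sq_apply, dotProduct,
      Finset.mul_sum]
    exact Finset.sum_congr rfl fun j _ => by rw [Q_smul, hQv]; ring
  have hMu : IsUnit M := by
    refine Matrix.mulVec_injective_iff_isUnit.1 fun x y hxy => ?_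
    funext j
    have h1 : polar ⇑Q (M *ᵥ (x - y)) (v (e.symm j)) = 0 := by
      rw [Matrix.mulVec_sub, show M *ᵥ x = M *ᵥ y from hxy, sub_self, pl_zero_left]
    rw [hMx, polar_sum_left, Finset.sum_eq_single j
      (fun i _ hi => by rw [pl_smul_left, horth i j hi, mul_zero]) (by simp), pl_smul_left,
      pl_self, hQv, mul_eq_zero] at h1
    have h3 := h1.resolve_right (mul_ne_zero h2 hc)
    rw [Pi.sub_apply, sub_eq_zero] at h3
    exact h3
  obtain ⟨P, hP⟩ : ∃ P : GL ι F, (P : Matrix ι ι F) = M := ⟨hMu.unit, rfl⟩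
  have hPi : ∀ x, (P : Matrix ι ι F) *ᵥ ((P⁻¹ : GL ι F) : Matrix ι ι F) *ᵥ x = x := fun x => by
    rw [Matrix.mulVec_mulVec, ← Units.val_mul, mul_inv_cancel, Units.val_one, Matrix.one_mulVec]
  have hPi' : ∀ x, ((P⁻¹ : GL ι F) : Matrix ι ι F) *ᵥ ((P : Matrix ι ι F) *ᵥ x) = x := fun x => by
    rw [Matrix.mulVec_mulVec, ← Units.val_mul, inv_mul_cancel, Units.val_one, Matrix.one_mulVec]
  -- transport of isometries
  let φ : IsoGrp (sq (ι := ι) (F := F)) →* IsoGrp Q :=
    MonoidHom.mk' (fun g => ⟨P * (g : GL ι F) * P⁻¹, fun x _ => by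
      show Q (((P * (g : GL ι F) * P⁻¹ : GL ι F) : Matrix ι ι F) *ᵥ x) = Q x
      conv_rhs => rw [← hPi x]
      rw [Units.val_mul, Units.val_mul, ← Matrix.mulVec_mulVec, ← Matrix.mulVec_mulVec, hP, hQM,
        hQM, ← ap_apply, Q_ap]⟩)
      fun a b => Subtype.ext (by simp [mul_assoc])
  have hsurj : Function.Surjective φ := by
    intro h
    refine ⟨⟨P⁻¹ * (h : GL ι F) * P, fun x _ => ?_⟩, Subtype.ext (by simp [φ, mul_assoc])⟩
    show sq (((P⁻¹ * (h : GL ι F) * P : GL ι F) : Matrix ι ι F) *ᵥ x) = sq x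
    refine mul_left_cancel₀ hc ?_
    rw [← hQM, ← hQM, ← hP, Units.val_mul, Units.val_mul, ← Matrix.mulVec_mulVec,
      ← Matrix.mulVec_mulVec, hPi, ← ap_apply, Q_ap]
  have hΩ : (Omega F ⇑(sq (ι := ι) (F := F))).map φ = Omega F ⇑Q := by
    show (commutator _).map φ = commutator _
    rw [map_commutator_eq, MonoidHom.range_eq_top.2 hsurj]; rfl
  have happ : ∀ g x, ap (φ g) (M *ᵥ x) = M *ᵥ ap g x := fun g x => by
    show ((P * (g : GL ι F) * P⁻¹ : GL ι F) : Matrix ι ι F) *ᵥ (M *ᵥ x) = _
    rw [Units.val_mul, Units.val_mul, ← Matrix.mulVec_mulVec, ← Matrix.mulVec_mulVec, ← hP, hPi',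
      ap_apply]
  have hMinj : Function.Injective (fun x => M *ᵥ x) := Matrix.mulVec_injective_iff_isUnit.2 hMu
  have hmono : ∀ g, ((φ g : IsoGrp Q) : GL ι F) ∈ Geo.decompositionStabilizer D ↔ Mono g := by
    intro g
    constructor
    · intro h i
      obtain ⟨σ, hσ, -⟩ := ap_mem_member h
      obtain ⟨a, ha⟩ := hline _ _ (hσ _ _ (hvD (e.symm i)))
      refine ⟨e (σ (e.symm i)), a, hMinj ?_⟩
      show M *ᵥ ap g (unitVec i) = M *ᵥ (a • unitVec (e (σ (e.symm i))))
      rw [← happ, hMe, ha, Matrix.mulVec_smul, hMe, e.symm_apply_apply]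
    · intro h
      choose σ c hσ using h
      have hc0 : ∀ i, c i ≠ 0 := fun i h0 => by
        have := ap_row_self g i
        rw [hσ, h0, zero_smul, zero_dotProduct] at this
        exact zero_ne_one this
      have hinj : Function.Injective σ := fun i j hij => by
        by_contra hne
        have := ap_row_orth h2 g hne
        rw [hσ, hσ, hij, smul_dotProduct, dotProduct_smul, dot_unitVec, unitVec_same] at this
        simp [hc0] at this
      have hb : Function.Bijective fun i : Fin t => e.symm (σ (e i)) :=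
        Finite.injective_iff_bijective.1 ((e.symm.injective.comp hinj).comp e.injective)
      refine ⟨Equiv.ofBijective _ hb, fun i => ?_⟩
      refine Submodule.eq_of_le_of_finrank_eq ?_ ?_
      · rintro _ ⟨x, hx, rfl⟩
        obtain ⟨a, rfl⟩ := hline i x hx
        rw [map_smul]
        refine Submodule.smul_mem _ _ ?_
        rw [Matrix.toLin'_apply, ← e.symm_apply_apply i, ← hMe, ← ap_apply, happ, hσ,
          Matrix.mulVec_smul, hMe, Equiv.ofBijective_apply]
        simp only [e.symm_apply_apply]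
        exact Submodule.smul_mem _ _ (hvD _)
      · rw [hmd.finrank_eq]
        refine ((Submodule.equivMapOfInjective _ ?_ (D i)).finrank_eq.symm.trans (hmd.finrank_eq i))
        exact fun x y hxy => by
          simp only [Matrix.toLin'_apply] at hxy
          exact Matrix.mulVec_injective_iff_isUnit.2 (Units.isUnit _) hxy
  have hGL : ∀ x ∈ Geo.omegaGL ⇑Q, ∃ g, g ∈ Omega F ⇑(sq (ι := ι) (F := F)) ∧
      ((φ g : IsoGrp Q) : GL ι F) = x := fun x hx => by
    obtain ⟨h, hh, rfl⟩ := mem_omegaGL_iff.1 hx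
    rw [← hΩ] at hh
    obtain ⟨g, hg, rfl⟩ := hh
    exact ⟨g, hg, rfl⟩
  refine ⟨lt_of_le_not_ge inf_le_right fun hle => ?_, fun M' hM1 hM2 => ?_⟩
  · obtain ⟨g, hg, hgm⟩ := exists_omega_nonmono (ι := ι) (F := F) h2 (by omega)
    exact hgm ((hmono g).1 (hle (coe_mem_omegaGL.2 (hΩ ▸ Subgroup.mem_map_of_mem φ hg))).1)
  · let K : Subgroup (IsoGrp (sq (ι := ι) (F := F))) :=
      M'.comap ((Subgroup.subtype _).comp φ)
    have hinjφ : Function.Injective φ := fun a b h => by
      have h' := congrArg (fun z : IsoGrp Q => (z : GL ι F)) h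
      simpa [φ] using h'
    have hK : Over K := by
      refine Over.of_mono h2 (fun g hg => ?_) fun g hg hgm => ?_
      · obtain ⟨g', hg', he⟩ := hGL _ (hM2 hg)
        rwa [← hinjφ (Subtype.ext he)]
      · exact hM1 ⟨(hmono g).2 hgm, coe_mem_omegaGL.2 (hΩ ▸ Subgroup.mem_map_of_mem φ hg)⟩
    by_cases hall : ∀ g ∈ K, Mono g
    · left
      refine le_antisymm (fun x hx => ?_) hM1
      obtain ⟨g, hg, rfl⟩ := hGL x (hM2 hx)
      exact ⟨(hmono g).2 (hall g hx), hM2 hx⟩
    · right
      push Not at hall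
      obtain ⟨g, hg, hgm⟩ := hall
      refine le_antisymm hM2 fun x hx => ?_
      obtain ⟨g', hg', rfl⟩ := hGL x hx
      exact omega_le_of_nonmono hK hn hprime hg hgm hg'

/-- The frame stabiliser is maximal, in dimension at least ten. -/
theorem frame_maximal {Q : QuadraticForm F (ι → F)} {t : ℕ} {D : Fin t → Submodule F (ι → F)}
    (hprime : (Fintype.card F).Prime) (hodd : Odd (Fintype.card F)) (hn : 10 ≤ Fintype.card ι)
    (hD : Geo.IsOrthogonalMDecomposition ⇑Q 1 D) :
    Geo.IsMaximalIn (Geo.omegaGL ⇑Q) (Geo.decompositionStabilizer D ⊓ Geo.omegaGL ⇑Q) :=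
  frame_maximal' hprime hodd (.inl hn) hD

end Cfsg.Agent.Orth.Frame
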