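import Cfsg.Agent.Lib.Orth.Geo

/-!
# The frame of an orthonormal basis: monomial isometries of `∑ xᵢ²`

* `sq` : the form `∑ xᵢ²`; `unitVec i`; `sgn i` the reflection in `unitVec i`; `permIso π`
* `Mono g` : `g` permutes the coordinate lines; `monoSubgroup`
* `moved`, `card_moved_add_le` : the coordinates moved by a monomial involution
-/

set_option autoImplicit false
set_option linter.unusedSectionVars false

namespace Cfsg.Agent.Orth.Frame

open Cfsg Matrix Module Cfsg.Agent.Orth
open QuadraticMap (polar)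

variable {ι : Type} [Fintype ι] [DecidableEq ι] {F : Type*} [Field F]

/-- The sum of the squares of the coordinates. -/
noncomputable def sq : QuadraticForm F (ι → F) := QuadraticMap.weightedSumSquares F (1 : ι → F)

theorem sq_apply (x : ι → F) : sq x = x ⬝ᵥ x := by
  simp [sq, QuadraticMap.weightedSumSquares_apply, dotProduct]

theorem polar_sq (x y : ι → F) : polar ⇑(sq (ι := ι) (F := F)) x y = 2 * (x ⬝ᵥ y) := by
  simp only [polar, sq_apply, add_dotProduct, dotProduct_add, dotProduct_comm y x]; ring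

local notation "Grp" => IsoGrp (sq (ι := ι) (F := F))

/-- The coordinate vector. -/
def unitVec (i : ι) : ι → F := Pi.single i 1

theorem dot_unitVec (x : ι → F) (i : ι) : x ⬝ᵥ unitVec i = x i := by simp [unitVec]

theorem unitVec_dot (x : ι → F) (i : ι) : unitVec i ⬝ᵥ x = x i := by simp [unitVec]

theorem unitVec_same (i : ι) : (unitVec i : ι → F) i = 1 := by simp [unitVec]

theorem unitVec_ne {i j : ι} (h : j ≠ i) : (unitVec i : ι → F) j = 0 := by simp [unitVec, h]

theorem unitVec_inj {i j : ι} {c : F} (h : (unitVec i : ι → F) = c • unitVec j) : i = j := by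
  by_contra hne
  have := congrFun h i
  simp [unitVec_same, unitVec_ne hne] at this

theorem sq_unitVec (i : ι) : sq (unitVec i : ι → F) = 1 := by
  rw [sq_apply, dot_unitVec, unitVec_same]

theorem eq_sum_unitVec (x : ι → F) : x = ∑ i, x i • unitVec i := by
  simpa [unitVec] using pi_eq_sum_univ' x

theorem sq_nd (h2 : (2 : F) ≠ 0) : (sq (ι := ι) (F := F)).polarBilin.Nondegenerate := by
  constructor
  · intro x hx
    funext i
    have := hx (unitVec i)
    change polar _ x (unitVec i) = 0 at this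
    rw [polar_sq, dot_unitVec] at this
    exact (mul_eq_zero.1 this).resolve_left h2
  · intro x hx
    funext i
    have := hx (unitVec i)
    change polar _ (unitVec i) x = 0 at this
    rw [polar_sq, unitVec_dot] at this
    exact (mul_eq_zero.1 this).resolve_left h2

theorem dot_ap (h2 : (2 : F) ≠ 0) (g : Grp) (x y : ι → F) : ap g x ⬝ᵥ ap g y = x ⬝ᵥ y :=
  mul_left_cancel₀ h2 (by rw [← polar_sq, ← polar_sq, polar_ap])

theorem dot_ap_self (g : Grp) (x : ι → F) : ap g x ⬝ᵥ ap g x = x ⬝ᵥ x := by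
  rw [← sq_apply, ← sq_apply, Q_ap]

theorem ap_row_self (g : Grp) (i : ι) : ap g (unitVec i) ⬝ᵥ ap g (unitVec i) = (1 : F) := by
  rw [dot_ap_self, dot_unitVec, unitVec_same]

theorem ap_row_orth (h2 : (2 : F) ≠ 0) (g : Grp) {i j : ι} (h : i ≠ j) :
    ap g (unitVec i) ⬝ᵥ ap g (unitVec j) = (0 : F) := by
  rw [dot_ap h2, dot_unitVec, unitVec_ne h.symm]

theorem ap_coord (h2 : (2 : F) ≠ 0) (g : Grp) (i j : ι) :
    ap g (unitVec i) j = ap g⁻¹ (unitVec j) i := by
  rw [← dot_unitVec (ap g (unitVec i)) j, ← dot_ap h2 g⁻¹, ap_inv_ap, unitVec_dot]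

theorem ext_unitVec {g h : Grp} (H : ∀ i, ap g (unitVec i) = ap h (unitVec i)) : g = h :=
  ext_ap fun x => by
    rw [eq_sum_unitVec x]
    simp only [map_sum, map_smul, H]

theorem refl_ap_dot (v x : ι → F) :
    ap (refl sq v) x = x - (2 * (v ⬝ᵥ x) / (v ⬝ᵥ v)) • v := by
  rw [refl_ap, sq_apply, polar_sq, inv_mul_eq_div]

theorem refl_ap_unit {v : ι → F} (hv : v ⬝ᵥ v = 1) (x : ι → F) :
    ap (refl sq v) x = x - (2 * (v ⬝ᵥ x)) • v := by
  rw [refl_ap_dot, hv, div_one]

theorem exists_smul_of_refl_eq (h2 : (2 : F) ≠ 0) {u v : ι → F} (hu : sq u ≠ 0)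
    (h : refl sq u = refl sq v) : ∃ c : F, c ≠ 0 ∧ u = c • v := by
  have h1 : ap (refl sq u) u = ap (refl sq v) u := by rw [h]
  rw [refl_ap_self _ hu, refl_ap_dot] at h1
  refine ⟨2⁻¹ * (2 * (v ⬝ᵥ u) / (v ⬝ᵥ v)), fun h0 => ?_, ?_⟩
  · rcases mul_eq_zero.1 h0 with h0 | h0
    · exact inv_ne_zero h2 h0
    rw [h0, zero_smul, sub_zero] at h1
    have : (2 : F) • u = 0 := by linear_combination (norm := module) -h1
    exact hu (by rw [(smul_eq_zero.1 this).resolve_left h2, map_zero])
  · rw [mul_smul]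
    have : (2 * (v ⬝ᵥ u) / (v ⬝ᵥ v)) • v = (2 : F) • u := by
      linear_combination (norm := module) h1
    rw [this, smul_smul, inv_mul_cancel₀ h2, one_smul]

theorem eq_smul_of_commute_refl (h2 : (2 : F) ≠ 0) {g : Grp} {v : ι → F} (hv : sq v ≠ 0)
    (h : Commute g (refl sq v)) : ap g v = v ∨ ap g v = -v := by
  have he : refl sq (ap g v) = refl sq v := by
    rw [← conj_refl, h.eq, mul_inv_cancel_right]
  obtain ⟨c, -, hc⟩ := exists_smul_of_refl_eq h2 (by rwa [Q_ap]) he
  have h1 : sq (ap g v) = sq v := Q_ap g v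
  rw [hc, Q_smul] at h1
  rcases mul_self_eq_one_iff.1 (mul_right_cancel₀ hv (h1.trans (one_mul _).symm)) with rfl | rfl
  · left; rw [hc, one_smul]
  · right; rw [hc, neg_one_smul]

theorem commute_refl_of_fix {g : Grp} {v : ι → F} (h : ap g v = v ∨ ap g v = -v) :
    Commute g (refl sq v) := by
  have h1 : refl sq (ap g v) = refl sq v := by
    rcases h with h | h <;> rw [h]
    rw [← neg_one_smul F v, refl_smul _ (neg_ne_zero.2 one_ne_zero)]
  show g * refl sq v = refl sq v * g
  rw [mul_refl, h1]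

/-! ### sign changes -/

/-- The reflection in a coordinate vector. -/
noncomputable def sgn (i : ι) : Grp := refl sq (unitVec i)

theorem sgn_ap (i : ι) (x : ι → F) : ap (sgn i) x = x - (2 * x i) • unitVec i := by
  rw [sgn, refl_ap_unit (by rw [dot_unitVec, unitVec_same]), unitVec_dot]

theorem sgn_ap_same (i : ι) : ap (sgn i : Grp) (unitVec i) = -unitVec i := by
  rw [sgn, refl_ap_self _ (by rw [sq_unitVec]; exact one_ne_zero)]

theorem sgn_ap_ne {i j : ι} (h : j ≠ i) : ap (sgn i : Grp) (unitVec j) = unitVec j := by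
  rw [sgn_ap, unitVec_ne h.symm, mul_zero, zero_smul, sub_zero]

theorem sgn_coord (i : ι) (x : ι → F) (j : ι) :
    ap (sgn i) x j = if j = i then -x j else x j := by
  rw [sgn_ap]
  split_ifs with h
  · subst h; simp [unitVec_same]; ring
  · simp [unitVec_ne h]

theorem conj_sgn (g : Grp) (i : ι) : g * sgn i * g⁻¹ = refl sq (ap g (unitVec i)) := conj_refl g _

theorem sgn_mul_self (i : ι) : (sgn i : Grp) * sgn i = 1 := refl_mul_self _ _

theorem sgn_inv (i : ι) : (sgn i : Grp)⁻¹ = sgn i := refl_inv _ _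

theorem commute_sgn_of_fix {g : Grp} {i : ι} (h : ap g (unitVec i) = unitVec i) :
    Commute g (sgn i) := commute_refl_of_fix (.inl h)

theorem sgn_comm (i j : ι) : Commute (sgn i : Grp) (sgn j) := by
  rcases eq_or_ne i j with rfl | h
  · exact Commute.refl _
  · exact commute_sgn_of_fix (sgn_ap_ne h.symm)

/-! ### permutations -/

/-- The isometry permuting the coordinates. -/
noncomputable def permIso (π : Equiv.Perm ι) : Grp :=
  ⟨⟨Equiv.Perm.permMatrix F π.symm, Equiv.Perm.permMatrix F π,
      by rw [← Matrix.permMatrix_mul]; simp [← Equiv.Perm.inv_def],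
      by rw [← Matrix.permMatrix_mul]; simp [← Equiv.Perm.inv_def]⟩, fun x _ => by
    show sq (Equiv.Perm.permMatrix F π.symm *ᵥ x) = sq x
    rw [Matrix.permMatrix_mulVec, sq_apply, sq_apply, comp_equiv_dotProduct_comp_equiv]⟩

theorem permIso_ap (π : Equiv.Perm ι) (x : ι → F) : ap (permIso π : Grp) x = x ∘ π.symm :=
  Matrix.permMatrix_mulVec _

theorem permIso_coord (π : Equiv.Perm ι) (x : ι → F) (i : ι) :
    ap (permIso π : Grp) x (π i) = x i := by
  simp [permIso_ap]

theorem permIso_unitVec (π : Equiv.Perm ι) (i : ι) :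
    ap (permIso π : Grp) (unitVec i) = unitVec (π i) := by
  funext j
  rw [permIso_ap, Function.comp_apply]
  rcases eq_or_ne j (π i) with rfl | h
  · simp [unitVec_same]
  · rw [unitVec_ne h, unitVec_ne]
    exact fun h' => h (by rw [← h', Equiv.apply_symm_apply])

theorem permIso_mul (π τ : Equiv.Perm ι) : (permIso (π * τ) : Grp) = permIso π * permIso τ :=
  ext_unitVec fun i => by simp [permIso_unitVec]

theorem permIso_one : (permIso (1 : Equiv.Perm ι) : Grp) = 1 :=
  ext_unitVec fun i => by simp [permIso_unitVec]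

theorem permIso_inv (π : Equiv.Perm ι) : (permIso π : Grp)⁻¹ = permIso π⁻¹ :=
  inv_eq_of_mul_eq_one_right (by rw [← permIso_mul, mul_inv_cancel, permIso_one])

/-! ### monomial isometries -/

/-- The isometry permutes the coordinate lines. -/
def Mono (g : Grp) : Prop := ∀ i, ∃ (j : ι) (c : F), ap g (unitVec i) = c • unitVec j

theorem Mono.one : Mono (1 : Grp) := fun i => ⟨i, 1, by simp⟩

theorem Mono.mul {g h : Grp} (hg : Mono g) (hh : Mono h) : Mono (g * h) := fun i => by
  obtain ⟨j, c, hj⟩ := hh i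
  obtain ⟨k, d, hk⟩ := hg j
  exact ⟨k, c * d, by rw [ap_mul, hj, map_smul, hk, smul_smul]⟩

variable (ι F) in
/-- The monomial isometries. -/
noncomputable def monoSubmonoid : Submonoid Grp where
  carrier := {g | Mono g}
  mul_mem' := Mono.mul
  one_mem' := Mono.one

theorem Mono.pow {g : Grp} (hg : Mono g) (k : ℕ) : Mono (g ^ k) :=
  (monoSubmonoid ι F).pow_mem hg k

theorem mono_sgn (i : ι) : Mono (sgn i : Grp) := fun j => by
  rcases eq_or_ne j i with rfl | h
  · exact ⟨j, -1, by rw [sgn_ap_same, neg_one_smul]⟩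
  · exact ⟨j, 1, by rw [sgn_ap_ne h, one_smul]⟩

theorem mono_permIso (π : Equiv.Perm ι) : Mono (permIso π : Grp) := fun i =>
  ⟨π i, 1, by rw [permIso_unitVec, one_smul]⟩

theorem Mono.inv [Fintype F] {g : Grp} (hg : Mono g) : Mono g⁻¹ := by
  have : Finite Grp := Finite.of_injective (fun g => ((g : GL ι F) : Matrix ι ι F))
    fun g h hgh => Subtype.ext (Units.ext hgh)
  have hm : g⁻¹ = g ^ (orderOf g - 1) := inv_eq_of_mul_eq_one_right (by
    rw [← pow_succ', Nat.sub_add_cancel (orderOf_pos g), pow_orderOf_eq_one])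
  exact hm ▸ hg.pow _

theorem Mono.conj [Fintype F] {g h : Grp} (hg : Mono g) (hh : Mono h) : Mono (g * h * g⁻¹) :=
  (hg.mul hh).mul hg.inv

/-- A vector with at most one non-zero coordinate. -/
theorem eq_smul_unitVec {x : ι → F} {j : ι} (h : ∀ k, k ≠ j → x k = 0) : x = x j • unitVec j := by
  funext k
  rcases eq_or_ne k j with rfl | hk
  · simp [unitVec_same]
  · simp [unitVec_ne hk, h k hk]

/-- The monomial reflections: at most two non-zero coordinates, with equal squares. -/
theorem refl_mono {v : ι → F} (hv : v ⬝ᵥ v ≠ 0) (h : Mono (refl sq v)) (h2 : (2 : F) ≠ 0) :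
    (∀ a b c, v a ≠ 0 → v b ≠ 0 → v c ≠ 0 → a = b ∨ a = c ∨ b = c) ∧
      ∀ a b, v a ≠ 0 → v b ≠ 0 → v a ^ 2 = v b ^ 2 := by
  have key : ∀ a b, v a ≠ 0 → v b ≠ 0 → a ≠ b → 2 * v a * v a = v ⬝ᵥ v ∧
      ∀ c, v c ≠ 0 → c = a ∨ c = b := by
    intro a b ha hb hab
    obtain ⟨j, c, hc⟩ := h a
    rw [refl_ap_dot, dot_unitVec] at hc
    have hne : ∀ k, k ≠ a → v k ≠ 0 → j = k := fun k hk hvk => by
      by_contra hj
      have := congrFun hc k
      simp [unitVec_ne hk, unitVec_ne (Ne.symm hj), h2, ha, hv, hvk] at this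
    obtain rfl := hne b hab.symm hb
    refine ⟨?_, fun c hvc => or_iff_not_imp_left.2 fun hca => (hne c hca hvc).symm⟩
    have := congrFun hc a
    simp [unitVec_same, unitVec_ne hab] at this
    field_simp at this
    linear_combination -this
  refine ⟨fun a b c ha hb hc => ?_, fun a b ha hb => ?_⟩
  · by_contra! hne
    rcases (key a b ha hb hne.1).2 c hc with rfl | rfl
    · exact hne.2.1 rfl
    · exact hne.2.2 rfl
  · rcases eq_or_ne a b with rfl | hab
    · rfl
    refine mul_left_cancel₀ h2 ?_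
    linear_combination (key a b ha hb hab).1 - (key b a hb ha hab.symm).1

/-! ### coordinates moved by a monomial involution -/

variable [DecidableEq F]

/-- The coordinates whose vector is not fixed. -/
noncomputable def moved (z : Grp) : Finset ι :=
  Finset.univ.filter fun i => ap z (unitVec i) ≠ unitVec i

theorem notMem_moved {z : Grp} {i : ι} : i ∉ moved z ↔ ap z (unitVec i) = unitVec i := by
  simp [moved]

theorem eq_zero_of_neg_fix (h2 : (2 : F) ≠ 0) {z : Grp} {y : ι → F} (hy : ap z y = -y) {i : ι}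
    (hi : i ∉ moved z) : y i = 0 := by
  have h := dot_ap h2 z y (unitVec i)
  rw [hy, notMem_moved.1 hi, neg_dotProduct, dot_unitVec] at h
  exact (mul_eq_zero.1 (show 2 * y i = 0 by linear_combination -h)).resolve_left h2

theorem mem_resSpace_of_neg (h2 : (2 : F) ≠ 0) {z : Grp} {y : ι → F} (hy : ap z y = -y) :
    y ∈ resSpace z :=
  mem_resSpace.2 ⟨(-2⁻¹ : F) • y, by
    rw [map_smul, hy]
    linear_combination (norm := module) (by simp [h2] : (2⁻¹ * 2 : F) • y = y)⟩

theorem neg_of_mem_resSpace {z : Grp} (hz : z * z = 1) {y : ι → F} (hy : y ∈ resSpace z) :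
    ap z y = -y := by
  obtain ⟨x, rfl⟩ := mem_resSpace.1 hy
  rw [map_sub, ← ap_mul, hz, ap_one, neg_sub]

/-- A monomial involution: the permutation and the signs. -/
theorem Mono.exists_perm (h2 : (2 : F) ≠ 0) {z : Grp} (hm : Mono z) (hz : z * z = 1) :
    ∃ (σ : ι → ι) (c : ι → F), (∀ i, ap z (unitVec i) = c i • unitVec (σ i)) ∧
      (∀ i, σ (σ i) = i) ∧ (∀ i, c i = 1 ∨ c i = -1) ∧ ∀ i, c (σ i) = c i := by
  choose σ c hc using hm
  have hc2 : ∀ i, c i = 1 ∨ c i = -1 := fun i => mul_self_eq_one_iff.1 (by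
    have := ap_row_self z i
    rwa [hc, smul_dotProduct, dotProduct_smul, dot_unitVec, unitVec_same, smul_eq_mul, smul_eq_mul,
      mul_one] at this)
  have hzz : ∀ i, (unitVec i : ι → F) = (c i * c (σ i)) • unitVec (σ (σ i)) := fun i => by
    rw [mul_smul, ← hc (σ i), ← map_smul, ← hc, ← ap_mul, hz, ap_one]
  have hσ : ∀ i, σ (σ i) = i := fun i => (unitVec_inj (hzz i)).symm
  refine ⟨σ, c, hc, hσ, hc2, fun i => ?_⟩
  have h := congrFun (hzz i) i
  rw [hσ, Pi.smul_apply, unitVec_same, smul_eq_mul, mul_one] at h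
  rcases hc2 i with e | e <;> rw [e] at h ⊢
  · linear_combination -h
  · linear_combination h

theorem perm_mem_moved {z : Grp} {σ : ι → ι} {c : ι → F} (hc : ∀ i, ap z (unitVec i) = c i • unitVec (σ i))
    (hσ : ∀ i, σ (σ i) = i) {i : ι} (hi : i ∈ moved z) : σ i ∈ moved z := by
  by_contra h
  have h' := notMem_moved.1 h
  rw [hc, hσ] at h'
  have hfix := unitVec_inj h'.symm
  exact h (by rw [hfix]; exact hi)

/-- `|moved z| + #{negated coordinates} ≤ 2 dim [V,z]`. -/
theorem card_moved_add_le (h2 : (2 : F) ≠ 0) {z : Grp} (hm : Mono z) (hz : z * z = 1) :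
    (moved z).card + (Finset.univ.filter fun i : ι => ap z (unitVec i) = -unitVec i).card ≤
      2 * finrank F (resSpace z) := by
  obtain ⟨σ, c, hc, hσ, hc2, hcσ⟩ := hm.exists_perm h2 hz
  let o := Fintype.equivFin ι
  let R := (moved z).filter fun i => o i ≤ o (σ i)
  have hinj : Function.Injective σ := Function.LeftInverse.injective hσ
  have hU : R ∪ R.image σ = moved z := by
    ext i
    simp only [R, Finset.mem_union, Finset.mem_image, Finset.mem_filter]
    constructor
    · rintro (⟨h, -⟩ | ⟨j, ⟨h, -⟩, rfl⟩)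
      · exact h
      · exact perm_mem_moved hc hσ h
    · intro h
      rcases le_total (o i) (o (σ i)) with h' | h'
      · exact .inl ⟨h, h'⟩
      · exact .inr ⟨σ i, ⟨perm_mem_moved hc hσ h, by rwa [hσ]⟩, hσ i⟩
  have hI : (Finset.univ.filter fun i : ι => ap z (unitVec i) = -unitVec i) ⊆ R ∩ R.image σ := by
    intro i hi
    have hi' := (Finset.mem_filter.1 hi).2
    have hsi : σ i = i := by
      rw [hc] at hi'
      refine (unitVec_inj (c := -(c i)) ?_).symm
      rw [neg_smul, hi', neg_neg]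
    have hR : i ∈ R := by
      refine Finset.mem_filter.2 ⟨?_, le_of_eq (by rw [hsi])⟩
      by_contra h
      rw [notMem_moved.1 h] at hi'
      have := congrFun hi' i
      simp [unitVec_same] at this
      exact h2 (by linear_combination this)
    exact Finset.mem_inter.2 ⟨hR, Finset.mem_image.2 ⟨i, hR, hsi⟩⟩
  have hcard := Finset.card_union_add_card_inter R (R.image σ)
  rw [hU, Finset.card_image_of_injective _ hinj] at hcard
  have hle := Finset.card_le_card hI
  suffices h : R.card ≤ finrank F (resSpace z) by omega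
  let w : R → resSpace z := fun r => ⟨unitVec r.1 - ap z (unitVec r.1), by
    simpa using (resSpace z).neg_mem (sub_mem_resSpace z (unitVec r.1))⟩
  have hw : LinearIndependent F w := by
    refine LinearIndependent.of_comp (resSpace z).subtype ?_
    refine Fintype.linearIndependent_iff.2 fun a ha r => ?_
    obtain ⟨r, hr⟩ := r
    have h := congrFun ha r
    simp only [Finset.sum_apply, Pi.smul_apply, Function.comp_apply, w, Submodule.coe_subtype,
      Pi.zero_apply, Pi.sub_apply, hc, smul_eq_mul] at h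
    rw [Finset.sum_eq_single ⟨r, hr⟩] at h
    · refine (mul_eq_zero.1 h).resolve_right ?_
      rw [unitVec_same]
      by_cases hsr : σ r = r
      · rw [hsr, unitVec_same]
        rcases hc2 r with e | e
        · exact absurd (by rw [hc, e, hsr, one_smul] : ap z (unitVec r) = unitVec r)
            (Finset.mem_filter.1 (Finset.mem_filter.1 hr).1).2
        · rw [e]; intro h'; exact h2 (by linear_combination h')
      · rw [unitVec_ne (Ne.symm hsr)]; simp
    · rintro ⟨s, hs⟩ - hne
      have hsr : r ≠ s := fun e => hne (Subtype.ext e.symm)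
      have hσs : r ≠ σ s := fun e => by
        have h1 := (Finset.mem_filter.1 hs).2
        have h2' := (Finset.mem_filter.1 hr).2
        rw [e, hσ] at h2'
        exact hsr (e.trans (o.injective (le_antisymm h2' h1)))
      simp [unitVec_ne hsr, unitVec_ne hσs]
    · simp
  simpa using hw.fintype_card_le_finrank

/-- The `-1` vectors of a monomial involution have equal squares on each orbit. -/
theorem neg_vec_perm (h2 : (2 : F) ≠ 0) {z : Grp} {σ : ι → ι} {c : ι → F}
    (hc : ∀ i, ap z (unitVec i) = c i • unitVec (σ i)) {y : ι → F} (hy : ap z y = -y) (i : ι) :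
    c i * y (σ i) = -y i := by
  have h := dot_ap h2 z y (unitVec i)
  rw [hy, hc, neg_dotProduct, dotProduct_smul, dot_unitVec, dot_unitVec, smul_eq_mul] at h
  linear_combination -h

end Cfsg.Agent.Orth.Frame
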