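import Cfsg.Agent.Lib.Orth.Frame.Group

/-!
# Rotations of three coordinates: axes, the counting argument

* `span3 T`, `finrank_span3`, `axis g` and `finrank_axis`
* `eq_one_of_fix` : an isometry of three coordinates fixing a singular vector and a non-singular vector
  orthogonal to it is the identity
* `axis_dichotomy` : an axis is non-singular, or the element has order the characteristic
* `mono_of_order_prime_to` : the counting argument
-/

set_option autoImplicit false
set_option linter.unusedSectionVars false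

namespace Cfsg.Agent.Orth.Frame

open Cfsg Matrix Module Cfsg.Agent.Orth
open QuadraticMap (polar)

variable {ι : Type} [Fintype ι] [DecidableEq ι] {F : Type*} [Field F] [Fintype F]

local notation "Grp" => IsoGrp (sq (ι := ι) (F := F))

/-- The span of the coordinate vectors in `T`. -/
def span3 (T : Finset ι) : Submodule F (ι → F) where
  carrier := {x | ∀ m, m ∉ T → x m = 0}
  add_mem' {x y} hx hy m hm := by simp [hx m hm, hy m hm]
  zero_mem' := fun _ _ => rfl
  smul_mem' c x hx m hm := by simp [hx m hm]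

theorem mem_span3 {T : Finset ι} {x : ι → F} : x ∈ span3 T ↔ ∀ m, m ∉ T → x m = 0 := Iff.rfl

theorem unitVec_mem_span3 {T : Finset ι} {i : ι} (hi : i ∈ T) : (unitVec i : ι → F) ∈ span3 T :=
  fun _ hm => unitVec_ne fun e => hm (e ▸ hi)

theorem finrank_span3 (T : Finset ι) : finrank F (span3 (F := F) T) = T.card := by
  rw [show T.card = finrank F (T → F) by simp]
  refine LinearEquiv.finrank_eq
    { toFun := fun x i => x.1 i.1
      map_add' := fun _ _ => rfl
      map_smul' := fun _ _ => rfl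
      invFun := fun f => ⟨fun i => if h : i ∈ T then f ⟨i, h⟩ else 0, fun m hm => dif_neg hm⟩
      left_inv := fun x => Subtype.ext (funext fun i => by
        by_cases h : i ∈ T
        · simp [h]
        · simp [h, x.2 i h])
      right_inv := fun f => funext fun i => by simp [i.2] }

/-- The fixed vectors. -/
noncomputable def fixSpace (g : Grp) : Submodule F (ι → F) := LinearMap.ker (ap g - LinearMap.id)

theorem mem_fixSpace {g : Grp} {x : ι → F} : x ∈ fixSpace g ↔ ap g x = x := by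
  simp [fixSpace, sub_eq_zero]

/-- The fixed vectors among the three coordinates. -/
noncomputable def axis (T : Finset ι) (g : Grp) : Submodule F (ι → F) := fixSpace g ⊓ span3 T

theorem mem_axis {T : Finset ι} {g : Grp} {x : ι → F} : x ∈ axis T g ↔ ap g x = x ∧ x ∈ span3 T := by
  simp [axis, mem_fixSpace]

variable {T : Finset ι}

theorem res_le_span3 (h2 : (2 : F) ≠ 0) {g : Grp}
    (hfix : ∀ m, m ∉ T → ap g (unitVec m) = unitVec m) : resSpace g ≤ span3 T := by
  intro v hv m hm
  have := polar_fix_resSpace (hfix m hm) hv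
  rw [polar_sq, unitVec_dot] at this
  exact (mul_eq_zero.1 this).resolve_left h2

theorem ap_mem_span3 (h2 : (2 : F) ≠ 0) {g : Grp} (hfix : ∀ m, m ∉ T → ap g (unitVec m) = unitVec m)
    {x : ι → F} (hx : x ∈ span3 T) : ap g x ∈ span3 T := fun m hm => by
  have h := dot_ap h2 g x (unitVec m)
  rw [hfix m hm, dot_unitVec, dot_unitVec] at h
  rw [h, hx m hm]

theorem finrank_axis (h2 : (2 : F) ≠ 0) (hT : T.card = 3) {g : Grp}
    (hfix : ∀ m, m ∉ T → ap g (unitVec m) = unitVec m) (hd : dick g = 1) (hg : g ≠ 1) :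
    finrank F (axis T g) = 1 := by
  have hle := Submodule.finrank_mono (res_le_span3 h2 hfix)
  rw [finrank_span3, hT] at hle
  have hev : Even (finrank F (resSpace g)) := by
    rw [dick] at hd; exact (neg_one_pow_eq_one_iff_even (by norm_num)).1 hd
  have hne : finrank F (resSpace g) ≠ 0 := fun h =>
    hg (eq_one_of_resSpace_eq_bot (Submodule.finrank_eq_zero.1 h))
  have hr : finrank F (resSpace g) = 2 := by obtain ⟨k, hk⟩ := hev; omega
  have hsum := finrank_resSpace_add_fix g
  have htop : fixSpace g ⊔ span3 T = ⊤ := by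
    rw [eq_top_iff]
    intro x _
    rw [eq_sum_unitVec x]
    refine Submodule.sum_mem _ fun i _ => Submodule.smul_mem _ _ ?_
    by_cases hi : i ∈ T
    · exact Submodule.mem_sup_right (unitVec_mem_span3 hi)
    · exact Submodule.mem_sup_left (mem_fixSpace.2 (hfix i hi))
  have h := Submodule.finrank_sup_add_finrank_inf_eq (fixSpace g) (span3 (F := F) T)
  rw [htop, finrank_top, finrank_space, finrank_span3, hT] at h
  rw [axis]
  change _ + finrank F (fixSpace g) = _ at hsum
  omega

/-- Three coordinates: a singular vector, an opposite one, and a vector orthogonal to both. -/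
theorem exists_basis3 {a b c : ι} (hab : a ≠ b) (hac : a ≠ c) (hbc : b ≠ c) (hT : T = {a, b, c})
    (h2 : (2 : F) ≠ 0) {w : ι → F} (hwT : w ∈ span3 T) (hw : w ⬝ᵥ w = 0) (hwa : w a ≠ 0) :
    ∃ w' y : ι → F, w' = ap (sgn a : Grp) w ∧ w' ∈ span3 T ∧ y ∈ span3 T ∧ w' ⬝ᵥ w' = 0 ∧ w ⬝ᵥ w' = -2 * w a ^ 2 ∧ w ⬝ᵥ y = 0 ∧
      w' ⬝ᵥ y = 0 ∧ y ⬝ᵥ y = -w a ^ 2 ∧ ap (sgn a : Grp) y = y ∧
      ∀ x ∈ span3 T, ∃ α β γ : F, x = α • w + β • w' + γ • y := by
  obtain ⟨w', hw'⟩ : ∃ w' : ι → F, w' = ap (sgn a : Grp) w := ⟨_, rfl⟩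
  obtain ⟨y, hy'⟩ : ∃ y : ι → F, y = w c • unitVec b - w b • unitVec c := ⟨_, rfl⟩
  refine ⟨w', y, hw', ?_⟩
  have hmT : ∀ m, m ∈ T → m = a ∨ m = b ∨ m = c := fun m hm => by
    rw [hT] at hm; simpa using hm
  have hout : ∀ {x : ι → F}, x ∈ span3 T → ∀ m, m ≠ a → m ≠ b → m ≠ c → x m = 0 :=
    fun hx m h1 h3 h4 => hx m fun hm => by rcases hmT m hm with h | h | h <;> contradiction
  have hdot : ∀ u v : ι → F, u ∈ span3 T → u ⬝ᵥ v = u a * v a + u b * v b + u c * v c := by
    intro u v hu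
    rw [dotProduct, ← Finset.sum_subset (Finset.subset_univ T) (fun m _ hm => by
      rw [hu m hm, zero_mul]), hT, Finset.sum_insert (by simp [hab, hac]), Finset.sum_pair hbc]
    ring
  have hw'a : w' a = -w a := by simp [hw', sgn_coord]
  have hw'b : w' b = w b := by simp [hw', sgn_coord, hab.symm]
  have hw'c : w' c = w c := by simp [hw', sgn_coord, hac.symm]
  have hya : y a = 0 := by simp [hy', unitVec_ne hab, unitVec_ne hac]
  have hyb : y b = w c := by simp [hy', unitVec_same, unitVec_ne hbc]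
  have hyc : y c = -w b := by simp [hy', unitVec_same, unitVec_ne hbc.symm]
  have hw'T : w' ∈ span3 T := fun m hm => by
    simp only [hw', sgn_coord]
    rw [if_neg fun e : m = a => hm (by rw [e, hT]; simp), hwT m hm]
  have hyT : y ∈ span3 T := hy' ▸ sub_mem (Submodule.smul_mem _ _ (unitVec_mem_span3 (by rw [hT]; simp)))
    (Submodule.smul_mem _ _ (unitVec_mem_span3 (by rw [hT]; simp)))
  have hw3 := (hdot w w hwT).symm.trans hw
  have hd : w b * w b + w c * w c ≠ 0 := fun h =>
    mul_ne_zero hwa hwa (by linear_combination hw3 - h)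
  refine ⟨hw'T, hyT, by rw [hw', dot_ap_self]; exact hw, ?_, ?_, ?_, ?_, ?_, fun x hx => ?_⟩
  · rw [hdot w w' hwT, hw'a, hw'b, hw'c]; linear_combination hw3
  · rw [hdot w y hwT, hya, hyb, hyc]; ring
  · rw [hdot w' y hw'T, hya, hyb, hyc, hw'a, hw'b, hw'c]; ring
  · rw [hdot y y hyT, hya, hyb, hyc]; linear_combination hw3
  · rw [sgn_ap, hya, mul_zero, zero_smul, sub_zero]
  · obtain ⟨ρ, γ, hρ, hγ⟩ : ∃ ρ γ : F, x b = ρ * w b + γ * w c ∧ x c = ρ * w c - γ * w b := by
      refine ⟨(x b * w b + x c * w c) / (w b * w b + w c * w c),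
        (x b * w c - x c * w b) / (w b * w b + w c * w c), ?_, ?_⟩
      · rw [div_mul_eq_mul_div, div_mul_eq_mul_div, ← add_div, eq_div_iff hd]; ring
      · rw [div_mul_eq_mul_div, div_mul_eq_mul_div, ← sub_div, eq_div_iff hd]; ring
    refine ⟨(ρ + x a / w a) / 2, (ρ - x a / w a) / 2, γ, ?_⟩
    funext m
    simp only [Pi.add_apply, Pi.smul_apply, smul_eq_mul]
    by_cases h1 : m = a
    · subst h1; rw [hw'a, hya]; field_simp; ring
    by_cases h3 : m = b
    · subst h3; rw [hw'b, hyb, hρ]; field_simp; ring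
    by_cases h4 : m = c
    · subst h4; rw [hw'c, hyc, hγ]; field_simp; ring
    rw [hout hx m h1 h3 h4, hout hwT m h1 h3 h4, hout hw'T m h1 h3 h4, hout hyT m h1 h3 h4]
    ring

/-- A singular vector of three coordinates: one of them is the pivot. -/
theorem exists_pivot (hT : T.card = 3) {w : ι → F} (hwT : w ∈ span3 T) (hw0 : w ≠ 0) :
    ∃ a b c, a ≠ b ∧ a ≠ c ∧ b ≠ c ∧ T = {a, b, c} ∧ w a ≠ 0 := by
  obtain ⟨a, ha⟩ := Function.ne_iff.1 hw0
  have haT : a ∈ T := by by_contra h; exact ha (hwT a h)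
  obtain ⟨b, c, hbc, he⟩ := Finset.card_eq_two.1
    (show (T.erase a).card = 2 by rw [Finset.card_erase_of_mem haT, hT])
  have hb : b ∈ T.erase a := by rw [he]; simp
  have hc : c ∈ T.erase a := by rw [he]; simp
  exact ⟨a, b, c, (Finset.ne_of_mem_erase hb).symm, (Finset.ne_of_mem_erase hc).symm, hbc,
    by rw [← Finset.insert_erase haT, he], ha⟩

/-- An isometry of three coordinates fixing a singular vector and a non-singular orthogonal one. -/
theorem eq_one_of_fix (h2 : (2 : F) ≠ 0) (hT : T.card = 3) {g : Grp}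
    (hfix : ∀ m, m ∉ T → ap g (unitVec m) = unitVec m) {w y : ι → F} (hwT : w ∈ span3 T)
    (hyT : y ∈ span3 T) (hw0 : w ≠ 0) (hw : w ⬝ᵥ w = 0) (hwy : w ⬝ᵥ y = 0) (hy : y ⬝ᵥ y ≠ 0)
    (hgw : ap g w = w) (hgy : ap g y = y) : g = 1 := by
  obtain ⟨a, b, c, hab, hac, hbc, hTe, hwa⟩ := exists_pivot hT hwT hw0
  obtain ⟨w', y', -, -, -, hw'w', hww', hwy', hw'y', hy'y', -, hdec⟩ :=
    exists_basis3 (F := F) hab hac hbc hTe h2 hwT hw hwa
  obtain ⟨αy, βy, γy, hye⟩ := hdec y hyT
  have hβy : βy = 0 := by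
    have := hwy
    rw [hye, dotProduct_add, dotProduct_add, dotProduct_smul, dotProduct_smul, dotProduct_smul, hw,
      hww', hwy'] at this
    simpa [h2, hwa] using this
  have hγy : γy ≠ 0 := fun h => hy (by rw [hye, hβy, h]; simp [hw])
  -- every displacement is a multiple of `w`
  have hδ : ∀ x, ∃ k : F, ap g x - x = k • w := by
    intro x
    have hmem : ap g x - x ∈ span3 T := res_le_span3 h2 hfix (sub_mem_resSpace g x)
    obtain ⟨α, β, γ, he⟩ := hdec _ hmem
    have hperp : ∀ z, ap g z = z → z ⬝ᵥ (ap g x - x) = 0 := fun z hz => by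
      have := polar_fix_resSpace hz (sub_mem_resSpace g x)
      rw [polar_sq] at this
      exact (mul_eq_zero.1 this).resolve_left h2
    have e1 := hperp w hgw
    have e2 := hperp y hgy
    rw [he, dotProduct_add, dotProduct_add, dotProduct_smul, dotProduct_smul, dotProduct_smul, hw,
      hww', hwy'] at e1
    have hβ : β = 0 := by simpa [h2, hwa] using e1
    rw [he, hye, hβy, hβ] at e2
    simp [dotProduct_add, add_dotProduct, hw, hwy', dotProduct_comm y' w, hy'y', hγy, hwa] at e2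
    exact ⟨α, by rw [he, hβ, e2]; simp⟩
  -- and vanishes
  have hzero : ∀ x, w ⬝ᵥ x ≠ 0 → ap g x = x := by
    intro x hx
    obtain ⟨k, hk⟩ := hδ x
    have h := dot_ap_self g x
    rw [show ap g x = x + k • w by rw [← hk]; abel] at h
    simp [dotProduct_add, add_dotProduct, hw, dotProduct_comm x w] at h
    have hk0 : k = 0 := by
      rcases mul_eq_zero.1 (show k * (2 * (w ⬝ᵥ x)) = 0 by linear_combination h) with h' | h'
      · exact h'
      · exact absurd ((mul_eq_zero.1 h').resolve_left h2) hx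
    rw [hk0, zero_smul, sub_eq_zero] at hk
    exact hk
  refine ext_unitVec fun i => ?_
  rw [ap_one]
  by_cases hwi : w ⬝ᵥ unitVec i = 0
  · have h1 := hzero (unitVec a) (by rw [dot_unitVec]; exact hwa)
    have h3 := hzero (unitVec i + unitVec a) (by
      rw [dotProduct_add, hwi, dot_unitVec, zero_add]; exact hwa)
    rw [map_add, h1] at h3
    exact add_right_cancel h3
  · exact hzero _ hwi

/-- The axis is non-singular, or the element is a transvection-like element of order `p`. -/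
theorem axis_dichotomy (h2 : (2 : F) ≠ 0) (hT : T.card = 3) {p : ℕ} [Fact p.Prime] [CharP F p] {g : Grp}
    (hfix : ∀ m, m ∉ T → ap g (unitVec m) = unitVec m) (hd : dick g = 1) (hg : g ≠ 1) {w : ι → F}
    (hw : w ∈ axis T g) (hw0 : w ≠ 0) (hww : w ⬝ᵥ w = 0) :
    orderOf g = p ∧ ∀ y ∈ span3 T, w ⬝ᵥ y = 0 → y ⬝ᵥ y ≠ 0 → ∃ k : F, k ≠ 0 ∧ ap g y = y + k • w := by
  obtain ⟨hgw, hwT⟩ := mem_axis.1 hw
  obtain ⟨a, b, c, hab, hac, hbc, hTe, hwa⟩ := exists_pivot hT hwT hw0
  obtain ⟨w', y', -, -, hy'T, -, hww', hwy', -, hy'y', -, hdec⟩ := exists_basis3 (F := F) hab hac hbc hTe h2 hwT hww hwa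
  have hall : ∀ y ∈ span3 T, w ⬝ᵥ y = 0 → y ⬝ᵥ y ≠ 0 → ∃ k : F, k ≠ 0 ∧ ap g y = y + k • w := by
    intro y hyT hwy hy
    obtain ⟨α, β, γ, he⟩ := hdec _ (ap_mem_span3 h2 hfix hyT)
    obtain ⟨αy, βy, γy, hye⟩ := hdec y hyT
    have hgy0 : w ⬝ᵥ ap g y = 0 := by rw [← hgw, dot_ap h2, hwy]
    have hβy : βy = 0 := by
      have := hwy
      rw [hye, dotProduct_add, dotProduct_add, dotProduct_smul, dotProduct_smul, dotProduct_smul, hww,
        hww', hwy'] at this
      simpa [h2, hwa] using this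
    have hβ : β = 0 := by
      rw [he, dotProduct_add, dotProduct_add, dotProduct_smul, dotProduct_smul, dotProduct_smul, hww,
        hww', hwy'] at hgy0
      simpa [h2, hwa] using hgy0
    have hγy : γy ≠ 0 := fun h => hy (by rw [hye, hβy, h]; simp [hww])
    have hQ := dot_ap_self g y
    rw [he, hye, hβ, hβy] at hQ
    simp [dotProduct_add, add_dotProduct, hww, hwy', dotProduct_comm y' w, hy'y', hwa, h2] at hQ
    have hγ : γ = γy ∨ γ = -γy := sq_eq_sq_iff_eq_or_eq_neg.1
      (mul_right_cancel₀ (pow_ne_zero 2 hwa) (by linear_combination hQ))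
    rcases hγ with rfl | rfl
    · refine ⟨α - αy, fun h0 => hg ?_, by rw [he, hye, hβ, hβy]; module⟩
      refine eq_one_of_fix h2 hT hfix hwT hyT hw0 hww hwy hy hgw ?_
      rw [he, hye, hβ, hβy, sub_eq_zero.1 h0]
    · exfalso
      -- `g` would be a reflection
      set z := γy • y' + ((αy - α) / 2) • w with hz
      have hgz : ap g z = -z := by
        have hy1 : γy • y' = y - αy • w := by rw [hye, hβy]; module
        have hgy' : ap g (γy • y') = (α - αy) • w - γy • y' := by
          rw [hy1, map_sub, map_smul, hgw, he, hβ, ← hy1]; module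
        rw [hz, map_add, hgy', map_smul, hgw]
        match_scalars <;> field_simp <;> ring
      have hzT : z ∈ span3 T := add_mem (Submodule.smul_mem _ _ hy'T) (Submodule.smul_mem _ _ hwT)
      have hwz : w ⬝ᵥ z = 0 := by simp [hz, hwy', hww]
      have hzz : z ⬝ᵥ z ≠ 0 := by
        simp [hz, dotProduct_add, add_dotProduct, hww, hwy', dotProduct_comm y' w, hy'y', hwa, hγy]
      have hQz : sq z ≠ 0 := by rwa [sq_apply]
      have h1 : refl sq z * g = 1 := by
        refine eq_one_of_fix h2 hT (fun m hm => ?_) hwT hzT hw0 hww hwz hzz ?_ ?_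
        · rw [ap_mul, hfix m hm, refl_ap_dot, dot_unitVec, hzT m hm]; simp
        · rw [ap_mul, hgw, refl_ap_dot, dotProduct_comm z w, hwz]; simp
        · rw [ap_mul, hgz, map_neg, refl_ap_self _ hQz, neg_neg]
      rw [eq_inv_of_mul_eq_one_right h1, refl_inv, dick_refl (sq_nd h2) hQz] at hd
      omega
  refine ⟨orderOf_eq_prime ?_ hg, hall⟩
  have hy0 : y' ⬝ᵥ y' ≠ 0 := by rw [hy'y']; simp [hwa]
  obtain ⟨k, -, hk⟩ := hall y' hy'T hwy' hy0
  have hpow : ∀ n : ℕ, ap (g ^ n) w = w ∧ ap (g ^ n) y' = y' + ((n : F) * k) • w := fun n => by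
    induction n with
    | zero => simp
    | succ n ih =>
      refine ⟨by rw [pow_succ, ap_mul, hgw, ih.1], ?_⟩
      rw [pow_succ, ap_mul, hk, map_add, map_smul, ih.2, ih.1]
      push_cast; module
  refine eq_one_of_fix h2 hT (fun m hm => ?_) hwT hy'T hw0 hww hwy' hy0 (hpow p).1
    (by rw [(hpow p).2, CharP.cast_eq_zero, zero_mul, zero_smul, add_zero])
  exact Subgroup.pow_mem (fixVec (unitVec m)) (hfix m hm : g ∈ fixVec (unitVec m)) p

end Cfsg.Agent.Orth.Frame
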