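import Cfsg.Agent.Lib.Orth.Frame.Axes

/-!
# The counting argument for groups of rotations of three coordinates of order prime to `p`

* `mono_of_prime_to` : such a group containing the 3-cycle, a diagonal element and an element of
  order four fixing a coordinate vector is monomial
-/

set_option autoImplicit false
set_option linter.unusedSectionVars false

namespace Cfsg.Agent.Orth.Frame

open Cfsg Matrix Module Cfsg.Agent.Orth
open scoped Classical

variable {ι : Type} [Fintype ι] [DecidableEq ι] {F : Type*} [Field F] [Fintype F]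

local notation "Grp" => IsoGrp (sq (ι := ι) (F := F))

theorem map_ap_mul (g h : Grp) (A : Submodule F (ι → F)) :
    A.map (ap (g * h)) = (A.map (ap h)).map (ap g) := by
  ext x; simp [Submodule.mem_map]

theorem map_ap_one (A : Submodule F (ι → F)) : A.map (ap (1 : Grp)) = A := by
  ext x; simp [Submodule.mem_map]

theorem finrank_map_ap (g : Grp) (A : Submodule F (ι → F)) :
    finrank F (A.map (ap g)) = finrank F A :=
  (Submodule.equivMapOfInjective (ap g) (fun _ _ e => ap_inj g e) _).finrank_eq.symm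

/-- A group of rotations of three coordinates, of order prime to `p`. -/
structure Rot (T : Finset ι) (p : ℕ) (L : Subgroup (IsoGrp (sq (ι := ι) (F := F)))) : Prop where
  two : (2 : F) ≠ 0
  card_eq : T.card = 3
  fix : ∀ g ∈ L, ∀ m, m ∉ T → ap g (unitVec m) = unitVec m
  dick_eq : ∀ g ∈ L, dick g = 1
  prime_to : ¬ p ∣ Nat.card L

variable {T : Finset ι} {p : ℕ} {L : Subgroup (IsoGrp (sq (ι := ι) (F := F)))}

/-- The elements of `L`. -/
noncomputable def elts (L : Subgroup (IsoGrp (sq (ι := ι) (F := F)))) : Finset Grp :=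
  have := Fintype.ofFinite Grp
  Finset.univ.filter (· ∈ L)

theorem mem_elts {g : Grp} : g ∈ elts L ↔ g ∈ L := by simp [elts]

theorem card_elts : (elts L).card = Nat.card L := by
  rw [← Nat.card_eq_finsetCard]
  exact Nat.card_congr (Equiv.subtypeEquivRight fun g => mem_elts)

/-- The images of a subspace. -/
noncomputable def orb (L : Subgroup (IsoGrp (sq (ι := ι) (F := F)))) (A : Submodule F (ι → F)) :
    Finset (Submodule F (ι → F)) := (elts L).image fun g => A.map (ap g)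

/-- The setwise stabiliser. -/
noncomputable def stab (L : Subgroup (IsoGrp (sq (ι := ι) (F := F)))) (A : Submodule F (ι → F)) :
    Finset Grp := (elts L).filter fun g => A.map (ap g) = A

/-- The pointwise stabiliser. -/
noncomputable def cen (L : Subgroup (IsoGrp (sq (ι := ι) (F := F)))) (A : Submodule F (ι → F)) :
    Finset Grp := (elts L).filter fun g => ∀ x ∈ A, ap g x = x

theorem mem_cen {A : Submodule F (ι → F)} {g : Grp} :
    g ∈ cen L A ↔ g ∈ L ∧ ∀ x ∈ A, ap g x = x := by simp [cen, mem_elts]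

theorem mem_orb {A B : Submodule F (ι → F)} : B ∈ orb L A ↔ ∃ g ∈ L, A.map (ap g) = B := by
  simp [orb, mem_elts]

theorem self_mem_orb (A : Submodule F (ι → F)) : A ∈ orb L A :=
  mem_orb.2 ⟨1, L.one_mem, map_ap_one A⟩

theorem orb_disjoint {A B : Submodule F (ι → F)} (h : B ∉ orb L A) :
    Disjoint (orb L A) (orb L B) := by
  rw [Finset.disjoint_left]
  intro X hA hB
  obtain ⟨g, hg, rfl⟩ := mem_orb.1 hA
  obtain ⟨k, hk, he⟩ := mem_orb.1 hB
  refine h (mem_orb.2 ⟨k⁻¹ * g, L.mul_mem (L.inv_mem hk) hg, ?_⟩)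
  rw [map_ap_mul, ← he, ← map_ap_mul, inv_mul_cancel, map_ap_one]

theorem card_orb_mul (A : Submodule F (ι → F)) :
    (orb L A).card * (stab L A).card = (elts L).card := by
  rw [Finset.card_eq_sum_card_image (fun g => A.map (ap g)) (elts L)]
  refine (Finset.sum_const_nat fun B hB => ?_).symm
  obtain ⟨g, hg, rfl⟩ := mem_orb.1 hB
  refine (Finset.card_bij (fun h _ => g * h) (fun h hh => ?_) (fun _ _ _ _ e => mul_left_cancel e)
    fun k hk => ⟨g⁻¹ * k, ?_, mul_inv_cancel_left g k⟩).symm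
  · obtain ⟨hh, he⟩ := Finset.mem_filter.1 hh
    exact Finset.mem_filter.2 ⟨mem_elts.2 (L.mul_mem hg (mem_elts.1 hh)), by rw [map_ap_mul, he]⟩
  · obtain ⟨hk, he⟩ := Finset.mem_filter.1 hk
    exact Finset.mem_filter.2 ⟨mem_elts.2 (L.mul_mem (L.inv_mem hg) (mem_elts.1 hk)),
      by rw [map_ap_mul, he, ← map_ap_mul, inv_mul_cancel, map_ap_one]⟩

theorem card_cen_map {g : Grp} (hg : g ∈ L) (A : Submodule F (ι → F)) :
    (cen L (A.map (ap g))).card = (cen L A).card := by
  refine (Finset.card_bij (fun h _ => g * h * g⁻¹) (fun h hh => ?_)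
    (fun _ _ _ _ e => mul_left_cancel (mul_right_cancel e))
    fun k hk => ⟨g⁻¹ * k * g, ?_, by group⟩).symm
  · obtain ⟨hh, hf⟩ := mem_cen.1 hh
    refine mem_cen.2 ⟨L.mul_mem (L.mul_mem hg hh) (L.inv_mem hg), ?_⟩
    rintro _ ⟨x, hx, rfl⟩
    rw [ap_mul, ap_inv_ap, ap_mul, hf x hx]
  · obtain ⟨hk, hf⟩ := mem_cen.1 hk
    refine mem_cen.2 ⟨L.mul_mem (L.mul_mem (L.inv_mem hg) hk) hg, fun x hx => ?_⟩
    rw [ap_mul, ap_mul, hf _ (Submodule.mem_map_of_mem hx), ap_inv_ap]

/-- The axes of `L`. -/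
noncomputable def axes (T : Finset ι) (L : Subgroup (IsoGrp (sq (ι := ι) (F := F)))) :
    Finset (Submodule F (ι → F)) := ((elts L).erase 1).image (axis T)

theorem Rot.finrank_eq (hL : Rot T p L) {g : Grp} (hg : g ∈ L) (h1 : g ≠ 1) :
    finrank F (axis T g) = 1 :=
  finrank_axis hL.two hL.card_eq (hL.fix g hg) (hL.dick_eq g hg) h1

theorem Rot.axis_eq (hL : Rot T p L) {g : Grp} (hg : g ∈ L) (h1 : g ≠ 1) {A : Submodule F (ι → F)}
    (hA : finrank F A = 1) (hAT : A ≤ span3 T) (hf : ∀ x ∈ A, ap g x = x) : axis T g = A :=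
  (Submodule.eq_of_le_of_finrank_eq (fun x hx => mem_axis.2 ⟨hf x hx, hAT hx⟩)
    (by rw [hA, hL.finrank_eq hg h1])).symm

theorem Rot.mem_axes (hL : Rot T p L) {A : Submodule F (ι → F)} (hA : A ∈ axes T L) :
    finrank F A = 1 ∧ A ≤ span3 T := by
  obtain ⟨g, hg, rfl⟩ := Finset.mem_image.1 hA
  obtain ⟨h1, hg⟩ := Finset.mem_erase.1 hg
  exact ⟨hL.finrank_eq (mem_elts.1 hg) h1, inf_le_right⟩

theorem Rot.orb_subset (hL : Rot T p L) {A : Submodule F (ι → F)} (hA : A ∈ axes T L) :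
    orb L A ⊆ axes T L := by
  intro B hB
  obtain ⟨g, hg, rfl⟩ := mem_orb.1 hB
  obtain ⟨k, hk, rfl⟩ := Finset.mem_image.1 hA
  obtain ⟨h1, hk⟩ := Finset.mem_erase.1 hk
  rw [mem_elts] at hk
  have hc : g * k * g⁻¹ ∈ L := L.mul_mem (L.mul_mem hg hk) (L.inv_mem hg)
  have h1' : g * k * g⁻¹ ≠ 1 := fun e => h1 (by rwa [conj_eq_one_iff] at e)
  refine Finset.mem_image.2 ⟨_, Finset.mem_erase.2 ⟨h1', mem_elts.2 hc⟩, hL.axis_eq hc h1' ?_ ?_ ?_⟩
  · rw [finrank_map_ap, hL.finrank_eq hk h1]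
  · rintro _ ⟨x, hx, rfl⟩
    exact ap_mem_span3 hL.two (hL.fix g hg) (mem_axis.1 hx).2
  · rintro _ ⟨x, hx, rfl⟩
    rw [ap_mul, ap_inv_ap, ap_mul, (mem_axis.1 hx).1]

theorem Rot.sum_axes (hL : Rot T p L) :
    ∑ A ∈ axes T L, ((cen L A).card - 1) + 1 = (elts L).card := by
  rw [← Finset.card_erase_add_one (mem_elts.2 L.one_mem),
    Finset.card_eq_sum_card_image (axis T) ((elts L).erase 1)]
  refine congrArg (· + 1) (Finset.sum_congr rfl fun A hA => ?_)
  obtain ⟨hA1, hAT⟩ := hL.mem_axes hA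
  rw [← Finset.card_erase_of_mem (mem_cen.2 ⟨L.one_mem, fun x _ => ap_one x⟩)]
  refine congrArg Finset.card ?_
  ext g
  simp only [Finset.mem_erase, Finset.mem_filter, mem_cen, mem_elts]
  exact ⟨fun h => ⟨⟨h.1, h.2.1⟩, hL.axis_eq h.2.1 h.1 hA1 hAT h.2.2⟩,
    fun h => ⟨h.1.1, h.1.2, fun x hx => (mem_axis.1 (h.2.symm ▸ hx : x ∈ axis T g)).1⟩⟩

/-- The setwise stabiliser of an axis is at most twice the pointwise one. -/
theorem Rot.card_stab (hL : Rot T p L) [Fact p.Prime] [CharP F p] {A : Submodule F (ι → F)}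
    (hA : A ∈ axes T L) : ((stab L A).card = (cen L A).card ∧ ∀ g ∈ stab L A, ∀ x ∈ A, ap g x = x) ∨
      (stab L A).card = 2 * (cen L A).card := by
  have hsub : cen L A ⊆ stab L A := fun g hg => by
    obtain ⟨hg, hf⟩ := mem_cen.1 hg
    refine Finset.mem_filter.2 ⟨mem_elts.2 hg, Submodule.ext fun x => ⟨?_, fun hx => ⟨x, hx, hf x hx⟩⟩⟩
    rintro ⟨y, hy, rfl⟩; rwa [hf y hy]
  obtain ⟨hA1, hAT⟩ := hL.mem_axes hA
  obtain ⟨v, hvA, hv0⟩ := Submodule.exists_mem_ne_zero_of_ne_bot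
    (p := A) (fun h => by rw [h, finrank_bot] at hA1; omega)
  have hspan : ∀ x ∈ A, ∃ t : F, x = t • v := fun x hx => by
    obtain ⟨t, ht⟩ := (finrank_eq_one_iff_of_nonzero' (⟨v, hvA⟩ : A) (by simpa using hv0)).1 hA1 ⟨x, hx⟩
    exact ⟨t, (congrArg Subtype.val ht).symm⟩
  have hvv : v ⬝ᵥ v ≠ 0 := fun h => by
    obtain ⟨g, hg, he⟩ := Finset.mem_image.1 hA
    obtain ⟨h1, hg⟩ := Finset.mem_erase.1 hg
    rw [mem_elts] at hg
    have := (axis_dichotomy hL.two hL.card_eq (hL.fix g hg) (hL.dick_eq g hg) h1 (he.symm ▸ hvA)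
      hv0 h (p := p)).1
    exact hL.prime_to (this ▸ Subgroup.orderOf_coe (⟨g, hg⟩ : L) ▸ orderOf_dvd_natCard _)
  have hsign : ∀ g ∈ stab L A, ap g v = v ∨ ap g v = -v := fun g hg => by
    have hm := Submodule.mem_map_of_mem (f := ap g) hvA
    rw [(Finset.mem_filter.1 hg).2] at hm
    obtain ⟨t, ht⟩ := hspan _ hm
    have h := dot_ap_self g v
    rw [ht, smul_dotProduct, dotProduct_smul, smul_eq_mul, smul_eq_mul, ← mul_assoc] at h
    rcases mul_self_eq_one_iff.1 (mul_right_cancel₀ hvv (h.trans (one_mul _).symm)) with rfl | rfl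
    · left; rw [ht, one_smul]
    · right; rw [ht, neg_one_smul]
  have hfix : ∀ g : Grp, ap g v = v → ∀ x ∈ A, ap g x = x := fun g hg x hx => by
    obtain ⟨t, rfl⟩ := hspan x hx
    rw [map_smul, hg]
  by_cases hall : ∀ g ∈ stab L A, ap g v = v
  · refine .inl ⟨congrArg Finset.card ((Finset.Subset.antisymm hsub fun g hg =>
      mem_cen.2 ⟨mem_elts.1 (Finset.mem_filter.1 hg).1, hfix g (hall g hg)⟩).symm),
      fun g hg => hfix g (hall g hg)⟩
  · push Not at hall
    obtain ⟨g, hg, hgv⟩ := hall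
    have hgv' := (hsign g hg).resolve_left hgv
    have hgL := mem_elts.1 (Finset.mem_filter.1 hg).1
    right
    rw [two_mul, ← Finset.card_sdiff_add_card_eq_card hsub]
    refine congrArg (· + _) (Finset.card_bij (fun h _ => g⁻¹ * h) (fun h hh => ?_)
      (fun _ _ _ _ e => mul_left_cancel e) fun k hk => ⟨g * k, ?_, inv_mul_cancel_left g k⟩)
    · obtain ⟨hh, hn⟩ := Finset.mem_sdiff.1 hh
      have hhL := mem_elts.1 (Finset.mem_filter.1 hh).1
      refine mem_cen.2 ⟨L.mul_mem (L.inv_mem hgL) hhL, hfix _ ?_⟩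
      rcases hsign h hh with e | e
      · exact absurd (mem_cen.2 ⟨hhL, hfix h e⟩) hn
      · rw [ap_mul, e, ← hgv', ap_inv_ap]
    · obtain ⟨hk, hf⟩ := mem_cen.1 hk
      refine Finset.mem_sdiff.2 ⟨Finset.mem_filter.2 ⟨mem_elts.2 (L.mul_mem hgL hk), ?_⟩, fun h => ?_⟩
      · rw [map_ap_mul, (Finset.mem_filter.1 (hsub (mem_cen.2 ⟨hk, hf⟩))).2,
          (Finset.mem_filter.1 hg).2]
      · have := (mem_cen.1 h).2 v hvA
        rw [ap_mul, hf v hvA] at this
        exact hgv this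

/-- Numerical data of one orbit of axes. -/
theorem Rot.orbit_data (hL : Rot T p L) [Fact p.Prime] [CharP F p] {A : Submodule F (ι → F)}
    (hA : A ∈ axes T L) : ∃ o c P, (orb L A).card = o ∧ (cen L A).card = c ∧ o * c = P ∧
      (P = (elts L).card ∨ 2 * P = (elts L).card) ∧ 2 * o ≤ P ∧ (c = 2 → 2 * o = P) ∧
      (3 ≤ c → 3 * o ≤ P) ∧ (c = 3 → 3 * o = P) ∧ (4 ≤ c → 4 * o ≤ P) ∧
      ∑ B ∈ orb L A, ((cen L B).card - 1) + o = P ∧ 2 ≤ c ∧ 0 < o := by
  have hc : 2 ≤ (cen L A).card := by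
    obtain ⟨g, hg, he⟩ := Finset.mem_image.1 hA
    obtain ⟨h1, hg⟩ := Finset.mem_erase.1 hg
    refine Finset.one_lt_card.2 ⟨g, ?_, 1, mem_cen.2 ⟨L.one_mem, fun x _ => ap_one x⟩, h1⟩
    exact mem_cen.2 ⟨mem_elts.1 hg, fun x hx => (mem_axis.1 (he.symm ▸ hx : x ∈ axis T g)).1⟩
  refine ⟨_, _, _, rfl, rfl, rfl, ?_, ?_, ?_, ?_, ?_, ?_, ?_, hc,
    Finset.card_pos.2 ⟨_, self_mem_orb A⟩⟩
  · rw [← card_orb_mul (L := L) A]
    rcases hL.card_stab hA with ⟨h, -⟩ | h
    · left; rw [h]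
    · right; rw [h]; ring
  · nlinarith
  · intro h; rw [h, Nat.mul_comm]
  · intro h; nlinarith
  · intro h; rw [h, Nat.mul_comm]
  · intro h; nlinarith
  · rw [Finset.sum_const_nat (m := (cen L A).card - 1) fun B hB => ?_]
    · calc _ = (orb L A).card * ((cen L A).card - 1 + 1) := by ring
        _ = _ := by rw [Nat.sub_add_cancel (by omega)]
    · obtain ⟨g, hg, rfl⟩ := mem_orb.1 hB
      rw [card_cen_map hg]

/-- The counting argument. -/
theorem mono_of_prime_to (hL : Rot T p L) [Fact p.Prime] [CharP F p] {a b c : ι} (hab : a ≠ b)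
    (hac : a ≠ c) (hbc : b ≠ c) (hT : T = {a, b, c}) (hcyc : permIso (cyc a b c) ∈ L)
    (hd : sgn a * sgn b ∈ L) {y : Grp} (hy : y ∈ L) (hyc : ap y (unitVec c) = unitVec c)
    (hy4 : orderOf y = 4) : ∀ g ∈ L, Mono g := by
  have h2 := hL.two
  let ℓ : ι → Submodule F (ι → F) := fun i => Submodule.span F {unitVec i}
  have hl0 : ∀ i : ι, (unitVec i : ι → F) ≠ 0 := fun i h => by
    have := congrFun h i; simp [unitVec_same] at this
  have hdc : ap (sgn a * sgn b) (unitVec c) = (unitVec c : ι → F) := by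
    rw [ap_mul, sgn_ap_ne hbc.symm, sgn_ap_ne hac.symm]
  have hd1 : (sgn a * sgn b : Grp) ≠ 1 := fun e => by
    have : ap (sgn a * sgn b) (unitVec a) = (unitVec a : ι → F) := by rw [e, ap_one]
    rw [ap_mul, sgn_ap_ne hab, sgn_ap_same] at this
    have := congrFun this a
    simp [unitVec_same] at this
    exact h2 (by linear_combination -this)
  have hax : ℓ c ∈ axes T L := Finset.mem_image.2 ⟨_, Finset.mem_erase.2 ⟨hd1, mem_elts.2 hd⟩,
    hL.axis_eq hd hd1 (finrank_span_singleton (hl0 c))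
      (by rw [Submodule.span_singleton_le_iff_mem]; exact unitVec_mem_span3 (by rw [hT]; simp))
      (fun x hx => by
        obtain ⟨t, rfl⟩ := Submodule.mem_span_singleton.1 hx
        rw [map_smul, hdc])⟩
  have hmapl : ∀ (g : Grp) (i : ι), (ℓ i).map (ap g) = Submodule.span F {ap g (unitVec i)} :=
    fun g i => by rw [Submodule.map_span, Set.image_singleton]
  have hca : (ℓ c).map (ap (permIso (cyc a b c) : Grp)) = ℓ a := by
    rw [hmapl, permIso_unitVec, cyc_thd]
  have hcb : (ℓ c).map (ap (permIso (cyc a b c) * permIso (cyc a b c) : Grp)) = ℓ b := by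
    rw [hmapl, ap_mul, permIso_unitVec, cyc_thd, permIso_unitVec, cyc_fst hab hac]
  have hne : ∀ i j : ι, i ≠ j → ℓ i ≠ ℓ j := fun i j hij e => by
    obtain ⟨t, ht⟩ := Submodule.mem_span_singleton.1 (e ▸ Submodule.mem_span_singleton_self _ :
      (unitVec i : ι → F) ∈ ℓ j)
    exact hij (unitVec_inj ht.symm)
  have hsub : ({ℓ a, ℓ b, ℓ c} : Finset _) ⊆ orb L (ℓ c) := by
    intro X hX
    simp only [Finset.mem_insert, Finset.mem_singleton] at hX
    rcases hX with rfl | rfl | rfl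
    · exact mem_orb.2 ⟨_, hcyc, hca⟩
    · exact mem_orb.2 ⟨_, L.mul_mem hcyc hcyc, hcb⟩
    · exact self_mem_orb _
  have hcard3 : ({ℓ a, ℓ b, ℓ c} : Finset _).card = 3 := by
    rw [Finset.card_insert_of_notMem (by simp [hne a b hab, hne a c hac]),
      Finset.card_pair (hne b c hbc)]
  have h3 := hcard3 ▸ Finset.card_le_card hsub
  obtain ⟨o0, c0, P, ho0, hc0, hP, hPN, -, -, -, -, h04, hX0, -, -⟩ := hL.orbit_data hax
  -- the pointwise stabiliser of `e_c` contains `y`
  have h4 : 4 ∣ c0 := by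
    have hC : (cen L (ℓ c)).card = Nat.card (L ⊓ fixVec (unitVec c) : Subgroup Grp) := by
      rw [← Nat.card_eq_finsetCard]
      refine Nat.card_congr (Equiv.subtypeEquivRight fun g => mem_cen.trans ?_)
      refine and_congr_right fun _ => ⟨fun h => h _ (Submodule.mem_span_singleton_self _),
        fun h x hx => ?_⟩
      obtain ⟨t, rfl⟩ := Submodule.mem_span_singleton.1 hx
      rw [map_smul]; exact congrArg _ h
    rw [← hc0, hC, ← hy4]
    exact Subgroup.orderOf_coe (⟨y, hy, hyc⟩ : (L ⊓ fixVec (unitVec c) : Subgroup Grp)) ▸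
      orderOf_dvd_natCard _
  have h04' : 4 * o0 ≤ P := h04 (by
    have : 0 < c0 := hc0 ▸ Finset.card_pos.2 ⟨1, mem_cen.2 ⟨L.one_mem, fun x _ => ap_one x⟩⟩
    exact Nat.le_of_dvd this h4)
  -- an element negating `e_c`
  have hneg : ∃ g ∈ stab L (ℓ c), ap g (unitVec c) = -(unitVec c : ι → F) := by
    refine ⟨permIso (cyc a b c) * (sgn a * sgn b) * (permIso (cyc a b c))⁻¹, ?_, ?_⟩
    rotate_left
    · rw [ap_mul, ap_mul, show ap (permIso (cyc a b c) : Grp)⁻¹ (unitVec c) = unitVec b from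
        ap_inj (permIso (cyc a b c)) (by rw [ap_ap_inv, permIso_unitVec, cyc_snd hac hbc]),
        ap_mul, sgn_ap_same, map_neg, sgn_ap_ne hab.symm, map_neg, permIso_unitVec,
        cyc_snd hac hbc]
    · refine Finset.mem_filter.2 ⟨mem_elts.2 (L.mul_mem (L.mul_mem hcyc hd) (L.inv_mem hcyc)), ?_⟩
      rw [hmapl, ap_mul, ap_mul, show ap (permIso (cyc a b c) : Grp)⁻¹ (unitVec c) = unitVec b from
        ap_inj (permIso (cyc a b c)) (by rw [ap_ap_inv, permIso_unitVec, cyc_snd hac hbc]),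
        ap_mul, sgn_ap_same, map_neg, sgn_ap_ne hab.symm, map_neg, permIso_unitVec,
        cyc_snd hac hbc, ← Set.neg_singleton, Submodule.span_neg]
  have hN : 2 * P = (elts L).card := by
    rcases hL.card_stab hax with ⟨-, h⟩ | h
    · obtain ⟨g, hg, hgc⟩ := hneg
      have := h g hg _ (Submodule.mem_span_singleton_self _)
      rw [hgc] at this
      have := congrFun this c
      simp [unitVec_same] at this
      exact absurd (by linear_combination -this) h2
    · rw [← card_orb_mul (L := L) (ℓ c), ← hP, h, ← ho0, ← hc0]; ring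
  clear hPN
  -- the axes fall into at most three orbits, and the orbit of `e_c` has three members
  have ho : o0 = 3 := by
    have hsum := hL.sum_axes
    rw [← Finset.sum_sdiff (hL.orb_subset hax)] at hsum
    have hc04 : c0 = 4 ∨ 8 ≤ c0 := by
      obtain ⟨k, hk⟩ := h4
      have : 0 < c0 := hc0 ▸ Finset.card_pos.2 ⟨1, mem_cen.2 ⟨L.one_mem, fun x _ => ap_one x⟩⟩
      omega
    have h08 : c0 = 4 ∧ 4 * o0 = P ∨ 8 * o0 ≤ P := by
      rcases hc04 with h | h
      · left; exact ⟨h, by rw [← hP, h]; ring⟩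
      · right; nlinarith
    rcases (axes T L \ orb L (ℓ c)).eq_empty_or_nonempty with he | ⟨A1, hA1⟩
    · rw [he, Finset.sum_empty] at hsum; omega
    obtain ⟨hA1, hA1'⟩ := Finset.mem_sdiff.1 hA1
    obtain ⟨o1, c1, P1, -, -, -, hP1, hu1, ha1, hb1, he1, hf1, hX1, hc1, hpos1⟩ := hL.orbit_data hA1
    have hs1 : orb L A1 ⊆ axes T L \ orb L (ℓ c) := fun X hX => Finset.mem_sdiff.2
      ⟨hL.orb_subset hA1 hX, Finset.disjoint_right.1 (orb_disjoint hA1') hX⟩
    rw [← Finset.sum_sdiff hs1] at hsum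
    rcases ((axes T L \ orb L (ℓ c)) \ orb L A1).eq_empty_or_nonempty with he | ⟨A2, hA2⟩
    · rw [he, Finset.sum_empty] at hsum
      rcases (show c1 = 2 ∨ 3 ≤ c1 by omega) with h | h
      · have := ha1 h; omega
      · have := hb1 h; omega
    obtain ⟨hA20, hA21⟩ := Finset.mem_sdiff.1 hA2
    obtain ⟨hA2, hA2'⟩ := Finset.mem_sdiff.1 hA20
    obtain ⟨o2, c2, P2, -, -, -, hP2, hu2, ha2, hb2, he2, hf2, hX2, hc2, hpos2⟩ := hL.orbit_data hA2
    have hs2 : orb L A2 ⊆ (axes T L \ orb L (ℓ c)) \ orb L A1 := fun X hX => Finset.mem_sdiff.2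
      ⟨Finset.mem_sdiff.2 ⟨hL.orb_subset hA2 hX, Finset.disjoint_right.1 (orb_disjoint hA2') hX⟩,
        Finset.disjoint_right.1 (orb_disjoint hA21) hX⟩
    rw [← Finset.sum_sdiff hs2] at hsum
    rcases (((axes T L \ orb L (ℓ c)) \ orb L A1) \ orb L A2).eq_empty_or_nonempty with
      he | ⟨A3, hA3⟩
    · rw [he, Finset.sum_empty] at hsum
      rcases (show c1 = 2 ∨ c1 = 3 ∨ 4 ≤ c1 by omega) with h | h | h <;>
        rcases (show c2 = 2 ∨ c2 = 3 ∨ 4 ≤ c2 by omega) with h' | h' | h'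
      all_goals
        first
          | (have := ha1 h; have := ha2 h'; omega)
          | (have := ha1 h; have := he2 h'; omega)
          | (have := ha1 h; have := hf2 h'; omega)
          | (have := he1 h; have := ha2 h'; omega)
          | (have := he1 h; have := he2 h'; omega)
          | (have := he1 h; have := hf2 h'; omega)
          | (have := hf1 h; have := ha2 h'; omega)
          | (have := hf1 h; have := he2 h'; omega)
          | (have := hf1 h; have := hf2 h'; omega)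
    · obtain ⟨hA30, hA32⟩ := Finset.mem_sdiff.1 hA3
      obtain ⟨hA300, hA31⟩ := Finset.mem_sdiff.1 hA30
      obtain ⟨hA3, hA3'⟩ := Finset.mem_sdiff.1 hA300
      obtain ⟨o3, c3, P3, -, -, -, hP3, hu3, -, -, -, -, hX3, -, -⟩ := hL.orbit_data hA3
      have hs3 : orb L A3 ⊆ ((axes T L \ orb L (ℓ c)) \ orb L A1) \ orb L A2 := fun X hX =>
        Finset.mem_sdiff.2 ⟨Finset.mem_sdiff.2 ⟨Finset.mem_sdiff.2 ⟨hL.orb_subset hA3 hX,
          Finset.disjoint_right.1 (orb_disjoint hA3') hX⟩,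
          Finset.disjoint_right.1 (orb_disjoint hA31) hX⟩,
          Finset.disjoint_right.1 (orb_disjoint hA32) hX⟩
      have := Finset.sum_le_sum_of_subset (f := fun B => (cen L B).card - 1) hs3
      omega
  have heq := Finset.eq_of_subset_of_card_le hsub (by rw [hcard3, ho0, ho])
  intro g hg i
  by_cases hi : i ∈ T
  · have : (ℓ i).map (ap g) ∈ orb L (ℓ c) := by
      have hi' : ℓ i ∈ orb L (ℓ c) := heq ▸ by rw [hT] at hi; simp at hi; rcases hi with rfl | rfl | rfl <;> simp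
      obtain ⟨k, hk, hke⟩ := mem_orb.1 hi'
      exact mem_orb.2 ⟨g * k, L.mul_mem hg hk, by rw [map_ap_mul, hke]⟩
    rw [← heq, hmapl] at this
    have hmem := Submodule.mem_span_singleton_self (R := F) (ap g (unitVec i))
    simp only [Finset.mem_insert, Finset.mem_singleton] at this
    rcases this with e | e | e <;> rw [e] at hmem <;>
      obtain ⟨t, ht⟩ := Submodule.mem_span_singleton.1 hmem <;> exact ⟨_, t, ht.symm⟩
  · exact ⟨i, 1, by rw [hL.fix g hg i hi, one_smul]⟩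

end Cfsg.Agent.Orth.Frame
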