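import Cfsg.Agent.Lib.Orth.Frame.Group

/-!
# Descent on the support

* `eq_squares` : a full vector of a reflection in `inner K S`, `5 ≤ |S|`, has equal squared coordinates
* `exists_full` : a minimal non-monomial `inner K S` contains a reflection with a full vector
* `allMono_of_five` : no minimal `S` with at least five elements
* `allMono_of_four` : nor with four, in characteristic not three
-/

set_option autoImplicit false
set_option linter.unusedSectionVars false

namespace Cfsg.Agent.Orth.Frame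

open Cfsg Matrix Module Cfsg.Agent.Orth
open QuadraticMap (polar)

variable {ι : Type} [Fintype ι] [DecidableEq ι] {F : Type*} [Field F] [Fintype F]

local notation "Grp" => IsoGrp (sq (ι := ι) (F := F))

variable {K : Subgroup (IsoGrp (sq (ι := ι) (F := F)))}

/-- A vector of a reflection in `inner K S` is supported on `S`. -/
theorem support_inner (hK : Over K) {S : Finset ι} {v : ι → F} (hv : v ⬝ᵥ v = 1)
    (h : refl sq v ∈ inner K S) {m : ι} (hm : m ∉ S) : v m = 0 := by
  have h1 := h.1 m hm
  rw [refl_ap_unit hv, dot_unitVec, sub_eq_self, smul_eq_zero] at h1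
  rcases h1 with h1 | h1
  · exact (mul_eq_zero.1 h1).resolve_left hK.two
  · exact congrFun h1 m

theorem eq_squares (hK : Over K) {S : Finset ι} (hS : ∃ m, m ∉ S) (hS5 : 5 ≤ S.card)
    (hsmall : ∀ T, T ⊆ S → T.card + 2 ≤ S.card → AllMono K T) {f : ι → F} (hf : f ⬝ᵥ f = 1)
    (hfS : refl sq f ∈ inner K S) (hfull : ∀ i ∈ S, f i ≠ 0) {i j : ι} (hi : i ∈ S) (hj : j ∈ S) :
    f i ^ 2 = f j ^ 2 := by
  classical
  have h2 := hK.two
  rcases eq_or_ne i j with rfl | hij
  · rfl
  have hQf : sq f ≠ 0 := by rw [sq_apply, hf]; exact one_ne_zero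
  set d : Grp := sgn i * sgn j with hd
  have hdd : d * d = 1 := by
    rw [hd, mul_assoc, ← mul_assoc (sgn j) (sgn i), (sgn_comm j i).eq, mul_assoc (sgn i),
      sgn_mul_self, mul_one, sgn_mul_self]
  obtain ⟨z, hz1, hzz, hzd, hzf, hzH⟩ := exists_central hdd (refl_mul_self sq f)
    (even_order_of_dick h2 (by
      rw [hd, dick_mul (good_sq h2), dick_mul (good_sq h2), dick_sgn h2, dick_sgn h2,
        dick_refl (sq_nd h2) hQf]
      rfl))
  have hzS : z ∈ inner K S :=
    hzH _ (mul_mem (mul_mem (sgn_mem_inner hK hi) (sgn_mem_inner hK hj)) hfS)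
  set R := (S.erase i).erase j with hR
  have hmR : ∀ t, t ∈ R ↔ t ≠ j ∧ t ≠ i ∧ t ∈ S := by simp [hR]
  have hRc : R.card + 2 = S.card := by
    rw [hR, Finset.card_erase_of_mem (Finset.mem_erase.2 ⟨hij.symm, hj⟩), Finset.card_erase_of_mem hi]
    omega
  have hd_coord : ∀ (y : ι → F) t, ap d y t = if t = i ∨ t = j then -y t else y t := fun y t => by
    rw [hd, ap_mul, sgn_coord, sgn_coord]
    rcases eq_or_ne t i with rfl | h1
    · simp [hij]
    · simp [h1]
  have hcross : ∀ m, m ≠ i → m ≠ j → ∀ t, t = i ∨ t = j → ap z (unitVec m) t = 0 := by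
    intro m hmi hmj t ht
    have h1 : ap d (ap z (unitVec m)) = ap z (unitVec m) := by
      rw [← ap_mul, ← hzd.eq, ap_mul]
      congr 1
      funext s
      rw [hd_coord]
      rcases eq_or_ne s m with rfl | hs
      · simp [hmi, hmj]
      · simp [unitVec_ne hs]
    have h3 := congrFun h1 t
    rw [hd_coord, if_pos ht] at h3
    exact (mul_eq_zero.1 (show 2 * ap z (unitVec m) t = 0 by linear_combination -h3)).resolve_left h2
  -- the action on the other coordinates
  have hδ : ∀ m ∈ R, ∃ c : F, ∀ t, ap z (unitVec m) t - (unitVec m : ι → F) t =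
      if t = i ∨ t = j then 0 else c * f t := by
    intro m hm
    obtain ⟨hmj, hmi, hmS⟩ := (hmR m).1 hm
    refine ⟨(ap z (unitVec m) m - 1) / f m, fun t => ?_⟩
    split_ifs with ht
    · rw [hcross m hmi hmj t ht, unitVec_ne, sub_zero]
      rcases ht with rfl | rfl
      · exact hmi.symm
      · exact hmj.symm
    by_cases htS : t ∈ S
    · set y : ι → F := f m • unitVec t - f t • unitVec m with hy
      have hyz : ap z y = y := by
        refine hzH (fixVec y) (?_ : ap (d * refl sq f) y = y)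
        have hfy : f ⬝ᵥ y = 0 := by
          simp [hy, dotProduct_sub, dotProduct_smul, dot_unitVec]; ring
        rw [ap_mul, refl_ap_unit hf, hfy, mul_zero, zero_smul, sub_zero]
        funext s
        rw [hd_coord]
        split_ifs with hs
        · rcases hs with rfl | rfl
          · simp [hy, unitVec_ne (Ne.symm hmi), unitVec_ne (fun e : s = t => ht (.inl e.symm))]
          · simp [hy, unitVec_ne (Ne.symm hmj), unitVec_ne (fun e : s = t => ht (.inr e.symm))]
        · rfl
      have h1 := dot_ap h2 z (unitVec m) y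
      rw [hyz, unitVec_dot] at h1
      simp [hy, dotProduct_sub, dotProduct_smul, dot_unitVec, unitVec_same] at h1
      rcases eq_or_ne t m with rfl | htm
      · rw [unitVec_same, div_mul_cancel₀ _ (hfull t htS)]
      · rw [unitVec_ne htm]
        rw [unitVec_ne htm.symm] at h1
        field_simp [hfull m hmS]
        linear_combination h1
    · rw [inner_fix_coord hK hzS htS, sub_self, support_inner hK hf hfS htS, mul_zero]
  have hsum : ∀ m ∈ R, ∀ c : F, (∀ t, ap z (unitVec m) t - (unitVec m : ι → F) t =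
      if t = i ∨ t = j then 0 else c * f t) →
      (ap z (unitVec m) - unitVec m) ⬝ᵥ (ap z (unitVec m) - unitVec m) =
        c * ((ap z (unitVec m) - unitVec m) ⬝ᵥ f) ∧
      (ap z (unitVec m) - unitVec m) ⬝ᵥ f = c * ∑ t ∈ R, f t ^ 2 := by
    intro m _ c hc
    simp only [dotProduct, Pi.sub_apply, hc, Finset.mul_sum]
    constructor
    · refine Finset.sum_congr rfl fun t _ => ?_
      split_ifs <;> ring
    · rw [← Finset.sum_subset (Finset.subset_univ R)]
      · refine Finset.sum_congr rfl fun t ht => ?_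
        obtain ⟨htj, hti, -⟩ := (hmR t).1 ht
        rw [if_neg (by tauto)]; ring
      · intro t _ ht
        split_ifs with h
        · exact zero_mul _
        · push Not at h
          rw [support_inner hK hf hfS (m := t) fun htS => ht ((hmR t).2 ⟨h.2, h.1, htS⟩)]; ring
  have hzfdot : ∀ x, ap z x ⬝ᵥ ap z f = x ⬝ᵥ f := fun x => dot_ap h2 z x f
  rcases eq_smul_of_commute_refl h2 hQf hzf with hzf' | hzf'
  · -- `z` fixes `f`
    have hfix : ∀ m ∈ R, ap z (unitVec m) = unitVec m := by
      intro m hm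
      obtain ⟨c, hc⟩ := hδ m hm
      obtain ⟨hmj, hmi, hmS⟩ := (hmR m).1 hm
      have h0 : (ap z (unitVec m) - unitVec m) ⬝ᵥ f = 0 := by
        have := hzfdot (unitVec m)
        rw [hzf'] at this
        rw [sub_dotProduct, this, sub_self]
      have h1 := (hsum m hm c hc).1
      rw [h0, mul_zero, sub_dotProduct, dotProduct_sub, dotProduct_sub, ap_row_self, dot_unitVec,
        unitVec_dot, dot_unitVec, unitVec_same] at h1
      have hz0 : ap z (unitVec m) m - 1 = 0 :=
        (mul_eq_zero.1 (show 2 * (ap z (unitVec m) m - 1) = 0 by linear_combination -h1)).resolve_left h2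
      have hcm := hc m
      rw [if_neg (by tauto), unitVec_same, hz0] at hcm
      have hc0 : c = 0 := (mul_eq_zero.1 hcm.symm).resolve_right (hfull m hmS)
      funext t
      have := hc t
      rw [hc0, zero_mul, ite_self, sub_eq_zero] at this
      exact this
    have hT : z ∈ inner K {i, j} := mem_inner_of_fix hK hS hzS fun m hm => by
      simp only [Finset.mem_insert, Finset.mem_singleton, not_or] at hm
      by_cases hmS : m ∈ S
      · exact hfix m ((hmR m).2 ⟨hm.2, hm.1, hmS⟩)
      · exact hzS.1 m hmS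
    have hmono := hsmall {i, j} (by simp [Finset.insert_subset_iff, hi, hj])
      (by rw [Finset.card_pair hij]; omega) z hT
    have hpos : ∀ a b : ι, a = i ∧ b = j ∨ a = j ∧ b = i →
        ap z (unitVec a) = unitVec a ∨ f a ^ 2 = f b ^ 2 := by
      intro a b hab
      obtain ⟨k, c, hk⟩ := hmono a
      have h1 := hzfdot (unitVec a)
      rw [hzf', hk, smul_dotProduct, unitVec_dot, unitVec_dot, smul_eq_mul] at h1
      have hc := ap_row_self z a
      rw [hk, smul_dotProduct, dotProduct_smul, dot_unitVec, unitVec_same] at hc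
      simp only [smul_eq_mul, mul_one] at hc
      have hkS : k = i ∨ k = j := by
        by_contra hk'
        push Not at hk'
        have : ap z (unitVec k) = unitVec k := hT.1 k (by simp [hk'.1, hk'.2])
        have e : ap z (unitVec a) = ap z (c • unitVec k) := by rw [hk, map_smul, this]
        have := unitVec_inj (ap_inj z e)
        rcases hab with ⟨rfl, -⟩ | ⟨rfl, -⟩
        · exact hk'.1 this.symm
        · exact hk'.2 this.symm
      by_cases hka : k = a
      · subst hka
        left
        have hk0 : f k ≠ 0 := hfull k (by rcases hab with ⟨rfl, -⟩ | ⟨rfl, -⟩ <;> assumption)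
        rw [hk, mul_right_cancel₀ hk0 (h1.trans (one_mul _).symm), one_smul]
      · right
        have hkb : k = b := by rcases hab with ⟨rfl, rfl⟩ | ⟨rfl, rfl⟩ <;> tauto
        rw [← h1, hkb]
        linear_combination f b ^ 2 * hc
    rcases hpos i j (.inl ⟨rfl, rfl⟩) with h1 | h1
    · rcases hpos j i (.inr ⟨rfl, rfl⟩) with h3 | h3
      · refine absurd (ext_unitVec fun m => ?_) hz1
        rw [ap_one]
        by_cases hm : m ∈ ({i, j} : Finset ι)
        · rcases Finset.mem_insert.1 hm with rfl | hm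
          · exact h1
          · rw [Finset.mem_singleton.1 hm]; exact h3
        · exact hT.1 m hm
      · exact h3.symm
    · exact h1
  · -- `z` negates `f`
    exfalso
    have hc' : ∀ m ∈ R, ∃ c : F, (∀ t, ap z (unitVec m) t - (unitVec m : ι → F) t =
        if t = i ∨ t = j then 0 else c * f t) ∧ c * ∑ t ∈ R, f t ^ 2 = -2 * f m := by
      intro m hm
      obtain ⟨c, hc⟩ := hδ m hm
      refine ⟨c, hc, ?_⟩
      have := hzfdot (unitVec m)
      rw [hzf', dotProduct_neg, unitVec_dot] at this
      rw [← (hsum m hm c hc).2, sub_dotProduct, unitVec_dot]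
      linear_combination -this
    have hA : ∑ t ∈ R, f t ^ 2 ≠ 0 := by
      obtain ⟨m, hm⟩ : R.Nonempty := Finset.card_pos.1 (by omega)
      obtain ⟨c, -, h⟩ := hc' m hm
      intro h0
      rw [h0, mul_zero] at h
      exact mul_ne_zero (neg_ne_zero.2 h2) (hfull m ((hmR m).1 hm).2.2) h.symm
    have hzero : ∀ m ∈ R, R.card = 3 ∧ 2 * f m ^ 2 = ∑ t ∈ R, f t ^ 2 := by
      intro m hm
      obtain ⟨c, hc, hcA⟩ := hc' m hm
      obtain ⟨hmj, hmi, hmS⟩ := (hmR m).1 hm
      set v := ap z (unitVec m) with hv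
      have hvv : v ⬝ᵥ v = 1 := ap_row_self z m
      have hvS : refl sq v ∈ inner K S := by
        rw [hv, ← conj_sgn]; exact mul_mem (mul_mem hzS (sgn_mem_inner hK hmS)) (inv_mem hzS)
      have hvR : refl sq v ∈ inner K R := mem_inner_of_fix hK hS hvS fun t ht => by
        by_cases htS : t ∈ S
        · rw [refl_ap_unit hvv, dot_unitVec, show v t = 0 from hcross m hmi hmj t (by
            have : ¬ (t ≠ j ∧ t ≠ i) := fun h => ht ((hmR t).2 ⟨h.1, h.2, htS⟩)
            tauto)]
          simp
        · exact hvS.1 t htS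
      obtain ⟨h3, -⟩ := refl_mono (by rw [hvv]; exact one_ne_zero)
        (hsmall R (fun t ht => ((hmR t).1 ht).2.2) (by omega) _ hvR) h2
      have hne : ∀ t ∈ R, t ≠ m → v t ≠ 0 := by
        intro t ht htm h0
        obtain ⟨htj, hti, htS⟩ := (hmR t).1 ht
        have := hc t
        rw [h0, unitVec_ne htm, if_neg (by tauto), sub_zero] at this
        rcases mul_eq_zero.1 this.symm with h | h
        · rw [h, zero_mul] at hcA
          exact mul_ne_zero (neg_ne_zero.2 h2) (hfull m hmS) hcA.symm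
        · exact hfull t htS h
      have hcard : (R.filter fun t => v t ≠ 0).card ≤ 2 := by
        by_contra! hlt
        obtain ⟨a, b, e, ha, hb, he, h12, h13, h23⟩ := Finset.two_lt_card_iff.1 hlt
        rcases h3 a b e (Finset.mem_filter.1 ha).2 (Finset.mem_filter.1 hb).2
          (Finset.mem_filter.1 he).2 with h | h | h <;> contradiction
      have hsub : R.erase m ⊆ R.filter fun t => v t ≠ 0 := fun t ht => by
        obtain ⟨h, ht⟩ := Finset.mem_erase.1 ht
        exact Finset.mem_filter.2 ⟨ht, hne t ht h⟩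
      have hle := Finset.card_le_card hsub
      rw [Finset.card_erase_of_mem hm] at hle
      refine ⟨by omega, ?_⟩
      have hvm : v m = 0 := by
        by_contra h0
        have : R ⊆ R.filter fun t => v t ≠ 0 := fun t ht => Finset.mem_filter.2 ⟨ht, by
          rcases eq_or_ne t m with rfl | h
          · exact h0
          · exact hne t ht h⟩
        have := Finset.card_le_card this
        omega
      have := hc m
      rw [hvm, unitVec_same, if_neg (by tauto)] at this
      linear_combination f m * hcA + (∑ t ∈ R, f t ^ 2) * this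
    obtain ⟨m, hm⟩ : R.Nonempty := Finset.card_pos.1 (by omega)
    have h3 := (hzero m hm).1
    have hs : ∑ t ∈ R, (2 * f t ^ 2) = ∑ _t ∈ R, ∑ t ∈ R, f t ^ 2 :=
      Finset.sum_congr rfl fun t ht => (hzero t ht).2
    rw [← Finset.mul_sum, Finset.sum_const, h3, nsmul_eq_mul] at hs
    exact hA (by push_cast at hs; linear_combination -hs)

/-- A row with a zero coordinate has two non-zero coordinates with equal squares. -/
theorem row_small (hK : Over K) {S : Finset ι} (hS : ∃ m, m ∉ S) (hS3 : 3 ≤ S.card)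
    (hsmall : ∀ i ∈ S, AllMono K (S.erase i)) {v : ι → F} (hv : v ⬝ᵥ v = 1)
    (hvS : refl sq v ∈ inner K S) {i : ι} (hi : i ∈ S) (hvi : v i = 0) :
    (∀ a b c, v a ≠ 0 → v b ≠ 0 → v c ≠ 0 → a = b ∨ a = c ∨ b = c) ∧
      ∀ a b, v a ≠ 0 → v b ≠ 0 → v a ^ 2 = v b ^ 2 :=
  refl_mono (by rw [hv]; exact one_ne_zero) (mono_of_fix hK hS hS3 hsmall hvS hi (c := 1) (j := i)
    (by rw [refl_ap_unit hv, dot_unitVec, hvi]; simp)) hK.two

set_option maxHeartbeats 1000000 in
/-- A minimal non-monomial group contains a reflection with a vector without zero coordinates. -/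
theorem exists_full (hK : Over K) {S : Finset ι} (hS : ∃ m, m ∉ S) (hS4 : 4 ≤ S.card)
    (hsmall : ∀ i ∈ S, AllMono K (S.erase i)) {g : Grp} (hg : g ∈ inner K S) (hgm : ¬ Mono g) :
    ∃ f : ι → F, f ⬝ᵥ f = 1 ∧ refl sq f ∈ inner K S ∧ ∀ i ∈ S, f i ≠ 0 := by
  classical
  have h2 := hK.two
  by_contra hno
  push Not at hno
  set r : ι → ι → F := fun k => ap g (unitVec k) with hr
  have hrr : ∀ k, r k ⬝ᵥ r k = 1 := ap_row_self g
  have hrS : ∀ k ∈ S, refl sq (r k) ∈ inner K S := fun k hk => by
    rw [hr, ← conj_sgn]; exact mul_mem (mul_mem hg (sgn_mem_inner hK hk)) (inv_mem hg)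
  have hsupp : ∀ k ∈ S, ∀ t, r k t ≠ 0 → t ∈ S := fun k hk t ht => by
    by_contra htS
    exact ht (support_inner hK (hrr k) (hrS k hk) htS)
  -- the two non-zero coordinates of a row
  set P : ι → Finset ι := fun k => Finset.univ.filter fun t => r k t ≠ 0 with hP
  have hmemP : ∀ k t, t ∈ P k ↔ r k t ≠ 0 := fun k t => by simp [hP]
  have hsq : ∀ k ∈ S, (P k).card = 2 ∧ ∀ a b, r k a ≠ 0 → r k b ≠ 0 → r k a ^ 2 = r k b ^ 2 := by
    intro k hk
    obtain ⟨i, hi, hi0⟩ := hno (r k) (hrr k) (hrS k hk)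
    obtain ⟨h3, heq⟩ := row_small hK hS (by omega) hsmall (hrr k) (hrS k hk) hi hi0
    refine ⟨le_antisymm ?_ ?_, heq⟩
    · by_contra! hlt
      obtain ⟨a, b, e, ha, hb, he, h12, h13, h23⟩ := Finset.two_lt_card_iff.1 hlt
      rcases h3 a b e ((hmemP k a).1 ha) ((hmemP k b).1 hb) ((hmemP k e).1 he) with h | h | h <;>
        contradiction
    · by_contra! hlt
      have hne : ∃ a, r k a ≠ 0 := by
        by_contra! h
        have := hrr k
        simp [dotProduct, h] at this
      obtain ⟨a, ha⟩ := hne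
      refine hgm (mono_of_fix hK hS (by omega) hsmall hg hk (c := r k a) (j := a) ?_)
      refine eq_smul_unitVec fun t hta => ?_
      by_contra ht
      exact hta ((Finset.card_le_one.1 (by omega) _ ((hmemP k t).2 ht) _ ((hmemP k a).2 ha)))
  have hPS : ∀ k ∈ S, P k ⊆ S := fun k hk t ht => hsupp k hk t ((hmemP k t).1 ht)
  -- two rows have the same or disjoint supports
  have hdot : ∀ k l, k ≠ l → r k ⬝ᵥ r l = 0 := fun k l h => ap_row_orth h2 g h
  have hpair : ∀ k ∈ S, ∀ l ∈ S, k ≠ l → P k = P l ∨ Disjoint (P k) (P l) := by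
    intro k hk l hl hkl
    by_contra! h
    obtain ⟨a, hak, hal⟩ := Finset.not_disjoint_iff.1 h.2
    have hsub : P k ∩ P l = {a} := by
      refine Finset.eq_singleton_iff_unique_mem.2 ⟨Finset.mem_inter.2 ⟨hak, hal⟩, fun b hb => ?_⟩
      by_contra hba
      refine h.1 ((Finset.eq_of_subset_of_card_le (s := {a, b}) (t := P k) ?_ ?_).symm.trans
        (Finset.eq_of_subset_of_card_le (s := {a, b}) (t := P l) ?_ ?_))
      · simp [Finset.insert_subset_iff, hak, (Finset.mem_inter.1 hb).1]
      · rw [(hsq k hk).1, Finset.card_pair (Ne.symm hba)]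
      · simp [Finset.insert_subset_iff, hal, (Finset.mem_inter.1 hb).2]
      · rw [(hsq l hl).1, Finset.card_pair (Ne.symm hba)]
    have h0 := hdot k l hkl
    rw [dotProduct, Finset.sum_eq_single a (fun b _ hb => ?_) (by simp)] at h0
    · exact mul_ne_zero ((hmemP k a).1 hak) ((hmemP l a).1 hal) h0
    · by_contra hne
      obtain ⟨hb1, hb2⟩ := mul_ne_zero_iff.1 hne
      exact hb (Finset.mem_singleton.1 (hsub ▸ Finset.mem_inter.2 ⟨(hmemP k b).2 hb1, (hmemP l b).2 hb2⟩))
  have htriple : ∀ k ∈ S, ∀ l ∈ S, ∀ u ∈ S, k ≠ l → k ≠ u → l ≠ u → P k = P l → P k ≠ P u := by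
    intro k hk l hl u hu hkl hku hlu hl' hu'
    obtain ⟨a, b, hab, hPk⟩ := Finset.card_eq_two.1 (hsq k hk).1
    have hsum : ∀ x y, P x = P k → r x ⬝ᵥ r y = r x a * r y a + r x b * r y b := fun x y hx => by
      rw [dotProduct, ← Finset.sum_subset (Finset.subset_univ ({a, b} : Finset ι)),
        Finset.sum_pair hab]
      intro t _ ht
      rw [show r x t = 0 by
        by_contra h; exact ht (hPk ▸ hx ▸ (hmemP x t).2 h), zero_mul]
    have hne : ∀ x, P x = P k → r x a ≠ 0 ∧ r x b ≠ 0 := fun x hx =>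
      ⟨(hmemP x a).1 (by rw [hx, hPk]; simp), (hmemP x b).1 (by rw [hx, hPk]; simp)⟩
    have e1 := (hsum k l rfl).symm.trans (hdot k l hkl)
    have e2 := (hsum k u rfl).symm.trans (hdot k u hku)
    have e3 := (hsum l u hl'.symm).symm.trans (hdot l u hlu)
    have q := (hsq k hk).2 a b (hne k rfl).1 (hne k rfl).2
    have h5 : r l a * r u a * (r k b ^ 2 + r k a ^ 2) = 0 := by
      linear_combination r k b ^ 2 * e3 - (r k b * r u b) * e1 + (r k a * r l a) * e2
    rw [q, ← two_mul] at h5
    exact mul_ne_zero (mul_ne_zero (hne l hl'.symm).1 (hne u hu'.symm).1)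
      (mul_ne_zero h2 (pow_ne_zero 2 (hne k rfl).2)) h5
  -- two rows with the same support, a third with another one
  obtain ⟨k, hk, l, hl, hkl, hklP⟩ : ∃ k ∈ S, ∃ l ∈ S, k ≠ l ∧ P k = P l := by
    by_contra! hall
    have hd : (S : Set ι).PairwiseDisjoint P := fun x hx y hy hxy =>
      (hpair x hx y hy hxy).resolve_left (hall x hx y hy hxy)
    have h1 := Finset.card_le_card (Finset.biUnion_subset.2 hPS)
    rw [Finset.card_biUnion hd, Finset.sum_congr rfl fun x hx => (hsq x hx).1, Finset.sum_const,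
      smul_eq_mul] at h1
    omega
  obtain ⟨u, hu, huk, hul⟩ : ∃ u ∈ S, u ≠ k ∧ u ≠ l := by
    by_contra! hall
    have : S ⊆ {k, l} := fun t ht => by
      rcases eq_or_ne t k with rfl | h
      · simp
      · simp [hall t ht h]
    have := (Finset.card_le_card this).trans Finset.card_le_two
    omega
  have hku : P k ≠ P u := htriple k hk l hl u hu hkl (Ne.symm huk) (Ne.symm hul) hklP
  have hdis : Disjoint (P k) (P u) := (hpair k hk u hu (Ne.symm huk)).resolve_left hku
  have hzero : ∀ {x y : ι}, Disjoint (P x) (P y) → ∀ t, r x t ≠ 0 → r y t = 0 := fun hd t ht => by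
    by_contra h
    exact Finset.disjoint_left.1 hd ((hmemP _ t).2 ht) ((hmemP _ t).2 h)
  obtain ⟨a, b, hab, hPk⟩ := Finset.card_eq_two.1 (hsq k hk).1
  obtain ⟨c, d, hcd, hPu⟩ := Finset.card_eq_two.1 (hsq u hu).1
  by_cases hfour : S ⊆ P k ∪ P u
  · -- four coordinates: a vector with full support
    obtain ⟨v, ⟨hvv, hvS⟩, x, y, hx, hyS, hyk, hyl, hvx, hvy, hvz⟩ : ∃ v : ι → F,
        (v ⬝ᵥ v = 1 ∧ refl sq v ∈ inner K S) ∧ ∃ x y, (x = k ∨ x = l) ∧ y ∈ S ∧ y ≠ k ∧ y ≠ l ∧
          v x ≠ 0 ∧ v y ≠ 0 ∧ ∀ t, t ≠ x → t ≠ y → v t = 0 := by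
      have ha0 : r k a ≠ 0 := (hmemP k a).1 (by rw [hPk]; simp)
      have hb0 : r k b ≠ 0 := (hmemP k b).1 (by rw [hPk]; simp)
      have hrest : ∀ m, m ≠ a → m ≠ b → r k m = 0 := fun m hma hmb => by
        by_contra h
        have := (hmemP k m).2 h
        rw [hPk] at this
        simp [hma, hmb] at this
      have haS : a ∈ S := hPS k hk (by rw [hPk]; simp)
      have hbS : b ∈ S := hPS k hk (by rw [hPk]; simp)
      by_cases h1 : (a = k ∨ a = l) ∧ ¬ (b = k ∨ b = l)
      · exact ⟨_, ⟨hrr k, hrS k hk⟩, a, b, h1.1, hbS, fun e => h1.2 (.inl e), fun e => h1.2 (.inr e),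
          ha0, hb0, hrest⟩
      by_cases h3 : (b = k ∨ b = l) ∧ ¬ (a = k ∨ a = l)
      · exact ⟨_, ⟨hrr k, hrS k hk⟩, b, a, h3.1, haS, fun e => h3.2 (.inl e), fun e => h3.2 (.inr e),
          hb0, ha0, fun m h h' => hrest m h' h⟩
      obtain ⟨t, htS, hta, htb⟩ : ∃ t ∈ S, ((t = k ∨ t = l) ↔ ¬ (a = k ∨ a = l)) ∧
          ((t = k ∨ t = l) ↔ ¬ (b = k ∨ b = l)) := by
        by_cases h : a = k ∨ a = l
        · exact ⟨u, hu, by simp [h, huk, hul], by
            have : b = k ∨ b = l := by tauto
            simp [this, huk, hul]⟩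
        · exact ⟨k, hk, by tauto, by tauto⟩
      have htane : t ≠ a := by rintro rfl; tauto
      have htbne : t ≠ b := by rintro rfl; tauto
      have hp := cyc_mem_inner hK (Ne.symm htbne) hab.symm htane hbS htS haS
      set w := ap (permIso (cyc b t a)) (r k) with hw
      have hwS : refl sq w ∈ inner K S := by
        rw [hw, ← conj_refl]; exact mul_mem (mul_mem hp (hrS k hk)) (inv_mem hp)
      have hww : w ⬝ᵥ w = 1 := by rw [hw, dot_ap_self, hrr]
      have hwb : w b ≠ 0 := by
        have := permIso_coord (F := F) (cyc b t a) (r k) a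
        rw [cyc_thd] at this
        rw [hw, this]; exact ha0
      have hwt : w t ≠ 0 := by
        have := permIso_coord (F := F) (cyc b t a) (r k) b
        rw [cyc_fst (Ne.symm htbne) hab.symm] at this
        rw [hw, this]; exact hb0
      have hwr : ∀ m, m ≠ b → m ≠ t → w m = 0 := fun m h h' => by
        obtain ⟨q, rfl⟩ := (cyc b t a).surjective m
        rw [hw, permIso_coord]
        refine hrest q (fun e => h (by rw [e, cyc_thd])) fun e => h' ?_
        rw [e, cyc_fst (Ne.symm htbne) hab.symm]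
      by_cases h : b = k ∨ b = l
      · exact ⟨w, ⟨hww, hwS⟩, b, t, h, htS, fun e => (htb.1 (.inl e)) h, fun e => (htb.1 (.inr e)) h,
          hwb, hwt, hwr⟩
      · exact ⟨w, ⟨hww, hwS⟩, t, b, htb.2 h, hbS, fun e => h (.inl e), fun e => h (.inr e),
          hwt, hwb, fun m h4 h5 => hwr m h5 h4⟩
    obtain ⟨t, htS, ht0⟩ := hno (ap g v) (by rw [dot_ap_self, hvv])
      (by rw [← conj_refl]; exact mul_mem (mul_mem hg hvS) (inv_mem hg))
    have hxy : x ≠ y := by
      rintro rfl
      exact hx.elim hyk hyl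
    have e : ap g v t = v x * r x t + v y * r y t := by
      conv_lhs => rw [eq_sum_unitVec v]
      simp only [map_sum, map_smul, Finset.sum_apply, Pi.smul_apply, smul_eq_mul]
      rw [← Finset.sum_subset (Finset.subset_univ ({x, y} : Finset ι)), Finset.sum_pair hxy]
      intro m _ hm
      simp at hm
      rw [hvz m hm.1 hm.2, zero_mul]
    have hxP : P x = P k := by rcases hx with rfl | rfl <;> [rfl; exact hklP.symm]
    have hdy : Disjoint (P y) (P k) := (hpair y hyS k hk hyk).resolve_left fun h =>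
      htriple k hk l hl y hyS hkl (Ne.symm hyk) (Ne.symm hyl) hklP h.symm
    have hyP : P y = P u := by
      refine Finset.eq_of_subset_of_card_le (fun m hm => ?_) (by rw [(hsq u hu).1, (hsq y hyS).1])
      exact (Finset.mem_union.1 (hfour (hPS y hyS hm))).resolve_left (Finset.disjoint_left.1 hdy hm)
    have hd' : Disjoint (P x) (P y) := by rw [hxP]; exact hdy.symm
    rw [e] at ht0
    rcases Finset.mem_union.1 (hfour htS) with h | h
    · rw [← hxP, hmemP] at h
      rw [hzero hd' t h, mul_zero, add_zero] at ht0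
      exact mul_ne_zero hvx h ht0
    · rw [← hyP, hmemP] at h
      rw [hzero hd'.symm t h, mul_zero, zero_add] at ht0
      exact mul_ne_zero hvy h ht0
  · -- a coordinate outside the four is fixed by a conjugate of a three-cycle
    obtain ⟨e, heS, he⟩ := Finset.not_subset.1 hfour
    rw [Finset.mem_union, not_or, hmemP, hmemP, not_not, not_not] at he
    set π := cyc k l u with hπ
    have hp := cyc_mem_inner hK hkl (Ne.symm huk) (Ne.symm hul) hk hl hu
    set x := g * permIso π * g⁻¹ with hx
    have hxS : x ∈ inner K S := mul_mem (mul_mem hg hp) (inv_mem hg)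
    have hle : r l e = 0 := by
      by_contra h; exact (hmemP k e).1 (hklP ▸ (hmemP l e).2 h) he.1
    have hfix : ap x (unitVec e) = (1 : F) • unitVec e := by
      rw [hx, ap_mul, ap_mul, one_smul]
      have : ap (permIso π) (ap g⁻¹ (unitVec e)) = ap g⁻¹ (unitVec e) := by
        funext t
        obtain ⟨q, rfl⟩ := π.surjective t
        rw [permIso_coord]
        by_cases h1 : q = k
        · subst h1
          rw [hπ, cyc_fst hkl (Ne.symm huk), ← ap_coord h2, ← ap_coord h2]
          exact he.1.trans hle.symm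
        by_cases h3 : q = l
        · subst h3
          rw [hπ, cyc_snd (Ne.symm huk) (Ne.symm hul), ← ap_coord h2, ← ap_coord h2]
          exact hle.trans he.2.symm
        by_cases h4 : q = u
        · subst h4
          rw [hπ, cyc_thd, ← ap_coord h2, ← ap_coord h2]
          exact he.2.trans he.1.symm
        rw [hπ, cyc_ne h1 h3 h4]
      rw [this, ap_ap_inv]
    have hxm : Mono x := mono_of_fix hK hS (by omega) hsmall hxS heS hfix
    -- but the image of `a` has two non-zero coordinates
    have hrow : ∀ t, t ≠ k → t ≠ l → r t a = 0 := fun t htk htl => by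
      by_cases htS : t ∈ S
      · by_contra h
        rcases hpair t htS k hk htk with h' | h'
        · exact htriple k hk l hl t htS hkl (Ne.symm htk) (Ne.symm htl) hklP h'.symm
        · exact Finset.disjoint_left.1 h' ((hmemP t a).2 h) (by rw [hPk]; simp)
      · show ap g (unitVec t) a = 0
        rw [hg.1 t htS, unitVec_ne]
        rintro rfl
        exact htS (hPS k hk (by rw [hPk]; simp))
    have hxa : ap x (unitVec a) = r k a • r l + r l a • r u := by
      rw [hx, ap_mul, ap_mul]
      have : ap g⁻¹ (unitVec a) = r k a • unitVec k + r l a • unitVec l := by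
        funext t
        rw [← ap_coord h2]
        show r t a = _
        by_cases h1 : t = k
        · subst h1; simp [unitVec_same, unitVec_ne hkl]
        by_cases h3 : t = l
        · subst h3; simp [unitVec_same, unitVec_ne hkl.symm]
        simp [unitVec_ne h1, unitVec_ne h3, hrow t h1 h3]
      rw [this, map_add, map_smul, map_smul, permIso_unitVec, permIso_unitVec, hπ,
        cyc_fst hkl (Ne.symm huk), cyc_snd (Ne.symm huk) (Ne.symm hul), map_add, map_smul, map_smul]
    obtain ⟨j, w, hj⟩ := hxm a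
    have ha0 : r k a ≠ 0 := (hmemP k a).1 (by rw [hPk]; simp)
    have hla : r l a ≠ 0 := (hmemP l a).1 (by rw [← hklP, hPk]; simp)
    have hua : r u a = 0 := hzero hdis a ha0
    have huc : r u c ≠ 0 := (hmemP u c).1 (by rw [hPu]; simp)
    have hlc : r l c = 0 := hzero (by rw [← hklP]; exact hdis.symm) c huc
    have h1 := congrFun (hxa.symm.trans hj) a
    have h3 := congrFun (hxa.symm.trans hj) c
    simp [hua, hlc] at h1 h3
    rcases eq_or_ne j a with rfl | hja
    · have hca : c ≠ j := fun e => huc (e ▸ hua)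
      rw [unitVec_ne hca, mul_zero] at h3
      exact mul_ne_zero hla huc h3
    · rw [unitVec_ne (Ne.symm hja), mul_zero] at h1
      exact mul_ne_zero ha0 hla h1

theorem nat_cast_ne_zero_of_mul {a : F} {n : ℕ} (h : (n : F) * a = 1) : (n : F) ≠ 0 :=
  fun h0 => by rw [h0, zero_mul] at h; exact zero_ne_one h

/-- No minimal non-monomial group on five or more coordinates. -/
theorem allMono_of_five (hK : Over K) {S : Finset ι} (hS : ∃ m, m ∉ S) (hS5 : 5 ≤ S.card)
    (hsmall : ∀ T, T ⊂ S → AllMono K T) (hthree : (3 : F) = 0 → ∀ x : F, x ^ 2 ≠ -1) :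
    AllMono K S := by
  classical
  intro g hg
  by_contra hgm
  have h2 := hK.two
  have hsmall' : ∀ i ∈ S, AllMono K (S.erase i) := fun i hi => hsmall _ (Finset.erase_ssubset hi)
  have hsmall2 : ∀ T, T ⊆ S → T.card + 2 ≤ S.card → AllMono K T := fun T hT hc =>
    hsmall T (hT.ssubset_of_ne fun e => by rw [e] at hc; omega)
  obtain ⟨f, hf, hfS, hfull⟩ := exists_full hK hS (by omega) hsmall' hg hgm
  obtain ⟨i₀, hi₀⟩ : S.Nonempty := Finset.card_pos.1 (by omega)
  set α := f i₀ ^ 2 with hα
  have heq : ∀ i ∈ S, f i ^ 2 = α := fun i hi => eq_squares hK hS hS5 hsmall2 hf hfS hfull hi hi₀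
  have hsum : (S.card : F) * α = 1 := by
    rw [← hf, dotProduct, ← Finset.sum_subset (Finset.subset_univ S) (fun t _ ht => by
      rw [support_inner hK hf hfS ht, zero_mul]), ← nsmul_eq_mul, ← Finset.sum_const]
    exact Finset.sum_congr rfl fun t ht => by rw [← heq t ht]; ring
  have hs0 : (S.card : F) ≠ 0 := nat_cast_ne_zero_of_mul hsum
  -- the flipped vectors
  have hflip : ∀ T, T ⊆ S → 0 < T.card → T.card ≤ 3 →
      (S.card : F) = 2 * T.card ∨
      (S.card : F) = 4 * T.card ∧ T.card ≤ 2 ∨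
      3 * (S.card : F) = 4 * T.card ∧ S.card - T.card ≤ 2 := by
    intro T hT hT0 hT3
    set w : ι → F := fun t => if t ∈ T then -f t else f t with hw
    have hww : w ⬝ᵥ w = 1 := by
      rw [← hf]; refine Finset.sum_congr rfl fun t _ => ?_
      simp only [hw]; split_ifs <;> ring
    have hwS : refl sq w ∈ inner K S := by
      clear hww
      suffices h : ∀ T' : Finset ι, T' ⊆ S →
          refl sq (fun t => if t ∈ T' then -f t else f t) ∈ inner K S from h T hT
      intro T' hT'
      induction T' using Finset.induction with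
      | empty => simpa using hfS
      | insert b T' hb ih =>
        have hbS : b ∈ S := hT' (Finset.mem_insert_self b T')
        have h1 := mul_mem (mul_mem (sgn_mem_inner hK hbS) (ih fun t ht =>
          hT' (Finset.mem_insert_of_mem ht))) (inv_mem (sgn_mem_inner hK hbS))
        rw [conj_refl] at h1
        convert h1 using 2
        congr 1
        funext t
        rw [sgn_coord]
        by_cases htb : t = b
        · subst htb; simp [hb]
        · simp [htb]
    have hfw : f ⬝ᵥ w = 1 - 2 * (T.card * α) := by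
      have e1 : ∀ t, f t * w t = f t * f t - if t ∈ T then 2 * f t ^ 2 else 0 := fun t => by
        simp only [hw]; split_ifs <;> ring
      rw [dotProduct, Finset.sum_congr rfl fun t _ => e1 t, Finset.sum_sub_distrib, Finset.sum_ite_mem,
        Finset.univ_inter]
      rw [show ∑ t, f t * f t = (1 : F) from hf, Finset.sum_congr rfl
        fun t ht => by rw [heq t (hT ht)]]
      rw [Finset.sum_const, nsmul_eq_mul]; ring
    set μ := 2 * (f ⬝ᵥ w) with hμ
    set v := ap (refl sq f) w with hv
    have hvv : v ⬝ᵥ v = 1 := by rw [hv, dot_ap_self, hww]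
    have hvS : refl sq v ∈ inner K S := by
      rw [hv, ← conj_refl]; exact mul_mem (mul_mem hfS hwS) (inv_mem hfS)
    have hvt : ∀ t, v t = if t ∈ T then -(1 + μ) * f t else (1 - μ) * f t := fun t => by
      rw [hv, refl_ap_unit hf]
      simp only [Pi.sub_apply, Pi.smul_apply, smul_eq_mul, hw]
      split_ifs <;> ring
    have hμs : μ * S.card = 2 * S.card - 4 * T.card := by
      rw [hμ, hfw]; linear_combination -4 * (T.card : F) * hsum
    obtain ⟨a, haT⟩ := Finset.card_pos.1 hT0
    have ha := hT haT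
    obtain ⟨b, hbS, hbT⟩ := Finset.not_subset.1
      (fun h : S ⊆ T => by have := Finset.card_le_card h; omega)
    have hle : ∀ U, U ⊆ S → (∀ t ∈ U, v t ≠ 0) → (∃ i ∈ S, v i = 0) → U.card ≤ 2 := by
      intro U _ hU ⟨i, hi, hi0⟩
      obtain ⟨h3, -⟩ := row_small hK hS (by omega) hsmall' hvv hvS hi hi0
      by_contra! hlt
      obtain ⟨x, y, z, hx, hy, hz, h12, h13, h23⟩ := Finset.two_lt_card_iff.1 hlt
      rcases h3 x y z (hU x hx) (hU y hy) (hU z hz) with h | h | h <;> contradiction
    have hμ2 : μ = 1 → μ ≠ -1 := fun h h' => h2 (by linear_combination h' - h)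
    by_cases hp : 1 + μ = 0
    · right; right
      have hm : μ = -1 := by linear_combination hp
      refine ⟨by rw [hm] at hμs; linear_combination -hμs, ?_⟩
      rw [← Finset.card_sdiff_of_subset hT]
      refine hle _ Finset.sdiff_subset (fun t ht => ?_) ⟨a, ha, by rw [hvt, if_pos haT, hp]; ring⟩
      obtain ⟨htS, htT⟩ := Finset.mem_sdiff.1 ht
      rw [hvt, if_neg htT]
      exact mul_ne_zero (fun h => hμ2 (by linear_combination -h) hm) (hfull t htS)
    by_cases hn : 1 - μ = 0
    · right; left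
      refine ⟨by rw [show μ = 1 by linear_combination -hn] at hμs; linear_combination -hμs, ?_⟩
      refine hle T hT (fun t ht => ?_) ⟨b, hbS, by rw [hvt, if_neg hbT, hn]; ring⟩
      rw [hvt, if_pos ht]
      exact mul_ne_zero (neg_ne_zero.2 hp) (hfull t (hT ht))
    · left
      have hall : ∀ t ∈ S, v t ≠ 0 := fun t ht => by
        rw [hvt]; split_ifs
        · exact mul_ne_zero (neg_ne_zero.2 hp) (hfull t ht)
        · exact mul_ne_zero hn (hfull t ht)
      have h := eq_squares hK hS hS5 hsmall2 hvv hvS hall ha hbS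
      rw [hvt, hvt, if_pos haT, if_neg hbT, mul_pow, mul_pow, heq a ha, heq b hbS] at h
      have hα0 : α ≠ 0 := pow_ne_zero 2 (hfull i₀ hi₀)
      have h4 : 2 * (2 * μ) = 0 := by
        have := mul_right_cancel₀ hα0 h
        linear_combination this
      have hμ0 : μ = 0 := ((mul_eq_zero.1 ((mul_eq_zero.1 h4).resolve_left h2))).resolve_left h2
      rw [hμ0, zero_mul] at hμs
      exact mul_left_cancel₀ h2 (by linear_combination -hμs)
  obtain ⟨T1, hT1, hc1⟩ := Finset.exists_subset_card_eq (show 1 ≤ S.card by omega)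
  obtain ⟨T2, hT2, hc2⟩ := Finset.exists_subset_card_eq (show 2 ≤ S.card by omega)
  obtain ⟨T3, hT3, hc3⟩ := Finset.exists_subset_card_eq (show 3 ≤ S.card by omega)
  have r1 := hflip T1 hT1 (by omega) (by omega)
  have r2 := hflip T2 hT2 (by omega) (by omega)
  have r3 := hflip T3 hT3 (by omega) (by omega)
  rw [hc1] at r1; rw [hc2] at r2; rw [hc3] at r3
  push_cast at r1 r2 r3
  rcases r1 with e1 | ⟨e1, -⟩ | ⟨-, h⟩
  · rcases r2 with e2 | ⟨e2, -⟩ | ⟨-, h⟩
    · exact h2 (by linear_combination e1 - e2)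
    · have h3 : (3 : F) = 0 := (mul_eq_zero.1 (show (2 : F) * 3 = 0 by
        linear_combination e1 - e2)).resolve_left h2
      refine hthree h3 (f i₀) (?_ : α = -1)
      rw [e1] at hsum
      linear_combination -hsum + α * h3
    · omega
  · rcases r2 with e2 | ⟨e2, -⟩ | ⟨-, h⟩
    · rcases r3 with e3 | ⟨-, h⟩ | ⟨-, h⟩
      · exact h2 (by linear_combination e2 - e3)
      · omega
      · have h5 : S.card = 5 := by omega
        rw [h5] at e2
        push_cast at e2
        exact one_ne_zero (α := F) (by linear_combination e2)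
    · exact mul_ne_zero h2 h2 (by linear_combination e1 - e2)
    · omega
  · omega

/-- No minimal non-monomial group on four coordinates, in characteristic not three. -/
theorem allMono_of_four (hK : Over K) (h3 : (3 : F) ≠ 0) (hι : 7 ≤ Fintype.card ι) {S : Finset ι}
    (hS4 : S.card = 4) (hsmall : ∀ T : Finset ι, T.card ≤ 3 → AllMono K T) : AllMono K S := by
  classical
  intro g hg
  by_contra hgm
  have h2 := hK.two
  obtain ⟨o, q, q', ho, hq, hq', hoq, hoq', hqq'⟩ := Finset.two_lt_card_iff.1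
    (show 2 < Sᶜ.card by rw [Finset.card_compl, hS4]; omega)
  rw [Finset.mem_compl] at ho hq hq'
  obtain ⟨f, hf, hfS, hfull⟩ := exists_full hK ⟨o, ho⟩ (le_of_eq hS4.symm) (fun i hi => hsmall _ (by
    rw [Finset.card_erase_of_mem hi, hS4])) hg hgm
  have hsup : ∀ {m}, m ∉ S → f m = 0 := fun hm => support_inner hK hf hfS hm
  set S' := insert o S with hS'
  have hS'5 : S'.card = 5 := by rw [hS', Finset.card_insert_of_notMem ho, hS4]
  have hqS' : q ∉ S' := by simp [hS', hq, Ne.symm hoq]
  have hout : ∃ m, m ∉ S' := ⟨q, hqS'⟩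
  have hfS' : refl sq f ∈ inner K S' := inner_mono_sub hK ⟨o, ho⟩ (Finset.subset_insert o S) hfS
  -- a translate of `f` avoiding `a`
  set w₀ : ι → ι → F := fun a t => if t = a then 0 else if t = o then f a else f t with hw₀
  have hw₀S : ∀ a ∈ S, w₀ a ⬝ᵥ w₀ a = 1 ∧ refl sq (w₀ a) ∈ inner K S' := by
    intro a ha
    have hao : a ≠ o := fun e => ho (e ▸ ha)
    have haq : a ≠ q := fun e => hq (e ▸ ha)
    have haq' : a ≠ q' := fun e => hq' (e ▸ ha)
    set π := Equiv.swap a o * Equiv.swap q q' with hπ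
    have e : w₀ a = ap (permIso π) f := by
      funext t
      rw [permIso_ap, Function.comp_apply]
      simp only [hw₀, hπ, Equiv.Perm.mul_def, Equiv.symm_trans_apply, Equiv.symm_swap]
      by_cases h1 : t = a
      · subst h1
        rw [if_pos rfl, Equiv.swap_apply_left, Equiv.swap_apply_of_ne_of_ne hoq hoq', hsup ho]
      rw [if_neg h1]
      by_cases h4 : t = o
      · subst h4
        rw [if_pos rfl, Equiv.swap_apply_right, Equiv.swap_apply_of_ne_of_ne haq haq']
      rw [if_neg h4, Equiv.swap_apply_of_ne_of_ne h1 h4]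
      by_cases h5 : t = q
      · subst h5; rw [Equiv.swap_apply_left, hsup hq', hsup hq]
      by_cases h6 : t = q'
      · subst h6; rw [Equiv.swap_apply_right, hsup hq, hsup hq']
      rw [Equiv.swap_apply_of_ne_of_ne h5 h6]
    refine ⟨by rw [e, dot_ap_self, hf], ?_⟩
    rw [e, ← conj_refl]
    have hsub : S.image π ⊆ S' := fun t ht => by
      obtain ⟨r, hr, rfl⟩ := Finset.mem_image.1 ht
      have hrq : r ≠ q := fun e => hq (e ▸ hr)
      have hrq' : r ≠ q' := fun e => hq' (e ▸ hr)
      rw [hπ, Equiv.Perm.mul_apply, Equiv.swap_apply_of_ne_of_ne hrq hrq']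
      by_cases hra : r = a
      · subst hra; rw [Equiv.swap_apply_left]; exact Finset.mem_insert_self _ _
      · rw [Equiv.swap_apply_of_ne_of_ne hra fun e : r = o => ho (e ▸ hr)]
        exact Finset.mem_insert_of_mem hr
    exact inner_mono_sub hK ⟨q, fun h => hqS' (hsub h)⟩ hsub
      (conj_perm_inner hK (hK.swap_mem hao haq haq' hoq hoq' hqq') hfS)
  -- the values of `2 (f ⬝ w)`
  have hfull' : ∀ a ∈ S, ∀ w : ι → F, w ⬝ᵥ w = 1 → refl sq w ∈ inner K S' → w a = 0 → w o ^ 2 = f a ^ 2 →
      (∀ t ∈ S, t ≠ a → w t ^ 2 = f t ^ 2) →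
      2 * (f ⬝ᵥ w) ≠ 0 → (∀ t ∈ S, t ≠ a → f t - 2 * (f ⬝ᵥ w) * w t ≠ 0) →
      ∀ t ∈ S, t ≠ a → f a ^ 2 = (f t - 2 * (f ⬝ᵥ w) * w t) ^ 2 ∧ (2 * (f ⬝ᵥ w)) ^ 2 = 1 := by
    intro a ha w hw hwS hwa hwo hwt hμ hne t ht hta
    set μ := 2 * (f ⬝ᵥ w) with hμd
    set v := ap (refl sq w) f with hv
    have hvc : ∀ t, v t = f t - μ * w t := fun t => by
      rw [hv, refl_ap_unit hw, dotProduct_comm w f]; simp [hμd]
    have hvS : refl sq v ∈ inner K S' := by
      rw [hv, ← conj_refl]; exact mul_mem (mul_mem hwS hfS') (inv_mem hwS)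
    have hall : ∀ m ∈ S', v m ≠ 0 := by
      intro m hm
      rw [hvc]
      rcases Finset.mem_insert.1 hm with rfl | hm'
      · rw [hsup ho, zero_sub]
        exact neg_ne_zero.2 (mul_ne_zero hμ fun h => hfull a ha (pow_eq_zero_iff two_ne_zero |>.1 (by
          rw [← hwo, h]; ring)))
      · by_cases hma : m = a
        · subst hma; rw [hwa, mul_zero, sub_zero]; exact hfull m hm'
        · exact hne m hm' hma
    have hvv : v ⬝ᵥ v = 1 := by rw [hv, dot_ap_self, hf]
    have hsm : ∀ T, T ⊆ S' → T.card + 2 ≤ S'.card → AllMono K T := fun T _ hT => hsmall T (by omega)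
    have h1 := eq_squares hK hout (by omega) hsm hvv hvS hall (Finset.mem_insert_of_mem ha)
      (Finset.mem_insert_self o S)
    have h4 := eq_squares hK hout (by omega) hsm hvv hvS hall (Finset.mem_insert_of_mem ha)
      (Finset.mem_insert_of_mem ht)
    rw [hvc, hvc, hwa, hsup ho, mul_zero, sub_zero, zero_sub, neg_sq, mul_pow, hwo] at h1
    rw [hvc, hvc, hwa, mul_zero, sub_zero] at h4
    exact ⟨h4, mul_right_cancel₀ (pow_ne_zero 2 (hfull a ha)) (by linear_combination -h1)⟩
  have hval : ∀ a ∈ S, ∀ w : ι → F, w ⬝ᵥ w = 1 → refl sq w ∈ inner K S' → w a = 0 → w o ^ 2 = f a ^ 2 →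
      (∀ t ∈ S, t ≠ a → w t = f t ∨ w t = -f t) →
      2 * (f ⬝ᵥ w) = 0 ∨ 2 * (f ⬝ᵥ w) = 1 ∨ 2 * (f ⬝ᵥ w) = -1 := by
    intro a ha w hw hwS hwa hwo hwt
    by_contra! h
    obtain ⟨t, htS, hta⟩ : ∃ t ∈ S, t ≠ a := Finset.exists_mem_ne (by omega) a
    have hne : ∀ t ∈ S, t ≠ a → f t - 2 * (f ⬝ᵥ w) * w t ≠ 0 := fun t htS hta h0 => by
      rcases hwt t htS hta with e | e <;> rw [e] at h0
      · rcases mul_eq_zero.1 (show f t * (1 - 2 * (f ⬝ᵥ w)) = 0 by linear_combination h0) with h' | h'
        · exact hfull t htS h'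
        · exact h.2.1 (by linear_combination -h')
      · rcases mul_eq_zero.1 (show f t * (1 + 2 * (f ⬝ᵥ w)) = 0 by linear_combination h0) with h' | h'
        · exact hfull t htS h'
        · exact h.2.2 (by linear_combination h')
    have := (hfull' a ha w hw hwS hwa hwo
      (fun t hS' ha' => by rcases hwt t hS' ha' with e | e <;> rw [e]; ring) h.1 hne t htS hta).2
    rcases sq_eq_one_iff.1 this with e | e
    · exact h.2.1 e
    · exact h.2.2 e
  have hdot : ∀ a ∈ S, f ⬝ᵥ w₀ a = 1 - f a ^ 2 := fun a ha => by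
    have e : ∀ t, f t * w₀ a t = f t * f t - (if t = a then f a ^ 2 else 0) := fun t => by
      simp only [hw₀]
      by_cases h1 : t = a
      · subst h1; simp; ring
      by_cases h4 : t = o
      · subst h4; simp [h1, hsup ho]
      simp [h1, h4]
    rw [dotProduct, Finset.sum_congr rfl fun t _ => e t, Finset.sum_sub_distrib, Finset.sum_ite_eq',
      if_pos (Finset.mem_univ a), show ∑ t, f t * f t = (1 : F) from hf]
  have hw₀o : ∀ a ∈ S, w₀ a o ^ 2 = f a ^ 2 := fun a ha => by
    simp only [hw₀]; rw [if_neg fun e : o = a => ho (e ▸ ha)]; simp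
  have hw₀a : ∀ a, w₀ a a = 0 := fun a => by simp [hw₀]
  have hw₀t : ∀ a, ∀ t ∈ S, t ≠ a → w₀ a t = f t := fun a t ht hta => by
    simp only [hw₀]; rw [if_neg hta, if_neg fun e : t = o => ho (e ▸ ht)]
  have hD : ∀ a ∈ S, 2 * (1 - f a ^ 2) = 0 ∨ 2 * (1 - f a ^ 2) = 1 ∨ 2 * (1 - f a ^ 2) = -1 := by
    intro a ha
    have := hval a ha _ (hw₀S a ha).1 (hw₀S a ha).2 (hw₀a a) (hw₀o a ha)
      (fun t ht hta => .inl (hw₀t a t ht hta))
    rwa [hdot a ha] at this
  -- one more sign
  have hDx : ∀ a ∈ S, ∀ x ∈ S, x ≠ a → 2 * (1 - f a ^ 2 - 2 * f x ^ 2) = 0 ∨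
      2 * (1 - f a ^ 2 - 2 * f x ^ 2) = 1 ∨ 2 * (1 - f a ^ 2 - 2 * f x ^ 2) = -1 := by
    intro a ha x hx hxa
    obtain ⟨hw, hwS⟩ := hw₀S a ha
    have hxS' : x ∈ S' := Finset.mem_insert_of_mem hx
    set w := ap (sgn x) (w₀ a) with hwd
    have hww : w ⬝ᵥ w = 1 := by rw [hwd, dot_ap_self, hw]
    have hwS' : refl sq w ∈ inner K S' := by
      rw [hwd, ← conj_refl]
      exact mul_mem (mul_mem (sgn_mem_inner hK hxS') hwS) (inv_mem (sgn_mem_inner hK hxS'))
    have hox : o ≠ x := fun e => ho (e ▸ hx)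
    have := hval a ha w hww hwS' (by rw [hwd, sgn_coord, if_neg (Ne.symm hxa), hw₀a])
      (by rw [hwd, sgn_coord, if_neg hox, hw₀o a ha]) (fun t ht hta => by
        rw [hwd, sgn_coord]; split_ifs
        · right; rw [hw₀t a t ht hta]
        · left; rw [hw₀t a t ht hta])
    have e : f ⬝ᵥ w = 1 - f a ^ 2 - 2 * f x ^ 2 := by
      rw [hwd, sgn_ap, dotProduct_sub, dotProduct_smul, dot_unitVec, hdot a ha, hw₀t a x hx hxa,
        smul_eq_mul]
      ring
    rwa [e] at this
  -- the coordinates have squares `1` or `1/2`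
  have hsum : ∑ t ∈ S, f t ^ 2 = 1 := by
    rw [← hf, dotProduct, ← Finset.sum_subset (Finset.subset_univ S) (fun t _ ht => by
      rw [hsup ht, zero_mul])]
    exact Finset.sum_congr rfl fun t _ => by ring
  have hone : ∀ a ∈ S, f a ^ 2 = 1 ∨ 2 * f a ^ 2 = 1 := by
    intro a ha
    rcases hD a ha with h | h | h
    · left; linear_combination -((mul_eq_zero.1 h).resolve_left h2)
    · right; linear_combination -h
    · exfalso
      obtain ⟨w, hw, hwS, hwd⟩ : ∃ w, w ⬝ᵥ w = 1 ∧ refl sq w ∈ inner K S' ∧ w = w₀ a :=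
        ⟨_, (hw₀S a ha).1, (hw₀S a ha).2, rfl⟩
      have hμ : 2 * (f ⬝ᵥ w) = -1 := by rw [hwd, hdot a ha, h]
      have hne : ∀ t ∈ S, t ≠ a → f t - 2 * (f ⬝ᵥ w) * w t ≠ 0 := fun t ht hta => by
        rw [hμ, hwd, hw₀t a t ht hta, show f t - -1 * f t = 2 * f t by ring]
        exact mul_ne_zero h2 (hfull t ht)
      have h4 : ∀ t ∈ S.erase a, 4 * f t ^ 2 = f a ^ 2 := fun t ht => by
        obtain ⟨hta, ht⟩ := Finset.mem_erase.1 ht
        have := (hfull' a ha w hw hwS (by rw [hwd, hw₀a]) (by rw [hwd, hw₀o a ha])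
          (fun t ht hta => by rw [hwd, hw₀t a t ht hta]) (by rw [hμ]; exact neg_ne_zero.2 one_ne_zero)
          hne t ht hta).1
        rw [hμ, hwd, hw₀t a t ht hta] at this
        linear_combination -this
      obtain ⟨x, hx⟩ : (S.erase a).Nonempty := Finset.card_pos.1 (by
        rw [Finset.card_erase_of_mem ha]; omega)
      have hs : 4 * ∑ t ∈ S.erase a, f t ^ 2 = 3 * f a ^ 2 := by
        rw [Finset.mul_sum, Finset.sum_congr rfl h4, Finset.sum_const, Finset.card_erase_of_mem ha, hS4]
        simp [nsmul_eq_mul]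
      have hs' : f a ^ 2 + ∑ t ∈ S.erase a, f t ^ 2 = 1 := by
        rw [← Finset.add_sum_erase S _ ha] at hsum; exact hsum
      have h13 : (13 : F) = 0 := by linear_combination 8 * hs' - 2 * hs + 7 * h
      have hx' := h4 x hx
      rcases hDx a ha x (Finset.mem_erase.1 hx).2 (Finset.mem_erase.1 hx).1 with h' | h' | h'
      · exact one_ne_zero (α := F)
          (by linear_combination 2 * h13 - 5 * (3 * h - 2 * hx' - 2 * h'))
      · exact one_ne_zero (α := F)
          (by linear_combination 2 * (3 * h - 2 * hx' - 2 * h') - h13)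
      · exact h3 (by linear_combination 3 * h - 2 * hx' - 2 * h')
  obtain ⟨a, ha, ha1⟩ : ∃ a ∈ S, f a ^ 2 = 1 := by
    by_contra! hall
    have : 2 * ∑ t ∈ S, f t ^ 2 = 4 := by
      rw [Finset.mul_sum, Finset.sum_congr rfl fun t ht => (hone t ht).resolve_left (hall t ht),
        Finset.sum_const, hS4]
      simp
    rw [hsum] at this
    exact h2 (by linear_combination -this)
  obtain ⟨x, hx, hx1⟩ : ∃ x ∈ S, 2 * f x ^ 2 = 1 := by
    by_contra! hall
    rw [Finset.sum_congr rfl fun t ht => (hone t ht).resolve_right (hall t ht), Finset.sum_const, hS4]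
      at hsum
    exact h3 (by simp at hsum; linear_combination hsum)
  have hxa : x ≠ a := by
    rintro rfl
    exact one_ne_zero (α := F) (by linear_combination hx1 - 2 * ha1)
  rcases hDx a ha x hx hxa with h | h | h
  · exact h2 (by linear_combination -h - 2 * ha1 - 2 * hx1)
  · exact h3 (by linear_combination -h - 2 * ha1 - 2 * hx1)
  · exact one_ne_zero (α := F) (by linear_combination -h - 2 * ha1 - 2 * hx1)

/-- In characteristic three with prime field, vectors of norm one with at most three non-zero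
coordinates are coordinate vectors up to sign. -/
theorem allMono_of_three (hK : Over K) (hq : Fintype.card F = 3) {S : Finset ι} (hS : S.card ≤ 3) :
    AllMono K S := by
  classical
  intro g hg i
  have h01 : ∀ x : F, x ≠ 0 → x * x = 1 := fun x hx => by
    have := FiniteField.pow_card_sub_one_eq_one x hx
    rwa [hq, show 3 - 1 = 2 from rfl, pow_two] at this
  by_cases hi : i ∈ S
  swap
  · exact ⟨i, 1, by rw [hg.1 i hi, one_smul]⟩
  set v := ap g (unitVec i) with hv
  set P := S.filter fun t => v t ≠ 0 with hP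
  have hout : ∀ t, t ∉ S → v t = 0 := fun t ht => by
    rw [hv, inner_fix_coord hK hg ht, unitVec_ne fun e : t = i => ht (e ▸ hi)]
  have hsum : (P.card : F) = 1 := by
    rw [← ap_row_self g i, ← hv, dotProduct, ← Finset.sum_subset (Finset.subset_univ P) (fun t _ ht => by
      by_cases h : t ∈ S
      · rw [show v t = 0 by by_contra h'; exact ht (Finset.mem_filter.2 ⟨h, h'⟩), zero_mul]
      · rw [hout t h, zero_mul]), Finset.card_eq_sum_ones, Nat.cast_sum]
    exact Finset.sum_congr rfl fun t ht => by rw [h01 _ (Finset.mem_filter.1 ht).2]; norm_num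
  have hle : P.card ≤ 3 := (Finset.card_filter_le _ _).trans hS
  have h3 : (3 : F) = 0 := by
    have := Nat.cast_card_eq_zero F
    rw [hq] at this
    exact_mod_cast this
  have h1 : P.card = 1 := by
    have : P.card = 0 ∨ P.card = 1 ∨ P.card = 2 ∨ P.card = 3 := by omega
    rcases this with h | h | h | h <;> rw [h] at hsum <;> push_cast at hsum
    · exact absurd hsum zero_ne_one
    · exact h
    · exact absurd (by linear_combination hsum : (1 : F) = 0) one_ne_zero
    · exact absurd (by linear_combination h3 - hsum : (1 : F) = 0) one_ne_zero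
  obtain ⟨j, hj⟩ := Finset.card_eq_one.1 h1
  refine ⟨j, v j, eq_smul_unitVec fun t ht => ?_⟩
  by_contra h
  by_cases htS : t ∈ S
  · exact ht (Finset.mem_singleton.1 (hj ▸ Finset.mem_filter.2 ⟨htS, h⟩))
  · exact h (hout t htS)

end Cfsg.Agent.Orth.Frame
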