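import Cfsg.Agent.Lib.Orth.Frame.Triple
import Cfsg.Agent.Lib.Orth.Frame.Descent

/-!
# From one non-monomial element of few coordinates to all of `Ω`

* `inR_all_of_five` : all unit reflections, times a sign change, lie in `K` (characteristic `≥ 5`)
* `inR_all_of_three` : the same over the field of three elements
* `omega_le_of_inR` : then `Ω ≤ K`
-/

set_option autoImplicit false
set_option linter.unusedSectionVars false

namespace Cfsg.Agent.Orth.Frame

open Cfsg Matrix Module Cfsg.Agent.Orth
open QuadraticMap (polar)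

variable {ι : Type} [Fintype ι] [DecidableEq ι] {F : Type*} [Field F] [Fintype F]

local notation "Grp" => IsoGrp (sq (ι := ι) (F := F))

variable {K : Subgroup (IsoGrp (sq (ι := ι) (F := F)))}

theorem InR.smul (hK : Over K) {v : ι → F} (h : InR K v) {c : F} (hc : c ≠ 0) : InR K (c • v) :=
  fun m => by rw [refl_smul sq hc]; exact h m

theorem exists_two_squares (h2 : (2 : F) ≠ 0) {A B : F} (hA : A ≠ 0) (hB : B ≠ 0) (d : F) :
    ∃ a b : F, A * a ^ 2 + B * b ^ 2 = d := by
  open Polynomial in
  obtain ⟨a, b, hab⟩ := FiniteField.exists_root_sum_quadratic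
    (f := Polynomial.C A * Polynomial.X ^ 2)
    (g := Polynomial.C B * Polynomial.X ^ 2 - Polynomial.C d)
    (by rw [Polynomial.degree_C_mul_X_pow 2 hA]; rfl)
    (by rw [Polynomial.degree_sub_C (by rw [Polynomial.degree_C_mul_X_pow 2 hB]; norm_num),
          Polynomial.degree_C_mul_X_pow 2 hB]; rfl)
    (FiniteField.odd_card_of_char_ne_two fun h => h2 (by
      have := ringChar.charP F
      have := CharP.cast_eq_zero F (ringChar F)
      rw [h] at this; exact_mod_cast this))
  simp only [Polynomial.eval_mul, Polynomial.eval_sub, Polynomial.eval_C, Polynomial.eval_pow,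
    Polynomial.eval_X] at hab
  exact ⟨a, b, by linear_combination hab⟩

/-- Vectors supported outside `T` are fixed by `inner K T`. -/
theorem inner_fix_vec {T : Finset ι} {g : Grp} (hg : g ∈ inner K T) {x : ι → F}
    (hx : ∀ i ∈ T, x i = 0) : ap g x = x := by
  conv_lhs => rw [eq_sum_unitVec x]
  conv_rhs => rw [eq_sum_unitVec x]
  rw [map_sum]
  refine Finset.sum_congr rfl fun i _ => ?_
  rw [map_smul]
  by_cases hi : i ∈ T
  · rw [hx i hi, zero_smul, zero_smul]
  · rw [hg.1 i hi]

/-- Characteristic at least five. -/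
theorem inR_all_of_five (hK : Over K) (hι : 5 ≤ Fintype.card ι) {p : ℕ} [Fact p.Prime] [CharP F p]
    (hp5 : 5 ≤ p) (hcard : Fintype.card F = p) {T0 : Finset ι} (hT0 : T0.card = 3)
    (hmix : ¬ AllMono K T0) (v : ι → F) (hv : v ⬝ᵥ v = 1) : InR K v := by
  classical
  have h2 := hK.two
  have htr : ∀ T : Finset ι, T.card = 3 → ∀ {u z : ι → F}, u ∈ span3 T → z ∈ span3 T →
      u ⬝ᵥ u ≠ 0 → u ⬝ᵥ u = z ⬝ᵥ z → ∃ g ∈ inner K T, ap g u = z := fun T hT =>
    triple_transitive hK (by omega) hp5 hcard hT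
      (not_allMono_even_image hK (hT0.trans hT.symm) (by omega) hmix)
  have hout : ∀ T : Finset ι, T.card = 3 → ∃ m, m ∉ T := fun T hT => by
    by_contra! hall
    rw [Finset.eq_univ_iff_forall.2 hall, Finset.card_univ] at hT
    omega
  induction hk : (Finset.univ.filter fun i => v i ≠ 0).card using Nat.strong_induction_on
    generalizing v with
  | _ k ih =>
  obtain ⟨S, hS⟩ : ∃ S : Finset ι, S = Finset.univ.filter fun i => v i ≠ 0 := ⟨_, rfl⟩
  have hmS : ∀ i, i ∈ S ↔ v i ≠ 0 := fun i => by simp [hS]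
  rw [← hS] at hk
  rcases le_or_gt S.card 3 with hle | hgt
  · obtain ⟨T, hST, -, hT⟩ := Finset.exists_subsuperset_card_eq (Finset.subset_univ S) hle
      (by rw [Finset.card_univ]; omega)
    obtain ⟨a, ha⟩ := Finset.card_pos.1 (show 0 < T.card by omega)
    have hvT : v ∈ span3 T := fun m hm => by
      by_contra h; exact hm (hST ((hmS m).2 h))
    obtain ⟨g, hg, hgv⟩ := htr T hT (unitVec_mem_span3 ha) hvT
      (by rw [dot_unitVec, unitVec_same]; exact one_ne_zero) (by rw [dot_unitVec, unitVec_same, hv])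
    exact hgv ▸ (inR_unitVec hK a).ap_inner hK (hout T hT) hg
  · obtain ⟨S4, hS4, hS4c⟩ := Finset.exists_subset_card_eq (show 4 ≤ S.card by omega)
    obtain ⟨a, b, c, d, hab, hac, had, hbc, hbd, hcd, hS4e⟩ := Finset.card_eq_four.1 hS4c
    have h3 : (3 : F) ≠ 0 := fun e => by
      have := (CharP.cast_eq_zero_iff F p 3).1 (by exact_mod_cast e)
      exact absurd (Nat.le_of_dvd (by norm_num) this) (by omega)
    obtain ⟨T, hTS, hT, hM⟩ : ∃ T ⊆ S, T.card = 3 ∧ ∑ i ∈ T, v i * v i ≠ 0 := by
      by_contra! hall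
      have hs : ∀ x y z : ι, x ∈ S4 → y ∈ S4 → z ∈ S4 → x ≠ y → x ≠ z → y ≠ z →
          v x * v x + (v y * v y + v z * v z) = 0 := by
        intro x y z hx hy hz hxy hxz hyz
        have := hall {x, y, z} (by
          intro i hi
          simp only [Finset.mem_insert, Finset.mem_singleton] at hi
          rcases hi with rfl | rfl | rfl <;> exact hS4 (by assumption))
          (Finset.card_eq_three.2 ⟨x, y, z, hxy, hxz, hyz, rfl⟩)
        rwa [Finset.sum_insert (by simp [hxy, hxz]), Finset.sum_pair hyz] at this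
      have ha : a ∈ S4 := by rw [hS4e]; simp
      have hb : b ∈ S4 := by rw [hS4e]; simp
      have hc : c ∈ S4 := by rw [hS4e]; simp
      have hd : d ∈ S4 := by rw [hS4e]; simp
      have e1 := hs a b c ha hb hc hab hac hbc
      have e2 := hs a b d ha hb hd hab had hbd
      have e3 := hs a c d ha hc hd hac had hcd
      have e4 := hs b c d hb hc hd hbc hbd hcd
      have h0 : 3 * (v a * v a) = 0 := by linear_combination e1 + e2 + e3 - 2 * e4
      exact (hmS a).1 (hS4 ha) (mul_self_eq_zero.1 ((mul_eq_zero.1 h0).resolve_left h3))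
    obtain ⟨x, y, z, hxy, hxz, hyz, hTe⟩ := Finset.card_eq_three.1 hT
    obtain ⟨u, hu⟩ : ∃ u : ι → F, u = fun i => if i ∈ T then v i else 0 := ⟨_, rfl⟩
    obtain ⟨r, s, hrs⟩ := exists_two_squares h2 one_ne_zero one_ne_zero (∑ i ∈ T, v i * v i)
    have hxT : x ∈ T := by rw [hTe]; simp
    have hyT : y ∈ T := by rw [hTe]; simp
    have hzT : z ∈ T := by rw [hTe]; simp
    have huu : u ⬝ᵥ u = ∑ i ∈ T, v i * v i := by
      simp [hu, dotProduct, Finset.sum_ite_mem]
    obtain ⟨w, hw⟩ : ∃ w : ι → F, w = r • unitVec x + s • unitVec y := ⟨_, rfl⟩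
    have hww : w ⬝ᵥ w = ∑ i ∈ T, v i * v i := by
      simp only [hw, dotProduct_add, dotProduct_smul, dot_unitVec, Pi.add_apply, Pi.smul_apply,
        smul_eq_mul, unitVec_same, unitVec_ne hxy, unitVec_ne hxy.symm]
      linear_combination hrs
    obtain ⟨g, hg, hgu⟩ := htr T hT (u := u) (z := w) (fun m hm => by simp [hu, hm])
      (hw ▸ add_mem (Submodule.smul_mem _ _ (unitVec_mem_span3 hxT))
        (Submodule.smul_mem _ _ (unitVec_mem_span3 hyT))) (huu ▸ hM) (huu.trans hww.symm)
    have hgv : ap g v = w + (v - u) := by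
      conv_lhs => rw [show v = u + (v - u) by abel, map_add, hgu]
      rw [inner_fix_vec hg fun i hi => by simp [hu, hi]]
    have hzero : ∀ i, v i = 0 → ap g v i = 0 := fun i hi => by
      have hix : i ≠ x := fun e => (hmS x).1 (hTS hxT) (e ▸ hi)
      have hiy : i ≠ y := fun e => (hmS y).1 (hTS hyT) (e ▸ hi)
      simp [hgv, hw, hu, hi, unitVec_ne hix, unitVec_ne hiy]
    have hlt : (Finset.univ.filter fun i => ap g v i ≠ 0).card < k := by
      rw [← hk]
      refine Finset.card_lt_card ((Finset.ssubset_iff_of_subset fun i hi => ?_).2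
        ⟨z, hTS hzT, ?_⟩)
      · exact (hmS i).2 fun e => (Finset.mem_filter.1 hi).2 (hzero i e)
      · simp [hgv, hw, hu, hzT, unitVec_ne hxz.symm, unitVec_ne hyz.symm]
    have := (ih _ hlt (ap g v) (by rw [dot_ap_self, hv]) rfl).ap_inner hK (hout T hT) (inv_mem hg)
    rwa [ap_inv_ap] at this

/-- The field of three elements. -/
theorem inR_all_of_three (hK : Over K) (hι : 5 ≤ Fintype.card ι) (hq : Fintype.card F = 3)
    {S : Finset ι} (hS : S.card = 4) (hmix : ¬ AllMono K S) (v : ι → F) (hv : v ⬝ᵥ v = 1) :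
    InR K v := by
  classical
  have h2 := hK.two
  have : Fact (Nat.Prime 3) := ⟨Nat.prime_three⟩
  have hC : CharP F 3 := charP_of_card_eq_prime hq
  have h3 : (3 : F) = 0 := by exact_mod_cast CharP.cast_eq_zero F 3
  have h01 : ∀ x : F, x ≠ 0 → x * x = 1 := fun x hx => by
    have := FiniteField.pow_card_sub_one_eq_one x hx
    rwa [hq, show 3 - 1 = 2 from rfl, pow_two] at this
  obtain ⟨g, hg, hgm⟩ : ∃ g ∈ inner K S, ¬ Mono g := by simpa [AllMono] using hmix
  have hSout : ∃ m, m ∉ S := by
    by_contra! hall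
    rw [Finset.eq_univ_iff_forall.2 hall, Finset.card_univ] at hS
    omega
  obtain ⟨f, hff, hfS, hfull⟩ := exists_full hK hSout (by omega)
    (fun i hi => allMono_of_three hK hq (by rw [Finset.card_erase_of_mem hi, hS])) hg hgm
  have hf0 : ∀ m, m ∉ S → f m = 0 := fun m => support_inner hK hff hfS
  have hfR : InR K f := inR_of_inner hK hSout (by rw [sq_apply, hff]; exact one_ne_zero) hfS
  -- all vectors with four non-zero coordinates
  have hfour : ∀ h : ι → F, (Finset.univ.filter fun i => h i ≠ 0).card = 4 → InR K h := by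
    intro h hh
    obtain ⟨π, hπ, he⟩ := exists_even_image hK (hS.trans hh.symm) (by omega)
    obtain ⟨f', hf'⟩ : ∃ f', f' = ap (permIso π : Grp) f := ⟨_, rfl⟩
    have hfl : ∀ D : Finset ι, InR K fun i => if i ∈ D then -f' i else f' i := fun D => by
      induction D using Finset.induction with
      | empty => simpa [hf'] using hfR.perm hπ
      | insert a D ha ih =>
        convert ih.sgn hK a using 1
        funext i
        rw [sgn_coord]
        by_cases hia : i = a
        · subst hia; simp [ha]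
        · simp [hia]
    convert hfl (Finset.univ.filter fun i => h i ≠ f' i) using 1
    funext i
    simp only [Finset.mem_filter, Finset.mem_univ, true_and]
    obtain ⟨j, rfl⟩ := π.surjective i
    rw [hf', permIso_coord]
    split_ifs with hne
    · by_cases hj : j ∈ S
      · have hhj : h (π j) ≠ 0 := by
          have hmem := Finset.mem_image_of_mem π hj
          rw [he] at hmem
          exact (Finset.mem_filter.1 hmem).2
        exact (mul_self_eq_mul_self_iff.1 ((h01 _ hhj).trans (h01 _ (hfull j hj)).symm)).resolve_left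
          hne
      · refine absurd ?_ hne
        rw [hf0 j hj]
        by_contra hhj
        have hmem : π j ∈ S.image π := he ▸ Finset.mem_filter.2 ⟨Finset.mem_univ _, hhj⟩
        obtain ⟨k, hk, hkj⟩ := Finset.mem_image.1 hmem
        exact hj (π.injective hkj ▸ hk)
    · exact not_not.1 hne
  induction hk : (Finset.univ.filter fun i => v i ≠ 0).card using Nat.strong_induction_on
    generalizing v with
  | _ k ih =>
  obtain ⟨U, hU⟩ : ∃ U : Finset ι, U = Finset.univ.filter fun i => v i ≠ 0 := ⟨_, rfl⟩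
  have hmU : ∀ i, i ∈ U ↔ v i ≠ 0 := fun i => by simp [hU]
  rw [← hU] at hk
  have hsum : (U.card : F) = 1 := by
    rw [← hv, dotProduct, ← Finset.sum_subset (Finset.subset_univ U) (fun i _ hi => by
      rw [not_not.1 fun h => hi ((hmU i).2 h), mul_zero]),
      Finset.sum_congr rfl fun i hi => h01 _ ((hmU i).1 hi), Finset.sum_const, nsmul_eq_mul, mul_one]
  rcases lt_or_ge U.card 4 with hlt | hge
  · interval_cases hc : U.card
    · exact absurd hsum (by simp)
    · obtain ⟨i, hi⟩ := Finset.card_eq_one.1 hc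
      rw [eq_smul_unitVec (x := v) (j := i) fun m hm => by
        by_contra h; exact hm (by simpa [hi] using (hmU m).2 h)]
      exact (inR_unitVec hK i).smul hK ((hmU i).1 (by simp [hi]))
    · exact absurd hsum fun e => one_ne_zero (by push_cast at e; linear_combination e)
    · exact absurd hsum fun e => one_ne_zero (by push_cast at e; linear_combination h3 - e)
  · obtain ⟨U4, hU4, hU4c⟩ := Finset.exists_subset_card_eq hge
    obtain ⟨d, hd⟩ := Finset.card_pos.1 (show 0 < U4.card by omega)
    obtain ⟨h, hh⟩ : ∃ h : ι → F, h = fun i => if i ∈ U4 then (if i = d then -v i else v i) else 0 :=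
      ⟨_, rfl⟩
    have hh4 : (Finset.univ.filter fun i => h i ≠ 0) = U4 := by
      ext i
      simp only [Finset.mem_filter, Finset.mem_univ, true_and, hh]
      by_cases hi : i ∈ U4
      · have := (hmU i).1 (hU4 hi)
        simp [hi]; split_ifs <;> simpa using this
      · simp [hi]
    have hhR := hfour h (hh4 ▸ hU4c)
    have hhh : h ⬝ᵥ h = 1 := by
      simp only [hh, dotProduct, mul_ite, mul_zero]
      rw [Finset.sum_congr rfl fun i _ => (show _ = if i ∈ U4 then (1 : F) else 0 by
        by_cases hi : i ∈ U4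
        · have := h01 _ ((hmU i).1 (hU4 hi))
          simp [hi]; split_ifs <;> simpa using this
        · simp [hi])]
      rw [Finset.sum_ite_mem, Finset.univ_inter, Finset.sum_const, hU4c, nsmul_eq_mul, mul_one]
      push_cast; linear_combination h3
    have hhv : h ⬝ᵥ v = 2 := by
      simp only [hh, dotProduct, ite_mul, zero_mul]
      rw [Finset.sum_ite_mem, Finset.univ_inter, ← Finset.insert_erase hd,
        Finset.sum_insert (Finset.notMem_erase _ _), if_pos rfl, neg_mul, h01 _ ((hmU d).1 (hU4 hd)),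
        Finset.sum_congr rfl fun i hi => by
          rw [if_neg (Finset.ne_of_mem_erase hi), h01 _ ((hmU i).1 (hU4 (Finset.mem_of_mem_erase hi)))],
        Finset.sum_const, Finset.card_erase_of_mem hd, hU4c, nsmul_eq_mul, mul_one]
      push_cast; ring
    have hrv : ap (refl sq h) v = v - h := by
      rw [refl_ap_unit hhh, hhv, show (2 * 2 : F) = 1 by linear_combination h3, one_smul]
    have hlt : (Finset.univ.filter fun i => ap (refl sq h) v i ≠ 0).card < k := by
      obtain ⟨e, he, hed⟩ := Finset.exists_mem_ne (show 1 < U4.card by omega) d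
      rw [← hk]
      refine Finset.card_lt_card ((Finset.ssubset_iff_of_subset fun i hi => ?_).2 ⟨e, hU4 he, ?_⟩)
      · refine (hmU i).2 fun h0 => (Finset.mem_filter.1 hi).2 ?_
        have : i ∉ U4 := fun h' => (hmU i).1 (hU4 h') h0
        rw [hrv]; simp [hh, this, h0]
      · simp only [Finset.mem_filter, Finset.mem_univ, true_and, not_not]
        rw [hrv]; simp [hh, he, hed]
    have := inR_refl hhR (ih _ hlt _ (by rw [dot_ap_self, hv]) rfl)
    rwa [refl_ap_ap] at this

/-- In more than `2 k` dimensions some non-singular vector is orthogonal to `k` given ones. -/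
theorem exists_perp_nonsingular (h2 : (2 : F) ≠ 0) {k : ℕ} (hk : 2 * k < Fintype.card ι)
    (f : Fin k → ι → F) : ∃ x : ι → F, (∀ j, f j ⬝ᵥ x = 0) ∧ x ⬝ᵥ x ≠ 0 := by
  by_contra! hall
  have hspan : finrank F (Submodule.span F (Set.range f)) ≤ k := by
    simpa [Set.finrank] using finrank_range_le_card (R := F) f
  have hperp : perpSub sq (Submodule.span F (Set.range f)) ≤
      perpSub sq (perpSub sq (Submodule.span F (Set.range f))) := by
    intro x hx y hy
    have hmem : ∀ z ∈ perpSub (sq (ι := ι) (F := F)) (Submodule.span F (Set.range f)), z ⬝ᵥ z = 0 :=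
      fun z hz => hall z fun j => by
        have := hz (f j) (Submodule.subset_span ⟨j, rfl⟩)
        change polar _ (f j) z = 0 at this
        rw [polar_sq] at this
        exact (mul_eq_zero.1 this).resolve_left h2
    show polar _ y x = 0
    have h := hmem _ (add_mem hx hy)
    rw [add_dotProduct, dotProduct_add, dotProduct_add, hmem x hx, hmem y hy, dotProduct_comm x y]
      at h
    rw [polar_sq]
    linear_combination h
  have h := Submodule.finrank_mono hperp
  rw [perpSub_perpSub (sq_nd h2), finrank_perpSub (sq_nd h2)] at h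
  omega

/-- In at least five dimensions some non-singular vector is orthogonal to an orthogonal pair of
non-singular vectors and to any third vector. -/
theorem exists_third_nonsingular (h2 : (2 : F) ≠ 0) (hι : 5 ≤ Fintype.card ι) {u v z : ι → F}
    (hu : u ⬝ᵥ u ≠ 0) (hz : z ⬝ᵥ z ≠ 0) (huz : u ⬝ᵥ z = 0) :
    ∃ x : ι → F, (∀ j, ![u, v, z] j ⬝ᵥ x = 0) ∧ x ⬝ᵥ x ≠ 0 := by
  by_contra! hall
  obtain ⟨U, hU⟩ : ∃ U, U = Submodule.span F (Set.range ![u, v, z]) := ⟨_, rfl⟩
  have hdimU : finrank F U ≤ 3 := by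
    rw [hU]; simpa [Set.finrank] using finrank_range_le_card (R := F) ![u, v, z]
  have hmem : ∀ x ∈ perpSub (sq (ι := ι) (F := F)) U, (∀ y ∈ U, y ⬝ᵥ x = 0) ∧ x ⬝ᵥ x = 0 := by
    intro x hx
    have h1 : ∀ y ∈ U, y ⬝ᵥ x = 0 := fun y hy => by
      have := hx y hy
      change polar _ y x = 0 at this
      rw [polar_sq] at this
      exact (mul_eq_zero.1 this).resolve_left h2
    exact ⟨h1, hall x fun j => h1 _ (hU ▸ Submodule.subset_span ⟨j, rfl⟩)⟩
  have hle : perpSub sq U ≤ U := by
    intro x hx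
    rw [← perpSub_perpSub (sq_nd h2) U]
    intro y hy
    show polar _ y x = 0
    have h := (hmem _ (add_mem hx hy)).2
    rw [add_dotProduct, dotProduct_add, dotProduct_add, (hmem x hx).2, (hmem y hy).2,
      dotProduct_comm x y] at h
    rw [polar_sq]
    linear_combination h
  obtain ⟨P, hP⟩ : ∃ P, P = Submodule.span F (Set.range ![u, z]) := ⟨_, rfl⟩
  have hPU : P ≤ U := by
    rw [hP, hU, Submodule.span_le]
    rintro _ ⟨j, rfl⟩
    fin_cases j
    · exact Submodule.subset_span ⟨0, rfl⟩
    · exact Submodule.subset_span ⟨2, rfl⟩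
  have hli : LinearIndependent F ![u, z] := LinearIndependent.pair_iff.2 fun s t h => by
    have e1 := congrArg (u ⬝ᵥ ·) h
    have e2 := congrArg (z ⬝ᵥ ·) h
    simp [huz, dotProduct_comm z u, hu, hz] at e1 e2
    exact ⟨e1, e2⟩
  have hdP : finrank F P = 2 := by rw [hP, finrank_span_eq_card hli]; simp
  have hdisj : perpSub sq U ⊓ P = ⊥ := by
    rw [eq_bot_iff]
    rintro x ⟨hxW, hxP⟩
    obtain ⟨c, rfl⟩ := (Submodule.mem_span_range_iff_exists_fun F).1 (hP ▸ hxP)
    have e1 := (hmem _ hxW).1 u (hPU (hP ▸ Submodule.subset_span ⟨0, rfl⟩))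
    have e2 := (hmem _ hxW).1 z (hPU (hP ▸ Submodule.subset_span ⟨1, rfl⟩))
    simp [Fin.sum_univ_two, huz, dotProduct_comm z u, hu, hz] at e1 e2
    simp [Fin.sum_univ_two, e1, e2]
  have h1 := Submodule.finrank_sup_add_finrank_inf_eq (perpSub sq U) P
  rw [hdisj, finrank_bot, hdP, finrank_perpSub (sq_nd h2)] at h1
  have h3 := Submodule.finrank_mono (sup_le hle hPU)
  omega

theorem refl_pair_eq (h2 : (2 : F) ≠ 0) {u v : ι → F} {d a b : F} (hu : u ⬝ᵥ u = d)
    (hv : v ⬝ᵥ v = d) (huv : u ⬝ᵥ v = 0) (hab : (a ^ 2 + b ^ 2) * d = 1) :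
    refl sq u * refl sq v =
      (refl sq (a • u + b • v) * refl sq ((-b) • u + a • v) : Grp) := by
  have hd : d ≠ 0 := fun e => one_ne_zero (by rw [← hab, e, mul_zero])
  refine ext_ap fun x => ?_
  have h1 : (a • u + b • v) ⬝ᵥ (a • u + b • v) = 1 := by
    simp only [add_dotProduct, dotProduct_add, smul_dotProduct, dotProduct_smul, smul_eq_mul, hu, hv,
      huv, dotProduct_comm v u]
    linear_combination hab
  have h3 : ((-b) • u + a • v) ⬝ᵥ ((-b) • u + a • v) = 1 := by
    simp only [add_dotProduct, dotProduct_add, smul_dotProduct, dotProduct_smul, smul_eq_mul, hu, hv,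
      huv, dotProduct_comm v u]
    linear_combination hab
  rw [ap_mul, ap_mul, refl_ap_dot u, refl_ap_dot v, refl_ap_unit h1, refl_ap_unit h3, hu, hv]
  simp only [dotProduct_sub, dotProduct_smul, add_dotProduct, smul_dotProduct, dotProduct_add,
    smul_eq_mul, hu, hv, huv, dotProduct_comm v u]
  have e : d⁻¹ = a ^ 2 + b ^ 2 := inv_eq_of_mul_eq_one_left hab
  simp only [div_eq_mul_inv, e]
  match_scalars <;> ring_nf

/-- All unit reflections, times a sign change, in `K`: then `Ω ≤ K`. -/
theorem omega_le_of_inR (hK : Over K) (hι : 5 ≤ Fintype.card ι)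
    (hR : ∀ v : ι → F, v ⬝ᵥ v = 1 → InR K v) : Omega F ⇑(sq (ι := ι) (F := F)) ≤ K := by
  classical
  have h2 := hK.two
  have hG := good_sq (ι := ι) h2
  set R : Set Grp := {r | ∃ v : ι → F, v ⬝ᵥ v = 1 ∧ r = refl sq v} with hRdef
  have hN : (Subgroup.closure R).Normal := by
    refine ⟨fun n hn g => ?_⟩
    induction hn using Subgroup.closure_induction with
    | mem x hx =>
      obtain ⟨v, hv, rfl⟩ := hx
      exact Subgroup.subset_closure ⟨ap g v, by rw [dot_ap_self, hv], conj_refl g v⟩
    | one => simp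
    | mul x y _ _ hx hy =>
      have : g * (x * y) * g⁻¹ = g * x * g⁻¹ * (g * y * g⁻¹) := by group
      rw [this]; exact mul_mem hx hy
    | inv x _ hx =>
      have : g * x⁻¹ * g⁻¹ = (g * x * g⁻¹)⁻¹ := by group
      rw [this]; exact inv_mem hx
  set N := Subgroup.closure R with hNdef
  have hsq : ∀ u : ι → F, sq u ≠ 0 → IsSquare (sq u) → refl sq u ∈ N := by
    intro u hu hs
    obtain ⟨t, ht⟩ := hs
    have ht0 : t ≠ 0 := fun e => hu (by rw [ht, e, mul_zero])
    refine Subgroup.subset_closure ⟨t⁻¹ • u, ?_, (refl_smul sq (inv_ne_zero ht0) u).symm⟩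
    rw [← sq_apply, Q_smul, ht]; field_simp
  have horth : ∀ (d : F) (u v : ι → F), d ≠ 0 → u ⬝ᵥ u = d → v ⬝ᵥ v = d → u ⬝ᵥ v = 0 →
      refl sq u * refl sq v ∈ N := by
    intro d u v hd hu hv huv
    obtain ⟨a, b, hab⟩ := exists_two_squares h2 hd hd 1
    have hab' : (a ^ 2 + b ^ 2) * d = 1 := by linear_combination hab
    rw [refl_pair_eq h2 hu hv huv hab']
    refine mul_mem (Subgroup.subset_closure ⟨_, ?_, rfl⟩) (Subgroup.subset_closure ⟨_, ?_, rfl⟩) <;>
      simp only [add_dotProduct, dotProduct_add, smul_dotProduct, dotProduct_smul, smul_eq_mul, hu,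
        hv, huv, dotProduct_comm v u] <;>
      linear_combination hab'
  have hpair : ∀ (d : F) (u v : ι → F), d ≠ 0 → u ⬝ᵥ u = d → v ⬝ᵥ v = d →
      refl sq u * refl sq v ∈ N := by
    intro d u v hd hu hv
    obtain ⟨z0, hz0, hz0'⟩ := exists_perp_nonsingular h2 (k := 2) (by omega) ![u, v]
    obtain ⟨z1, hz1, hz1'⟩ := exists_third_nonsingular h2 hι (v := v) (hu.trans_ne hd) hz0'
      (hz0 0)
    have a0 : u ⬝ᵥ z0 = 0 := hz0 0
    have a1 : v ⬝ᵥ z0 = 0 := hz0 1
    have b0 : u ⬝ᵥ z1 = 0 := hz1 0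
    have b1 : v ⬝ᵥ z1 = 0 := hz1 1
    have b2 : z0 ⬝ᵥ z1 = 0 := hz1 2
    obtain ⟨a, b, hab⟩ := exists_two_squares h2 hz0' hz1' d
    obtain ⟨z, hz⟩ : ∃ z : ι → F, z = a • z0 + b • z1 := ⟨_, rfl⟩
    have hzz : z ⬝ᵥ z = d := by
      simp only [hz, add_dotProduct, dotProduct_add, smul_dotProduct, dotProduct_smul, smul_eq_mul,
        b2, dotProduct_comm z1 z0]
      linear_combination hab
    have huz : u ⬝ᵥ z = 0 := by simp [hz, dotProduct_add, a0, b0]
    have hvz : z ⬝ᵥ v = 0 := by rw [dotProduct_comm]; simp [hz, dotProduct_add, a1, b1]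
    have := mul_mem (horth d u z hd hu hzz huz) (horth d z v hd hzz hv hvz)
    rwa [mul_assoc, ← mul_assoc (refl sq z), refl_mul_self, one_mul] at this
  have hcomm : Omega F ⇑(sq (ι := ι) (F := F)) ≤ N := by
    refine commutator_le_of_refl hG N fun u v hu hv => ?_
    by_cases hsu : IsSquare (sq u)
    · rw [mul_assoc, mul_assoc, ← mul_assoc (refl sq v)]
      refine mul_mem (hsq u hu hsu) ?_
      have := hN.conj_mem _ (hsq u hu hsu) (refl sq v)
      rwa [refl_inv] at this
    by_cases hsv : IsSquare (sq v)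
    · refine mul_mem ?_ (hsq v hv hsv)
      have := hN.conj_mem _ (hsq v hv hsv) (refl sq u)
      rwa [refl_inv] at this
    obtain ⟨t, ht⟩ : IsSquare (sq u / sq v) := by
      refine (quadraticChar_one_iff_isSquare (div_ne_zero hu hv)).1 ?_
      have e1 := quadraticChar_neg_one_iff_not_isSquare.2 hsu
      have e2 := quadraticChar_neg_one_iff_not_isSquare.2 hsv
      have := map_mul (quadraticChar F) (sq u / sq v) (sq v)
      rw [div_mul_cancel₀ _ hv, e1, e2, mul_neg, mul_one] at this
      exact neg_injective this.symm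
    have ht0 : t ≠ 0 := fun e => div_ne_zero hu hv (by rw [ht, e, mul_zero])
    have huv : refl sq u * refl sq v ∈ N := by
      rw [← refl_smul sq ht0 v]
      refine hpair (sq u) u (t • v) hu (sq_apply u).symm ?_
      rw [← sq_apply, Q_smul, ← ht, div_mul_cancel₀ _ hv]
    rw [mul_assoc (refl sq u * refl sq v)]
    exact mul_mem huv huv
  obtain ⟨m⟩ : Nonempty ι := Fintype.card_pos_iff.1 (by omega)
  intro g hg
  have key : ∀ n ∈ N, (n ∈ K ∧ sgn m * n * sgn m ∈ K) ∨ (n * sgn m ∈ K ∧ sgn m * n ∈ K) := by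
    intro n hn
    induction hn using Subgroup.closure_induction_left with
    | one => exact .inl ⟨K.one_mem, by rw [mul_one, sgn_mul_self]; exact K.one_mem⟩
    | mul_left x hx y _ ih =>
      obtain ⟨v, hv, rfl⟩ := hx
      have h1 := hR v hv m
      have h3 : sgn m * refl sq v ∈ K := by simpa [sgn_inv] using K.inv_mem h1
      rcases ih with ⟨hy1, hy2⟩ | ⟨hy1, hy2⟩
      · right
        refine ⟨?_, by rw [← mul_assoc]; exact K.mul_mem h3 hy1⟩
        have := K.mul_mem h1 hy2
        rwa [mul_assoc, ← mul_assoc (sgn m), ← mul_assoc (sgn m), sgn_mul_self, one_mul,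
          ← mul_assoc] at this
      · left
        refine ⟨?_, by rw [← mul_assoc, mul_assoc]; exact K.mul_mem h3 hy1⟩
        have := K.mul_mem h1 hy2
        rwa [mul_assoc, ← mul_assoc (sgn m), sgn_mul_self, one_mul] at this
    | inv_mul_cancel x hx y _ ih =>
      obtain ⟨v, hv, rfl⟩ := hx
      rw [refl_inv]
      have h1 := hR v hv m
      have h3 : sgn m * refl sq v ∈ K := by simpa [sgn_inv] using K.inv_mem h1
      rcases ih with ⟨hy1, hy2⟩ | ⟨hy1, hy2⟩
      · right
        refine ⟨?_, by rw [← mul_assoc]; exact K.mul_mem h3 hy1⟩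
        have := K.mul_mem h1 hy2
        rwa [mul_assoc, ← mul_assoc (sgn m), ← mul_assoc (sgn m), sgn_mul_self, one_mul,
          ← mul_assoc] at this
      · left
        refine ⟨?_, by rw [← mul_assoc, mul_assoc]; exact K.mul_mem h3 hy1⟩
        have := K.mul_mem h1 hy2
        rwa [mul_assoc, ← mul_assoc (sgn m), sgn_mul_self, one_mul] at this
  rcases key g (hcomm hg) with h | h
  · exact h.1
  · have h' := ((mem_omega_iff hG _).1 (hK.le h.1)).1
    rw [dick_mul hG, ((mem_omega_iff hG g).1 hg).1, dick_sgn h2] at h'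
    norm_num at h'

end Cfsg.Agent.Orth.Frame
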