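import Cfsg.Agent.Lib.Orth.Frame.Axes

/-!
# Sign changes on a set of coordinates; images of coordinate planes

* `Flip Q d` : `d` changes the signs of the coordinates in `Q`
* `plane g p q` : the image of the plane of two coordinates; `plane_decomp`, `plane_zero_at`
* `cd` : an element keeping two coordinate vectors away from a coordinate
-/

set_option autoImplicit false
set_option linter.unusedSectionVars false

namespace Cfsg.Agent.Orth.Frame

open Cfsg Matrix Module Cfsg.Agent.Orth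
open QuadraticMap (polar)
open scoped Classical

variable {ι : Type} [Fintype ι] [DecidableEq ι] {F : Type*} [Field F] [Fintype F]

local notation "Grp" => IsoGrp (sq (ι := ι) (F := F))

/-- `d` changes exactly the signs of the coordinates in `Q`. -/
def Flip (Q : Finset ι) (d : IsoGrp (sq (ι := ι) (F := F))) : Prop :=
  ∀ (x : ι → F) (m : ι), ap d x m = if m ∈ Q then -x m else x m

theorem flip_pair {i j : ι} (hij : i ≠ j) : Flip {i, j} (sgn i * sgn j : Grp) := fun x m => by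
  rw [ap_mul, sgn_coord, sgn_coord]
  simp only [Finset.mem_insert, Finset.mem_singleton]
  rcases eq_or_ne m i with rfl | h1
  · simp [hij]
  · simp [h1]

theorem Flip.mul {Q Q' : Finset ι} {d d' : Grp} (hd : Flip Q d) (hd' : Flip Q' d')
    (h : Disjoint Q Q') : Flip (Q ∪ Q') (d * d') := fun x m => by
  rw [ap_mul, hd, hd']
  by_cases h1 : m ∈ Q
  · simp [h1, Finset.disjoint_left.1 h h1]
  · simp [h1]

variable {Q : Finset ι} {d : IsoGrp (sq (ι := ι) (F := F))}

theorem Flip.mul_self (hd : Flip Q d) : d * d = 1 := ext_ap fun x => funext fun m => by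
  rw [ap_mul, hd, hd, ap_one]
  split_ifs <;> simp

theorem Flip.neg_iff (h2 : (2 : F) ≠ 0) (hd : Flip Q d) (x : ι → F) :
    ap d x = -x ↔ x ∈ span3 Q := by
  constructor
  · intro h m hm
    have := congrFun h m
    rw [hd, if_neg hm, Pi.neg_apply] at this
    exact (mul_eq_zero.1 (show 2 * x m = 0 by linear_combination this)).resolve_left h2
  · intro h
    funext m
    rw [hd, Pi.neg_apply]
    split_ifs with hm
    · rfl
    · rw [h m hm, neg_zero]

theorem Flip.fix_iff (h2 : (2 : F) ≠ 0) (hd : Flip Q d) (x : ι → F) :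
    ap d x = x ↔ ∀ m ∈ Q, x m = 0 := by
  constructor
  · intro h m hm
    have := congrFun h m
    rw [hd, if_pos hm] at this
    exact (mul_eq_zero.1 (show 2 * x m = 0 by linear_combination -this)).resolve_left h2
  · intro h
    funext m
    rw [hd]
    split_ifs with hm
    · rw [h m hm, neg_zero]
    · rfl

theorem Flip.resSpace_eq (h2 : (2 : F) ≠ 0) (hd : Flip Q d) : resSpace d = span3 Q :=
  Submodule.ext fun x => ⟨fun h => (hd.neg_iff h2 x).1 (neg_of_mem_resSpace hd.mul_self h),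
    fun h => mem_resSpace_of_neg h2 ((hd.neg_iff h2 x).2 h)⟩

theorem Flip.finrank (h2 : (2 : F) ≠ 0) (hd : Flip Q d) : finrank F (resSpace d) = Q.card := by
  rw [hd.resSpace_eq h2, finrank_span3]

theorem Flip.ne_one (h2 : (2 : F) ≠ 0) (hd : Flip Q d) (hQ : Q.Nonempty) : d ≠ 1 := by
  rintro rfl
  obtain ⟨m, hm⟩ := hQ
  have := ((hd.fix_iff h2 _).1 (ap_one (unitVec m))) m hm
  simp [unitVec_same] at this

/-- The image of the plane of the coordinates `p`, `q`. -/
noncomputable def plane (g : IsoGrp (sq (ι := ι) (F := F))) (p q : ι) : Submodule F (ι → F) :=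
  (span3 {p, q}).map (ap g)

theorem mem_plane_iff {g : Grp} {p q : ι} {x : ι → F} :
    x ∈ plane g p q ↔ ap g⁻¹ x ∈ span3 {p, q} :=
  ⟨fun ⟨y, hy, e⟩ => by rw [← e, ap_inv_ap]; exact hy, fun h => ⟨_, h, ap_ap_inv g x⟩⟩

theorem plane_fst (g : Grp) (p q : ι) : ap g (unitVec p) ∈ plane g p q :=
  ⟨_, unitVec_mem_span3 (by simp), rfl⟩

theorem plane_snd (g : Grp) (p q : ι) : ap g (unitVec q) ∈ plane g p q :=
  ⟨_, unitVec_mem_span3 (by simp), rfl⟩

theorem finrank_plane (g : Grp) {p q : ι} (hpq : p ≠ q) : finrank F (plane g p q) = 2 := by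
  rw [plane, (Submodule.equivMapOfInjective (ap g) (fun _ _ e => ap_inj g e) _).finrank_eq.symm,
    finrank_span3, Finset.card_pair hpq]

theorem plane_coord {g : Grp} {p q : ι} (hpq : p ≠ q) {x : ι → F} (hx : x ∈ plane g p q) :
    x = (ap g⁻¹ x p) • ap g (unitVec p) + (ap g⁻¹ x q) • ap g (unitVec q) := by
  refine ap_inj g⁻¹ ?_
  rw [map_add, map_smul, map_smul, ap_inv_ap, ap_inv_ap]
  funext m
  by_cases h1 : m = p
  · subst h1; simp [unitVec_same, unitVec_ne hpq]
  by_cases h3 : m = q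
  · subst h3; simp [unitVec_same, unitVec_ne hpq.symm]
  · simp [unitVec_ne h1, unitVec_ne h3, (mem_plane_iff.1 hx) m (by simp [h1, h3])]

/-- Two independent vectors of a plane generate it. -/
theorem plane_decomp {g : Grp} {p q : ι} (hpq : p ≠ q) {u y : ι → F} (hu : u ∈ plane g p q)
    (hy : y ∈ plane g p q) (hu0 : u ≠ 0) (hne : ∀ k : F, y ≠ k • u) :
    ∀ x ∈ plane g p q, ∃ k m : F, x = k • u + m • y := by
  intro x hx
  obtain ⟨u1, u2, eu⟩ : ∃ u1 u2 : F, u = u1 • ap g (unitVec p) + u2 • ap g (unitVec q) :=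
    ⟨_, _, plane_coord hpq hu⟩
  obtain ⟨y1, y2, ey⟩ : ∃ y1 y2 : F, y = y1 • ap g (unitVec p) + y2 • ap g (unitVec q) :=
    ⟨_, _, plane_coord hpq hy⟩
  obtain ⟨x1, x2, ex⟩ : ∃ x1 x2 : F, x = x1 • ap g (unitVec p) + x2 • ap g (unitVec q) :=
    ⟨_, _, plane_coord hpq hx⟩
  obtain ⟨D, hD⟩ : ∃ D : F, D = u1 * y2 - u2 * y1 := ⟨_, rfl⟩
  have hD0 : D ≠ 0 := by
    intro h
    rw [hD] at h
    by_cases h1 : u1 = 0
    · have h3 : u2 ≠ 0 := fun e => hu0 (by rw [eu, h1, e]; simp)
      refine hne (y2 / u2) ?_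
      rw [h1, zero_mul, zero_sub, neg_eq_zero, mul_eq_zero] at h
      rw [ey, eu, h1, h.resolve_left h3, smul_add, smul_smul, smul_smul, div_mul_cancel₀ _ h3,
        mul_zero]
    · refine hne (y1 / u1) ?_
      rw [ey, eu, smul_add, smul_smul, smul_smul, div_mul_cancel₀ _ h1]
      congr 2
      field_simp
      linear_combination h
  refine ⟨(x1 * y2 - x2 * y1) / D, (u1 * x2 - u2 * x1) / D, ?_⟩
  rw [ex, eu, ey]
  match_scalars <;> field_simp <;> rw [hD] <;> ring

theorem dot_plane (h2 : (2 : F) ≠ 0) {g : Grp} {p q : ι} (hpq : p ≠ q) {u y : ι → F}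
    (hu : u ∈ plane g p q) :
    u ⬝ᵥ y = ap g⁻¹ u p * ap g⁻¹ y p + ap g⁻¹ u q * ap g⁻¹ y q := by
  rw [← dot_ap h2 g⁻¹, dotProduct, ← Finset.sum_subset (Finset.subset_univ {p, q})
    (fun m _ hm => by rw [(mem_plane_iff.1 hu) m hm, zero_mul]), Finset.sum_pair hpq]

/-- Orthogonal independent vectors of a plane are non-singular. -/
theorem plane_nonsingular (h2 : (2 : F) ≠ 0) {g : Grp} {p q : ι} (hpq : p ≠ q) {u y : ι → F}
    (hu : u ∈ plane g p q) (hy : y ∈ plane g p q) (hu0 : u ≠ 0) (hne : ∀ k : F, y ≠ k • u)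
    (huy : u ⬝ᵥ y = 0) : u ⬝ᵥ u ≠ 0 := by
  intro huu
  obtain ⟨k, m, hk⟩ := plane_decomp hpq hu hy hu0 hne _ (plane_fst g p q)
  obtain ⟨k', m', hk'⟩ := plane_decomp hpq hu hy hu0 hne _ (plane_snd g p q)
  have hp : u ⬝ᵥ ap g (unitVec p) = 0 := by
    rw [hk, dotProduct_add, dotProduct_smul, dotProduct_smul, huu, huy]; simp
  have hq : u ⬝ᵥ ap g (unitVec q) = 0 := by
    rw [hk', dotProduct_add, dotProduct_smul, dotProduct_smul, huu, huy]; simp
  rw [dot_plane h2 hpq hu, ap_inv_ap, unitVec_same, unitVec_ne hpq.symm, mul_one, mul_zero,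
    add_zero] at hp
  rw [dot_plane h2 hpq hu, ap_inv_ap, unitVec_same, unitVec_ne hpq, mul_one, mul_zero,
    zero_add] at hq
  exact hu0 (by rw [plane_coord hpq hu, hp, hq]; simp)

/-- A vector zero on every member of a plane, or a line of the plane. -/
theorem plane_zero_at {g : Grp} {p q : ι} (hpq : p ≠ q) {u v : ι → F} (hu : u ∈ plane g p q)
    (hv : v ∈ plane g p q) (hu0 : u ≠ 0) {i : ι} (hui : u i = 0) (hvi : v i = 0)
    (hfull : ¬(ap g (unitVec p) i = 0 ∧ ap g (unitVec q) i = 0)) : ∃ k : F, v = k • u := by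
  by_contra! hne
  refine hfull ⟨?_, ?_⟩
  · obtain ⟨k, m, hk⟩ := plane_decomp hpq hu hv hu0 hne _ (plane_fst g p q)
    simp [hk, hui, hvi]
  · obtain ⟨k, m, hk⟩ := plane_decomp hpq hu hv hu0 hne _ (plane_snd g p q)
    simp [hk, hui, hvi]

end Cfsg.Agent.Orth.Frame
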