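import Cfsg.Agent.Lib.Orth.Frame.Count

/-!
# Three coordinates with a non-monomial member of `inner K T`: transitivity on vectors of given norm

* `not_allMono_image` : the property moves with even permutations
* `exists_eichler` : `inner K T` contains the Eichler transformations of a singular vector
* `triple_transitive` : `inner K T` is transitive on the vectors of `span3 T` of a non-zero norm
-/

set_option autoImplicit false
set_option linter.unusedSectionVars false

namespace Cfsg.Agent.Orth.Frame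

open Cfsg Matrix Module Cfsg.Agent.Orth
open QuadraticMap (polar)

variable {ι : Type} [Fintype ι] [DecidableEq ι] {F : Type*} [Field F] [Fintype F]

local notation "Grp" => IsoGrp (sq (ι := ι) (F := F))

variable {K : Subgroup (IsoGrp (sq (ι := ι) (F := F)))} {T : Finset ι}

theorem refl_sub_eq_swap (h2 : (2 : F) ≠ 0) {a b : ι} (h : a ≠ b) :
    refl sq (unitVec a - unitVec b : ι → F) = permIso (Equiv.swap a b) := by
  refine ext_unitVec fun i => ?_
  rw [permIso_unitVec, refl_ap_dot, dot_unitVec, dotProduct_sub, dot_unitVec, dot_unitVec]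
  simp only [Pi.sub_apply, unitVec_same, unitVec_ne h, unitVec_ne h.symm, sub_zero, zero_sub,
    sub_neg_eq_add, one_add_one_eq_two]
  rw [mul_div_cancel_left₀ _ h2]
  rcases eq_or_ne i a with rfl | ha
  · simp [unitVec_same, unitVec_ne h]
  rcases eq_or_ne i b with rfl | hb
  · simp [unitVec_same, unitVec_ne ha]
  · simp [unitVec_ne ha, unitVec_ne hb, Equiv.swap_apply_of_ne_of_ne ha hb]

theorem dick_swap (h2 : (2 : F) ≠ 0) {a b : ι} (h : a ≠ b) :
    dick (permIso (Equiv.swap a b) : Grp) = -1 := by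
  rw [← refl_sub_eq_swap h2 h]
  refine dick_refl (sq_nd h2) ?_
  rw [sq_apply, dotProduct_sub, dot_unitVec, dot_unitVec]
  simpa [unitVec_same, unitVec_ne h, unitVec_ne h.symm, one_add_one_eq_two] using h2

theorem allMono_image (hK : Over K) {S : Finset ι} {π : Equiv.Perm ι} (hπ : permIso π ∈ K)
    (h : AllMono K S) : AllMono K (S.image π) := by
  intro g hg
  have hi : permIso π⁻¹ ∈ K := permIso_inv (F := F) π ▸ K.inv_mem hπ
  have hm := h _ (by
    convert conj_perm_inner hK hi hg using 2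
    ext x; simp [Finset.mem_image])
  have := ((mono_permIso π).mul hm).mul (mono_permIso π⁻¹)
  simpa [← permIso_inv, mul_assoc] using this

/-- Two sets of the same size outside which there are two points: one is carried to the other. -/
theorem exists_perm_image (hK : Over K) {S S' : Finset ι} (hc : S.card = S'.card)
    (hroom : S.card + S'.card + 2 ≤ Fintype.card ι) :
    ∃ π : Equiv.Perm ι, permIso π ∈ K ∧ S.image π = S' := by
  induction h : (S \ S').card generalizing S with
  | zero =>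
    refine ⟨1, by rw [permIso_one]; exact K.one_mem, ?_⟩
    rw [Equiv.Perm.coe_one, Finset.image_id]
    exact Finset.eq_of_subset_of_card_le (Finset.sdiff_eq_empty_iff_subset.1 (Finset.card_eq_zero.1 h))
      hc.ge
  | succ k ih =>
    obtain ⟨t, ht⟩ := Finset.card_pos.1 (show 0 < (S \ S').card by omega)
    obtain ⟨htS, htS'⟩ := Finset.mem_sdiff.1 ht
    obtain ⟨t', ht'⟩ : (S' \ S).Nonempty := by
      rw [← Finset.card_pos]
      have h1 := Finset.card_sdiff_add_card S' S
      have h2' := Finset.card_sdiff_add_card S S'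
      rw [Finset.union_comm] at h1
      omega
    obtain ⟨ht'S', ht'S⟩ := Finset.mem_sdiff.1 ht'
    obtain ⟨q, hq, q', hq', hqq⟩ := Finset.one_lt_card.1 (show 1 < (S ∪ S')ᶜ.card by
      rw [Finset.card_compl]; have := Finset.card_union_le S S'; omega)
    simp only [Finset.mem_compl, Finset.mem_union, not_or] at hq hq'
    obtain ⟨σ, hσ⟩ : ∃ σ, σ = Equiv.swap t t' * Equiv.swap q q' := ⟨_, rfl⟩
    have htt : t ≠ t' := fun e => ht'S (e ▸ htS)
    have hσK : permIso σ ∈ K := hσ ▸ hK.swap_mem htt (fun e => hq.1 (e ▸ htS))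
      (fun e => hq'.1 (e ▸ htS)) (fun e => hq.2 (e ▸ ht'S')) (fun e => hq'.2 (e ▸ ht'S')) hqq
    have hσx : ∀ x ∈ S, x ≠ t → σ x = x := fun x hx hxt => by
      rw [hσ, Equiv.Perm.mul_apply, Equiv.swap_apply_of_ne_of_ne (fun e : x = q => hq.1 (e ▸ hx))
        (fun e : x = q' => hq'.1 (e ▸ hx)), Equiv.swap_apply_of_ne_of_ne hxt
        (fun e : x = t' => ht'S (e ▸ hx))]
    have hσt : σ t = t' := by
      rw [hσ, Equiv.Perm.mul_apply, Equiv.swap_apply_of_ne_of_ne (fun e : t = q => hq.1 (e ▸ htS))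
        (fun e : t = q' => hq'.1 (e ▸ htS)), Equiv.swap_apply_left]
    have hcard : (S.image σ).card = S.card := Finset.card_image_of_injective _ σ.injective
    obtain ⟨π, hπ, he⟩ := ih (S := S.image σ) (by rw [hcard, hc]) (by rw [hcard]; exact hroom) (by
      have : S.image σ \ S' = (S \ S').erase t := by
        ext x
        simp only [Finset.mem_sdiff, Finset.mem_image, Finset.mem_erase]
        constructor
        · rintro ⟨⟨y, hy, rfl⟩, hn⟩
          rcases eq_or_ne y t with rfl | hyt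
          · exact absurd (hσt ▸ ht'S') hn
          · rw [hσx y hy hyt] at hn ⊢; exact ⟨hyt, hy, hn⟩
        · rintro ⟨hxt, hx, hn⟩
          exact ⟨⟨x, hx, hσx x hx hxt⟩, hn⟩
      rw [this, Finset.card_erase_of_mem ht, h]; rfl)
    exact ⟨π * σ, by rw [permIso_mul]; exact K.mul_mem hπ hσK,
      by rw [← he, Finset.image_image]; rfl⟩

/-- Even permutations lie in `K`. -/
theorem Over.perm_even (hK : Over K) {π : Equiv.Perm ι} (h : Equiv.Perm.sign π = 1) :
    permIso π ∈ K := by
  have hπ : π ∈ alternatingGroup ι := Equiv.Perm.mem_alternatingGroup.2 h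
  rw [← Equiv.Perm.closure_three_cycles_eq_alternating] at hπ
  clear h
  induction hπ using Subgroup.closure_induction with
  | mem σ hσ =>
    have h3 : σ ^ 3 = 1 := hσ.orderOf ▸ pow_orderOf_eq_one σ
    have e : σ = (σ * σ) * (σ * σ) := by
      rw [← mul_assoc, ← pow_three', h3, one_mul]
    exact e ▸ hK.perm_sq _
  | one => rw [permIso_one]; exact K.one_mem
  | mul x y _ _ hx hy => rw [permIso_mul]; exact K.mul_mem hx hy
  | inv x _ hx => rw [← permIso_inv]; exact K.inv_mem hx

/-- Two sets of the same size, at least two: one is carried to the other by an even permutation. -/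
theorem exists_even_image (hK : Over K) {S S' : Finset ι} (hc : S.card = S'.card)
    (h2 : 2 ≤ S.card) : ∃ π : Equiv.Perm ι, permIso π ∈ K ∧ S.image π = S' := by
  let e : {x // x ∈ S} ≃ {x // x ∈ S'} := Finset.equivOfCardEq hc
  have himg : S.image e.extendSubtype = S' := Finset.eq_of_subset_of_card_le
    (fun x hx => by
      obtain ⟨y, hy, rfl⟩ := Finset.mem_image.1 hx
      exact Equiv.extendSubtype_mem e y hy)
    (by rw [Finset.card_image_of_injective _ e.extendSubtype.injective, hc])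
  rcases Int.units_eq_one_or (Equiv.Perm.sign e.extendSubtype) with h | h
  · exact ⟨_, hK.perm_even h, himg⟩
  · obtain ⟨a, ha, b, hb, hab⟩ := Finset.one_lt_card.1 h2
    refine ⟨e.extendSubtype * Equiv.swap a b, hK.perm_even (by
      rw [map_mul, h, Equiv.Perm.sign_swap hab]; decide), ?_⟩
    have hs : S.image (Equiv.swap a b) = S := Finset.eq_of_subset_of_card_le
      (fun x hx => by
        obtain ⟨y, hy, rfl⟩ := Finset.mem_image.1 hx
        rcases eq_or_ne y a with rfl | hya
        · rwa [Equiv.swap_apply_left]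
        rcases eq_or_ne y b with rfl | hyb
        · rwa [Equiv.swap_apply_right]
        rwa [Equiv.swap_apply_of_ne_of_ne hya hyb])
      (by rw [Finset.card_image_of_injective _ (Equiv.swap a b).injective])
    rw [Equiv.Perm.coe_mul, ← Finset.image_image, hs, himg]

theorem not_allMono_even_image (hK : Over K) {S S' : Finset ι} (hc : S.card = S'.card)
    (h2 : 2 ≤ S.card) (h : ¬ AllMono K S) : ¬ AllMono K S' := by
  intro hS'
  obtain ⟨π, hπ, he⟩ := exists_even_image hK hc.symm (hc ▸ h2)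
  exact h (he ▸ allMono_image hK hπ hS')

theorem not_allMono_image (hK : Over K) {S S' : Finset ι} (hc : S.card = S'.card)
    (hroom : S.card + S'.card + 2 ≤ Fintype.card ι) (h : ¬ AllMono K S) : ¬ AllMono K S' := by
  intro hS'
  obtain ⟨π, hπ, he⟩ := exists_perm_image hK hc.symm (by omega)
  exact h (he ▸ allMono_image hK hπ hS')

theorem mem_inner_ap_span3 (hK : Over K) {g : Grp} (hg : g ∈ inner K T) {x : ι → F}
    (hx : x ∈ span3 T) : ap g x ∈ span3 T :=
  ap_mem_span3 hK.two hg.1 hx

/-- A prime field: every element is a natural number. -/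
theorem exists_nat_cast {p : ℕ} [Fact p.Prime] (hp : Fintype.card F = p) (c : F) :
    ∃ n : ℕ, (n : F) = c := by
  obtain ⟨z, hz⟩ := (ZMod.ringEquivOfPrime F (Fact.out : p.Prime) hp).surjective c
  exact ⟨z.val, by rw [← hz, ← map_natCast (ZMod.ringEquivOfPrime F (Fact.out : p.Prime) hp),
    ZMod.natCast_zmod_val]⟩

/-- An element of order `p` of `inner K T`. -/
theorem exists_order_p (hK : Over K) (hι : 5 ≤ Fintype.card ι) {p : ℕ} [Fact p.Prime] [CharP F p]
    (hp5 : 5 ≤ p) (hT : T.card = 3) (hmix : ¬ AllMono K T) :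
    ∃ u ∈ inner K T, dick u = 1 ∧ orderOf u = p := by
  obtain ⟨a, b, c, hab, hac, hbc, hTe⟩ := Finset.card_eq_three.1 hT
  obtain ⟨haT, hbT, hcT⟩ : a ∈ T ∧ b ∈ T ∧ c ∈ T := by rw [hTe]; simp
  have h2 := hK.two
  obtain ⟨q, hq, q', hq', hqq⟩ := Finset.one_lt_card.1 (show 1 < Tᶜ.card by
    rw [Finset.card_compl, hT]; omega)
  rw [Finset.mem_compl] at hq hq'
  obtain ⟨x, hx⟩ : ∃ x : Grp, x = sgn c * permIso (Equiv.swap a b) := ⟨_, rfl⟩
  have hfixab : ∀ m, m ∉ T → Equiv.swap a b m = m := fun m hm => Equiv.swap_apply_of_ne_of_ne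
    (fun e => hm (e ▸ haT)) (fun e => hm (e ▸ hbT))
  have hxfix : ∀ m, m ∉ T → ap x (unitVec m) = unitVec m := fun m hm => by
    rw [hx, ap_mul, permIso_unitVec, hfixab m hm, sgn_ap_ne (fun e : m = c => hm (e ▸ hcT))]
  have hxd : dick x = 1 := by
    rw [hx, dick_mul (good_sq h2), dick_sgn h2, dick_swap h2 hab]; rfl
  have hswap : permIso (Equiv.swap a b) * permIso (Equiv.swap a b) = (1 : Grp) := by
    rw [← permIso_mul, Equiv.swap_mul_self, permIso_one]
  have hcs : Commute (permIso (Equiv.swap a b) : Grp) (sgn c) := commute_sgn_of_fix (by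
    rw [permIso_unitVec, Equiv.swap_apply_of_ne_of_ne hac.symm hbc.symm])
  have hxx : x * x = 1 := by
    rw [hx, mul_assoc, ← mul_assoc (permIso (Equiv.swap a b)), hcs.eq, mul_assoc, hswap, mul_one,
      sgn_mul_self]
  -- conjugation by `x`
  have hconj : ∀ h ∈ inner K T, x * h * x ∈ inner K T := by
    intro h hh
    have hπ := hK.swap_mem hab (fun e : a = q => hq (e ▸ haT)) (fun e : a = q' => hq' (e ▸ haT))
      (fun e : b = q => hq (e ▸ hbT)) (fun e : b = q' => hq' (e ▸ hbT)) hqq
    have h1 := conj_perm_inner hK hπ hh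
    have hqT : ∀ i ∈ T, Equiv.swap q q' i = i := fun i hi => Equiv.swap_apply_of_ne_of_ne
      (fun e => hq (e ▸ hi)) (fun e => hq' (e ▸ hi))
    have hc2 : permIso (Equiv.swap q q') * h = h * permIso (Equiv.swap q q') := by
      refine ext_unitVec fun i => ?_
      rw [ap_mul, ap_mul, permIso_unitVec]
      by_cases hi : i ∈ T
      · rw [hqT i hi]
        funext j
        by_cases hj : j ∈ T
        · conv_lhs => rw [← hqT j hj]
          rw [permIso_coord]
        · rw [permIso_ap, Function.comp_apply, inner_fix_coord hK hh hj,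
            unitVec_ne fun e : j = i => hj (by rwa [e])]
          have hj' : (Equiv.swap q q').symm j ∉ T := fun hh' => by
            have := hqT _ hh'
            rw [Equiv.apply_symm_apply] at this
            exact hj (this ▸ hh')
          rw [inner_fix_coord hK hh hj', unitVec_ne fun e => hj' (by rwa [e])]
      · rw [hh.1 i hi, permIso_unitVec]
        refine (hh.1 _ fun hh' => hi ?_).symm
        have := hqT _ hh'
        rw [(Equiv.swap q q').injective this] at hh'
        exact hh'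
    have himg : T.image (Equiv.swap a b * Equiv.swap q q' : Equiv.Perm ι) = T := by
      refine Finset.eq_of_subset_of_card_le ?_ (by
        rw [Finset.card_image_of_injective _ (Equiv.injective _)])
      intro m hm
      obtain ⟨i, hi, rfl⟩ := Finset.mem_image.1 hm
      rw [Equiv.Perm.mul_apply, hqT i hi]
      rcases eq_or_ne i a with rfl | h1
      · rwa [Equiv.swap_apply_left]
      rcases eq_or_ne i b with rfl | h3
      · rwa [Equiv.swap_apply_right]
      · rwa [Equiv.swap_apply_of_ne_of_ne h1 h3]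
    rw [himg, permIso_mul, mul_assoc (permIso (Equiv.swap a b)), hc2, ← mul_assoc,
      mul_assoc (_ * h), _root_.mul_inv_rev, ← mul_assoc (permIso (Equiv.swap q q')),
      mul_inv_cancel, one_mul, inv_eq_of_mul_eq_one_right hswap] at h1
    have := mul_mem (mul_mem (sgn_mem_inner hK hcT) h1) (sgn_mem_inner hK hcT)
    convert this using 1
    conv_lhs => rw [hx]
    rw [mul_assoc (sgn c * permIso (Equiv.swap a b)) h, show
      sgn c * permIso (Equiv.swap a b) * (h * (sgn c * permIso (Equiv.swap a b))) =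
      sgn c * permIso (Equiv.swap a b) * (h * (permIso (Equiv.swap a b) * sgn c)) by rw [hcs.eq]]
    simp only [mul_assoc]
  let L : Subgroup Grp :=
    { carrier := {g | (∀ m, m ∉ T → ap g (unitVec m) = unitVec m) ∧ dick g = 1 ∧
        (g ∈ inner K T ∨ x * g ∈ inner K T)}
      one_mem' := ⟨fun _ _ => ap_one _, map_one (dickHom (good_sq h2)), .inl (one_mem _)⟩
      mul_mem' := fun {g h} hg hh => by
        refine ⟨fun m hm => by rw [ap_mul, hh.1 m hm, hg.1 m hm],
          by rw [dick_mul (good_sq h2), hg.2.1, hh.2.1]; rfl, ?_⟩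
        rcases hg.2.2 with e | e <;> rcases hh.2.2 with e' | e'
        · exact .inl (mul_mem e e')
        · right
          have : x * (g * h) = x * g * x * (x * h) := by
            simp only [mul_assoc]; rw [← mul_assoc x x, hxx, one_mul]
          exact this ▸ mul_mem (hconj _ e) e'
        · exact .inr (by rw [← mul_assoc]; exact mul_mem e e')
        · left
          have : g * h = x * (x * g) * x * (x * h) := by
            rw [← mul_assoc x x g, hxx, one_mul, mul_assoc g x, ← mul_assoc x x h, hxx, one_mul]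
          exact this ▸ mul_mem (hconj _ e) e'
      inv_mem' := fun {g} hg => by
        refine ⟨fun m hm => ap_inj g (by rw [ap_ap_inv, hg.1 m hm]), ?_, ?_⟩
        · have h1 := dick_mul (good_sq h2) g g⁻¹
          rw [mul_inv_cancel, hg.2.1, one_mul] at h1
          exact h1.symm.trans (map_one (dickHom (good_sq h2)))
        rcases hg.2.2 with e | e
        · exact .inl (inv_mem e)
        · right
          have : x * g⁻¹ = x * (x * g)⁻¹ * x := by
            rw [_root_.mul_inv_rev, inv_eq_of_mul_eq_one_right hxx, ← mul_assoc x g⁻¹ x,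
              mul_assoc (x * g⁻¹), hxx, mul_one]
          exact this ▸ hconj _ (inv_mem e) }
  have hGL : ∀ g ∈ inner K T, dick g = 1 → g ∈ L := fun g hg hd => ⟨hg.1, hd, .inl hg⟩
  have hsab : ∀ {i j : ι}, i ∈ T → j ∈ T → sgn i * sgn j ∈ L := fun {i j} hi hj => hGL _
    (mul_mem (sgn_mem_inner hK hi) (sgn_mem_inner hK hj))
    (by rw [dick_mul (good_sq h2), dick_sgn h2, dick_sgn h2]; rfl)
  -- the prime divides the order
  have hdvd : p ∣ Nat.card L := by
    by_contra hnd
    have hL : Rot T p L := ⟨h2, hT, fun g hg => hg.1, fun g hg => hg.2.1, hnd⟩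
    have hcyc : permIso (cyc a b c) ∈ L := hGL _ (cyc_mem_inner hK hab hac hbc haT hbT hcT)
      ((mem_omega_iff (good_sq h2) _).1 (hK.le (hK.cyc_mem hab hac hbc))).1
    obtain ⟨y, hy⟩ : ∃ y : Grp, y = x * (sgn a * sgn c) := ⟨_, rfl⟩
    have hyL : y ∈ L := hy ▸ L.mul_mem ⟨hxfix, hxd, .inr (hxx ▸ one_mem _)⟩ (hsab haT hcT)
    have hyc : ap y (unitVec c) = unitVec c := by
      rw [hy, hx, ap_mul, ap_mul, ap_mul, sgn_ap_same, map_neg, sgn_ap_ne hac.symm, map_neg,
        permIso_unitVec, Equiv.swap_apply_of_ne_of_ne hac.symm hbc.symm, map_neg, sgn_ap_same,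
        neg_neg]
    have hya : ap y (unitVec a) = -unitVec b := by
      rw [hy, hx, ap_mul, ap_mul, ap_mul, sgn_ap_ne hac, sgn_ap_same, map_neg, permIso_unitVec,
        Equiv.swap_apply_left, map_neg, sgn_ap_ne hbc]
    have hyb : ap y (unitVec b) = unitVec a := by
      rw [hy, hx, ap_mul, ap_mul, ap_mul, sgn_ap_ne hbc, sgn_ap_ne hab.symm, permIso_unitVec,
        Equiv.swap_apply_right, sgn_ap_ne hac]
    have hy4 : orderOf y = 4 := by
      refine orderOf_eq_prime_pow (p := 2) (n := 1) (fun e => ?_) ?_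
      · have h' : ap (y ^ 2 ^ 1) (unitVec a) = (unitVec a : ι → F) := by rw [e, ap_one]
        rw [show 2 ^ 1 = 2 from rfl, pow_two, ap_mul, hya, map_neg, hyb] at h'
        have := congrFun h' a
        simp [unitVec_same] at this
        exact h2 (by linear_combination -this)
      · refine ext_unitVec fun i => ?_
        rw [show 2 ^ (1 + 1) = 2 + 2 from rfl, pow_add, pow_two, ap_one]
        simp only [ap_mul]
        rcases eq_or_ne i a with rfl | h1
        · simp [hya, hyb]
        rcases eq_or_ne i b with rfl | h3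
        · simp [hya, hyb]
        rcases eq_or_ne i c with rfl | h4
        · simp [hyc]
        · have : i ∉ T := by rw [hTe]; simp [h1, h3, h4]
          simp [(L.mem_carrier.1 hyL).1 i this]
    have hmono := mono_of_prime_to hL hab hac hbc hTe hcyc (hsab haT hbT) hyL hyc hy4
    refine hmix fun g hg => ?_
    rcases dick_eq_or g with hd | hd
    · exact hmono g (hGL g hg hd)
    · have h1 := hmono _ (hGL (g * sgn a) (mul_mem hg (sgn_mem_inner hK haT))
        (by rw [dick_mul (good_sq h2), hd, dick_sgn h2]; rfl))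
      have h3 := h1.mul (mono_sgn a)
      rwa [mul_assoc, sgn_mul_self, mul_one] at h3
  obtain ⟨⟨u, hu⟩, hord⟩ := exists_prime_orderOf_dvd_card' p hdvd
  rw [Subgroup.orderOf_mk] at hord
  refine ⟨u, ?_, hu.2.1, hord⟩
  have huu : u * u ∈ inner K T := by
    rcases hu.2.2 with e | e
    · exact mul_mem e e
    · have : u * u = x * (x * u) * x * (x * u) := by
        rw [← mul_assoc x x u, hxx, one_mul, mul_assoc u x, ← mul_assoc x x u, hxx, one_mul]
      exact this ▸ mul_mem (hconj _ e) e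
  obtain ⟨k, hk⟩ := (Fact.out : p.Prime).odd_of_ne_two (by omega)
  have : u = (u * u) ^ (k + 1) := by
    rw [← pow_two, ← pow_mul, show 2 * (k + 1) = p + 1 by omega, pow_succ, ← hord,
      pow_orderOf_eq_one, one_mul]
  exact this ▸ Subgroup.pow_mem _ huu _

/-- The axis of an element of order `p` is singular. -/
theorem exists_singular_axis (h2 : (2 : F) ≠ 0) (hT : T.card = 3) {p : ℕ} [Fact p.Prime] [CharP F p]
    {u : Grp} (hfix : ∀ m, m ∉ T → ap u (unitVec m) = unitVec m) (hd : dick u = 1)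
    (hu : orderOf u = p) : ∃ w ∈ axis T u, w ≠ 0 ∧ w ⬝ᵥ w = 0 := by
  have hu1 : u ≠ 1 := fun e => by
    rw [e, orderOf_one] at hu; exact (Fact.out : p.Prime).ne_one hu.symm
  have hA1 := finrank_axis h2 hT hfix hd hu1
  obtain ⟨w, hwA, hw0⟩ := Submodule.exists_mem_ne_zero_of_ne_bot
    (p := axis T u) (fun h => by rw [h, finrank_bot] at hA1; omega)
  refine ⟨w, hwA, hw0, ?_⟩
  by_contra hww
  have : CharP (Module.End F (ι → F)) p := by
    have : Nonempty ι := ⟨(Finset.card_pos.1 (by omega : 0 < T.card)).choose⟩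
    exact charP_of_injective_algebraMap (algebraMap F (Module.End F (ι → F))).injective p
  obtain ⟨δ, hδ⟩ : ∃ δ : Module.End F (ι → F), δ = ap u - 1 := ⟨_, rfl⟩
  have hδx : ∀ x, δ x = ap u x - x := fun x => by simp [hδ]
  have hnil : ∀ x, (δ ^ p) x = 0 := fun x => by
    rw [hδ, sub_pow_char_of_commute (p := p) (h := Commute.one_right _), one_pow]
    have : ∀ n : ℕ, ∀ y, ((ap u : Module.End F (ι → F)) ^ n) y = ap (u ^ n) y := fun n => by
      induction n with
      | zero => simp
      | succ n ih => intro y; rw [pow_succ', pow_succ', Module.End.mul_apply, ih, ap_mul]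
    rw [LinearMap.sub_apply, this, ← hu, pow_orderOf_eq_one]
    simp
  have hstep : ∀ z, δ (δ z) = 0 → δ z = 0 := fun z hz => by
    rw [hδx, sub_eq_zero] at hz
    have hm : δ z ∈ span3 T := by
      rw [hδx]; exact res_le_span3 h2 hfix (sub_mem_resSpace u z)
    obtain ⟨t, ht⟩ := (finrank_eq_one_iff_of_nonzero' (⟨w, hwA⟩ : axis T u) (by simpa using hw0)).1
      hA1 ⟨δ z, mem_axis.2 ⟨hz, hm⟩⟩
    have ht' : t • w = δ z := congrArg Subtype.val ht
    have hperp := polar_fix_resSpace (mem_axis.1 hwA).1 (sub_mem_resSpace u z)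
    rw [polar_sq, ← hδx, ← ht', dotProduct_smul, smul_eq_mul, mul_eq_zero, mul_eq_zero] at hperp
    simp only [h2, hww, false_or, or_false] at hperp
    rw [← ht', hperp, zero_smul]
  refine hu1 (ext_ap fun x => ?_)
  have key : ∀ n : ℕ, (δ ^ (n + 1)) x = 0 → δ x = 0 := fun n => by
    induction n with
    | zero => simp
    | succ n ih =>
      intro h
      refine ih ?_
      rw [pow_succ', pow_succ', Module.End.mul_apply, Module.End.mul_apply] at h
      rw [pow_succ', Module.End.mul_apply]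
      exact hstep _ h
  have := key (p - 1) (by rw [Nat.sub_add_cancel (Fact.out : p.Prime).one_le]; exact hnil x)
  rw [hδx, sub_eq_zero] at this
  rw [this, ap_one]

/-- The Eichler transformations of a singular vector of three coordinates. -/
theorem exists_eichler (hK : Over K) (hι : 5 ≤ Fintype.card ι) {p : ℕ} [Fact p.Prime] [CharP F p]
    (hp5 : 5 ≤ p) (hcard : Fintype.card F = p) (hT : T.card = 3) (hmix : ¬ AllMono K T) :
    ∃ (a : ι) (w w' y : ι → F), w a ≠ 0 ∧ w ∈ span3 T ∧ w' ∈ span3 T ∧ y ∈ span3 T ∧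
      w ⬝ᵥ w = 0 ∧ w' ⬝ᵥ w' = 0 ∧ w ⬝ᵥ w' = -2 * w a ^ 2 ∧ w ⬝ᵥ y = 0 ∧ w' ⬝ᵥ y = 0 ∧
      y ⬝ᵥ y = -w a ^ 2 ∧ (∀ x ∈ span3 T, ∃ α β γ : F, x = α • w + β • w' + γ • y) ∧
      ∀ t : F, eich sq w (t • y) ∈ inner K T ∧ eich sq w' (t • y) ∈ inner K T := by
  have h2 := hK.two
  obtain ⟨u, hu, hud, huo⟩ := exists_order_p hK hι hp5 hT hmix
  have hu1 : u ≠ 1 := fun e => by
    rw [e, orderOf_one] at huo; exact (Fact.out : p.Prime).ne_one huo.symm
  obtain ⟨w, hwA, hw0, hww⟩ := exists_singular_axis h2 hT hu.1 hud huo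
  obtain ⟨huw, hwT⟩ := mem_axis.1 hwA
  obtain ⟨a, b, c, hab, hac, hbc, hTe, hwa⟩ := exists_pivot hT hwT hw0
  obtain ⟨w', y, hw', hw'T, hyT, hw'w', hww', hwy, hw'y, hyy, hsy, hdec⟩ :=
    exists_basis3 (F := F) hab hac hbc hTe h2 hwT hww hwa
  have hyy0 : y ⬝ᵥ y ≠ 0 := by rw [hyy]; simp [hwa]
  obtain ⟨k, hk0, hk⟩ := (axis_dichotomy h2 hT hu.1 hud hu1 hwA hw0 hww (p := p)).2 y hyT hwy hyy0
  have hQw : sq w = 0 := by rw [sq_apply, hww]
  have hpl : ∀ t : F, polar ⇑(sq (ι := ι) (F := F)) w (t • y) = 0 := fun t => by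
    rw [polar_sq, dotProduct_smul, hwy, smul_zero, mul_zero]
  obtain ⟨s, hs⟩ : ∃ s : F, -(2 * (s * (y ⬝ᵥ y))) = k :=
    ⟨-k / (2 * (y ⬝ᵥ y)), by field_simp⟩
  have hs0 : s ≠ 0 := fun e => hk0 (by rw [← hs, e]; ring)
  have hy1 : ap (eich sq w (s • y)) y = y + k • w := by
    rw [eich_ap hQw (hpl s), polar_sq, hwy, mul_zero, zero_smul, add_zero, mul_zero, add_zero,
      polar_sq, smul_dotProduct, smul_eq_mul, ← hs, neg_smul, ← sub_eq_add_neg]
  have hw1 : ap (eich sq w (s • y)) w = w := by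
    rw [eich_ap hQw (hpl s), polar_sq, hww, mul_zero, zero_smul, add_zero, mul_zero, add_zero,
      polar_sq, smul_dotProduct, dotProduct_comm y w, hwy, smul_zero, mul_zero, zero_smul, sub_zero]
  have hm1 : ∀ m, m ∉ T → ap (eich sq w (s • y)) (unitVec m) = unitVec m := fun m hm => by
    rw [eich_ap hQw (hpl s), polar_sq, polar_sq, dot_unitVec, dot_unitVec, hwT m hm, Pi.smul_apply,
      hyT m hm]
    simp
  have heu : eich sq w (s • y) = u := by
    have h1 : u⁻¹ * eich sq w (s • y) = 1 := by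
      refine eq_one_of_fix h2 hT (fun m hm => ?_) hwT hyT hw0 hww hwy hyy0 ?_ ?_
      · rw [ap_mul, hm1 m hm]; exact ap_inj u (by rw [ap_ap_inv, hu.1 m hm])
      · rw [ap_mul, hw1]; exact ap_inj u (by rw [ap_ap_inv, huw])
      · rw [ap_mul, hy1]; exact ap_inj u (by rw [ap_ap_inv, hk])
    rw [eq_comm, ← inv_mul_eq_one]; exact h1
  have hpow : ∀ n : ℕ, eich sq w (((n : F) * s) • y) ∈ inner K T := fun n => by
    induction n with
    | zero => simp [eich_zero, one_mem]
    | succ n ih =>
      rw [show (((n + 1 : ℕ) : F) * s) • y = ((n : F) * s) • y + s • y by push_cast; module,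
        ← eich_add hQw (hpl _) (hpl _), heu]
      exact mul_mem ih hu
  have hall : ∀ t : F, eich sq w (t • y) ∈ inner K T := fun t => by
    obtain ⟨n, hn⟩ := exists_nat_cast hcard (t / s)
    have := hpow n
    rwa [hn, div_mul_cancel₀ _ hs0] at this
  refine ⟨a, w, w', y, hwa, hwT, hw'T, hyT, hww, hw'w', hww', hwy, hw'y, hyy, hdec,
    fun t => ⟨hall t, ?_⟩⟩
  have haT : a ∈ T := by rw [hTe]; simp
  have := mul_mem (mul_mem (sgn_mem_inner hK haT) (hall t)) (inv_mem (sgn_mem_inner hK haT))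
  rwa [conj_eich, map_smul, hsy, ← hw'] at this

/-- A subgroup of the multiplicative group containing all non-zero values of `1 - k r²`. -/
theorem eq_top_of_values {p : ℕ} [Fact p.Prime] [CharP F p] (hp5 : 5 ≤ p)
    (hcard : Fintype.card F = p) {k : F} (hk : k ≠ 0) (H : Subgroup Fˣ)
    (hH : ∀ (d : Fˣ) (r : F), (d : F) = 1 - k * (r * r) → d ∈ H) : H = ⊤ := by
  classical
  by_contra hne
  set A : Finset F := Finset.univ.image fun r => r * r with hA
  set B : Finset F := insert 0 ((Finset.univ.filter (· ∈ H)).image Units.val) with hB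
  have hidx : 2 ≤ H.index := by
    have h1 : H.index ≠ 1 := fun e => hne (Subgroup.index_eq_one.1 e)
    have h0 : H.index ≠ 0 := Subgroup.index_ne_zero_of_finite
    omega
  have hHc : (Finset.univ.filter (· ∈ H)).card = Nat.card H := by
    rw [← Nat.card_eq_finsetCard]
    exact Nat.card_congr (Equiv.subtypeEquivRight fun g => by simp)
  have hmul := H.card_mul_index
  rw [Nat.card_units, Nat.card_eq_fintype_card (α := F), hcard] at hmul
  have hBc : B.card = Nat.card H + 1 := by
    rw [hB, Finset.card_insert_of_notMem (by simp), Finset.card_image_of_injective _ Units.val_injective,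
      hHc]
  have hsub : A.image (fun s => 1 - k * s) ⊆ B := by
    intro x hx
    simp only [hA, Finset.mem_image, Finset.mem_univ, true_and] at hx
    obtain ⟨_, ⟨r, rfl⟩, rfl⟩ := hx
    rw [hB, Finset.mem_insert, Finset.mem_image]
    by_cases h0 : 1 - k * (r * r) = 0
    · exact .inl h0
    · exact .inr ⟨Units.mk0 _ h0, Finset.mem_filter.2 ⟨Finset.mem_univ _, hH _ r rfl⟩, rfl⟩
  have hcA : (A.image fun s => 1 - k * s).card = A.card :=
    Finset.card_image_of_injective _ fun s t e => mul_left_cancel₀ hk (sub_right_injective e)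
  have hA2 : p + 1 ≤ 2 * A.card := by
    have h1 := Finset.card_le_mul_card_image (f := fun r : F => r * r) (Finset.univ.erase 0) 2
      (fun s _ => by
        rcases (Finset.filter (fun r => r * r = s) (Finset.univ.erase (0 : F))).eq_empty_or_nonempty
          with he | ⟨r, hr⟩
        · rw [he]; simp
        · refine (Finset.card_le_card (t := {r, -r}) fun r' hr' => ?_).trans Finset.card_le_two
          have e := ((Finset.mem_filter.1 hr').2).trans (Finset.mem_filter.1 hr).2.symm
          simpa using mul_self_eq_mul_self_iff.1 e)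
    rw [Finset.card_erase_of_mem (Finset.mem_univ _), Finset.card_univ, hcard] at h1
    have h2' : ((Finset.univ.erase (0 : F)).image fun r => r * r).card + 1 ≤ A.card := by
      rw [← Finset.card_insert_of_notMem (a := (0 : F)) (by simp)]
      refine Finset.card_le_card fun x hx => ?_
      rw [Finset.mem_insert, Finset.mem_image] at hx
      rcases hx with rfl | ⟨r, -, rfl⟩ <;> simp [hA]
    omega
  have hle := Finset.card_le_card hsub
  rw [hcA, hBc] at hle
  have h2H : H.index = 2 := by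
    by_contra h
    have : 3 ≤ H.index := by omega
    nlinarith [Nat.sub_add_cancel (show 1 ≤ p by omega)]
  rw [h2H] at hmul
  have hAB : A = B := by
    refine Finset.eq_of_subset_of_card_le (fun x hx => ?_) (by rw [hBc]; omega)
    obtain ⟨r, -, rfl⟩ := Finset.mem_image.1 hx
    rw [hB, Finset.mem_insert, Finset.mem_image]
    rcases eq_or_ne r 0 with rfl | hr
    · simp
    · exact .inr ⟨Units.mk0 r hr * Units.mk0 r hr, Finset.mem_filter.2 ⟨Finset.mem_univ _,
        Subgroup.mul_self_mem_of_index_two h2H _⟩, rfl⟩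
  have hperm : A.image (fun s => 1 - k * s) = A := by
    rw [hAB] at hsub hcA ⊢
    exact Finset.eq_of_subset_of_card_le hsub hcA.ge
  have hfour : A.image (fun s => (2 * 2) * s) = A := by
    have h2 : (2 : F) ≠ 0 := by
      intro e
      have := (CharP.cast_eq_zero_iff F p 2).1 (by exact_mod_cast e)
      exact absurd (Nat.le_of_dvd (by norm_num) this) (by omega)
    refine Finset.eq_of_subset_of_card_le (fun x hx => ?_) (le_of_eq
      (Finset.card_image_of_injective _ (mul_right_injective₀ (mul_ne_zero h2 h2))).symm)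
    simp only [hA, Finset.mem_image, Finset.mem_univ, true_and] at hx ⊢
    obtain ⟨_, ⟨r, rfl⟩, rfl⟩ := hx
    exact ⟨2 * r, by ring⟩
  have hs4 : ∑ s ∈ A, s = 2 * 2 * ∑ s ∈ A, s := by
    conv_lhs => rw [← hfour]
    rw [Finset.sum_image (fun s _ t _ e => ?_), Finset.mul_sum]
    have h22 : (2 : F) * 2 ≠ 0 := fun e' => by
      have := (CharP.cast_eq_zero_iff F p 4).1 (by push_cast; linear_combination e')
      exact absurd (Nat.le_of_dvd (by norm_num) this) (by omega)
    exact mul_left_cancel₀ h22 e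
  have h3 : (3 : F) ≠ 0 := fun e => by
    have := (CharP.cast_eq_zero_iff F p 3).1 (by exact_mod_cast e)
    exact absurd (Nat.le_of_dvd (by norm_num) this) (by omega)
  have hs0 : ∑ s ∈ A, s = 0 :=
    (mul_eq_zero.1 (show 3 * ∑ s ∈ A, s = 0 by linear_combination -hs4)).resolve_left h3
  have hs1 : ∑ s ∈ A, s = (A.card : F) - k * ∑ s ∈ A, s := by
    conv_lhs => rw [← hperm]
    rw [Finset.sum_image fun s _ t _ e => mul_left_cancel₀ hk (sub_right_injective e),
      Finset.sum_sub_distrib, Finset.mul_sum, Finset.sum_const, nsmul_eq_mul, mul_one]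
  rw [hs0, mul_zero, sub_zero] at hs1
  have := (CharP.cast_eq_zero_iff F p A.card).1 hs1.symm
  exact absurd (Nat.le_of_dvd (by omega) this) (by omega)

theorem eich_coord {w w' y : ι → F} {A : F} (hww : w ⬝ᵥ w = 0) (hww' : w ⬝ᵥ w' = -2 * A)
    (hwy : w ⬝ᵥ y = 0) (hw'y : w' ⬝ᵥ y = 0) (hyy : y ⬝ᵥ y = -A) (α β γ t : F) :
    ap (eich sq w (t • y)) (α • w + β • w' + γ • y) =
      (α + 2 * A * t * γ - (2 * A * t) ^ 2 * β) • w + β • w' + (γ - 2 * (2 * A * t) * β) • y := by
  rw [eich_ap (by rw [sq_apply, hww]) (by rw [polar_sq, dotProduct_smul, hwy, smul_zero, mul_zero])]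
  simp only [polar_sq, sq_apply, dotProduct_add, dotProduct_smul, smul_dotProduct, smul_eq_mul, hww,
    hww', hwy, dotProduct_comm y w, dotProduct_comm y w', hw'y, hyy]
  module

/-- Transitivity on the vectors of a given non-zero norm. -/
theorem triple_transitive (hK : Over K) (hι : 5 ≤ Fintype.card ι) {p : ℕ} [Fact p.Prime]
    [CharP F p] (hp5 : 5 ≤ p) (hcard : Fintype.card F = p) (hT : T.card = 3)
    (hmix : ¬ AllMono K T) {u v : ι → F} (hu : u ∈ span3 T) (hv : v ∈ span3 T)
    (hne : u ⬝ᵥ u ≠ 0) (heq : u ⬝ᵥ u = v ⬝ᵥ v) : ∃ g ∈ inner K T, ap g u = v := by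
  obtain ⟨a, w, w', y, hwa, -, -, -, hww, hw'w', hww', hwy, hw'y, hyy, hdec, hE⟩ :=
    exists_eichler hK hι hp5 hcard hT hmix
  have h2 := hK.two
  obtain ⟨A, hA⟩ : ∃ A : F, A = w a ^ 2 := ⟨_, rfl⟩
  rw [← hA] at hww' hyy
  have hA0 : A ≠ 0 := hA ▸ pow_ne_zero 2 hwa
  obtain ⟨m, hm⟩ : ∃ m : F, -A * m = u ⬝ᵥ u := ⟨-(u ⬝ᵥ u) / A, by field_simp⟩
  have hm0 : m ≠ 0 := fun e => hne (by rw [← hm, e, mul_zero])
  let R : (ι → F) → (ι → F) → Prop := fun s t => ∃ g ∈ inner K T, ap g s = t
  have htrans : ∀ {r s t}, R r s → R s t → R r t := by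
    rintro r s t ⟨g, hg, rfl⟩ ⟨h, hh, rfl⟩
    exact ⟨h * g, mul_mem hh hg, by rw [ap_mul]⟩
  have hsymm : ∀ {s t}, R s t → R t s := by
    rintro s t ⟨g, hg, rfl⟩
    exact ⟨g⁻¹, inv_mem hg, by rw [ap_inv_ap]⟩
  have hL : ∀ α β γ τ : F, R (α • w + β • w' + γ • y)
      ((α + τ * γ - τ ^ 2 * β) • w + β • w' + (γ - 2 * τ * β) • y) := fun α β γ τ => by
    refine ⟨_, (hE (τ / (2 * A))).1, ?_⟩
    rw [eich_coord hww hww' hwy hw'y hyy, mul_div_cancel₀ _ (mul_ne_zero h2 hA0)]
  have hR : ∀ α β γ τ : F, R (α • w + β • w' + γ • y)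
      (α • w + (β + τ * γ - τ ^ 2 * α) • w' + (γ - 2 * τ * α) • y) := fun α β γ τ => by
    refine ⟨_, (hE (τ / (2 * A))).2, ?_⟩
    rw [add_comm (α • w), eich_coord hw'w' (by rw [dotProduct_comm, hww']) hw'y hwy hyy,
      mul_div_cancel₀ _ (mul_ne_zero h2 hA0)]
    abel
  let P : F → (ι → F) := fun β => (m / (4 * β)) • w + β • w' + (0 : F) • y
  have h4 : (4 : F) ≠ 0 := fun e => mul_ne_zero h2 h2 (by linear_combination e)
  -- every vector of this norm moves to some `P β`
  have hto : ∀ z ∈ span3 T, z ⬝ᵥ z = u ⬝ᵥ u → ∃ β, β ≠ 0 ∧ R z (P β) := by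
    intro z hz hzz
    obtain ⟨α, β, γ, rfl⟩ := hdec z hz
    simp only [add_dotProduct, dotProduct_add, smul_dotProduct, dotProduct_smul, smul_eq_mul, hww,
      hww', dotProduct_comm w' w, hwy, hw'y, hw'w', dotProduct_comm y w, dotProduct_comm y w',
      hyy, ← hm] at hzz
    have hq : 4 * α * β + γ ^ 2 = m :=
      mul_left_cancel₀ (neg_ne_zero.2 hA0) (by linear_combination hzz)
    have hgen : ∀ α β γ : F, β ≠ 0 → 4 * α * β + γ ^ 2 = m → R (α • w + β • w' + γ • y) (P β) := by
      intro α β γ hβ hq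
      have := hL α β γ (γ / (2 * β))
      have e1 : α + γ / (2 * β) * γ - (γ / (2 * β)) ^ 2 * β = m / (4 * β) := by
        rw [← hq]; field_simp; ring
      have e2 : γ - 2 * (γ / (2 * β)) * β = 0 := by field_simp; ring
      rwa [e1, e2] at this
    rcases eq_or_ne β 0 with rfl | hβ
    · have hγ : γ ≠ 0 := fun e => hm0 (by rw [← hq, e]; ring)
      obtain ⟨τ, hτ⟩ : ∃ τ : F, τ * γ - τ ^ 2 * α ≠ 0 := by
        rcases eq_or_ne γ α with rfl | hne'
        · exact ⟨2, fun e => hγ ((mul_eq_zero.1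
            (show 2 * γ = 0 by linear_combination -e)).resolve_left h2)⟩
        · exact ⟨1, fun e => hne' (by linear_combination e)⟩
      refine ⟨0 + τ * γ - τ ^ 2 * α, by rwa [zero_add], htrans (hR α 0 γ τ) (hgen _ _ _ ?_ ?_)⟩
      · rwa [zero_add]
      · rw [← hq]; ring
    · exact ⟨β, hβ, hgen α β γ hβ hq⟩
  let H : Subgroup Fˣ :=
    { carrier := {d | ∀ β : F, β ≠ 0 → R (P β) (P (β * d))}
      one_mem' := fun β _ => ⟨1, one_mem _, by rw [ap_one, Units.val_one, mul_one]⟩
      mul_mem' := fun {d e} hd he β hβ => by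
        have := htrans (hd β hβ) (he (β * d) (mul_ne_zero hβ d.ne_zero))
        rwa [mul_assoc, ← Units.val_mul] at this
      inv_mem' := fun {d} hd β hβ => by
        have := hsymm (hd (β * (d⁻¹ : Fˣ)) (mul_ne_zero hβ (Units.ne_zero _)))
        rwa [mul_assoc, ← Units.val_mul, inv_mul_cancel, Units.val_one, mul_one] at this }
  have hgenH : ∀ (d : Fˣ) (r : F), (d : F) = 1 - (4 / m) * (r * r) → d ∈ H := by
    intro d r hd
    rw [← inv_inv d]
    refine H.inv_mem fun β hβ => ?_
    obtain ⟨τ, hτ⟩ : ∃ τ : F, τ * β = r := ⟨r / β, div_mul_cancel₀ r hβ⟩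
    obtain ⟨α', hα'⟩ : ∃ α' : F, α' = m / (4 * β) + τ * 0 - τ ^ 2 * β := ⟨_, rfl⟩
    have hα'd : α' = m / (4 * β) * d := by rw [hα', hd, ← hτ]; field_simp; ring
    have hα0 : α' ≠ 0 := hα'd ▸ mul_ne_zero (div_ne_zero hm0 (mul_ne_zero h4 hβ)) d.ne_zero
    have h1 := hL (m / (4 * β)) β 0 τ
    rw [← hα', zero_sub] at h1
    have h3 := hR α' β (-(2 * τ * β)) (-(τ * β) / α')
    have e2 : -(2 * τ * β) - 2 * (-(τ * β) / α') * α' = 0 := by field_simp; ring
    have e1 : β + -(τ * β) / α' * -(2 * τ * β) - (-(τ * β) / α') ^ 2 * α' = β * ((d⁻¹ : Fˣ) : F) := by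
      rw [Units.val_inv_eq_inv_val]
      have hb : m / (4 * β) = α' + τ ^ 2 * β := by rw [hα']; ring
      have hb' : α' = (α' + τ ^ 2 * β) * d := by rw [← hb]; exact hα'd
      have hd0 : (d : F) ≠ 0 := d.ne_zero
      field_simp
      linear_combination -hb'
    have e0 : m / (4 * (β * ((d⁻¹ : Fˣ) : F))) = α' := by
      rw [hα'd, Units.val_inv_eq_inv_val]; field_simp
    rw [e1, e2] at h3
    have := htrans h1 h3
    show R (P β) (P _)
    simp only [P, e0]
    exact this
  obtain ⟨β₁, hβ₁, h1⟩ := hto u hu rfl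
  obtain ⟨β₂, hβ₂, h3⟩ := hto v hv heq.symm
  have hmid := (eq_top_of_values hp5 hcard (div_ne_zero h4 hm0) H hgenH ▸ Subgroup.mem_top
    (Units.mk0 (β₂ / β₁) (div_ne_zero hβ₂ hβ₁)) : _ ∈ H) β₁ hβ₁
  rw [Units.val_mk0, mul_div_cancel₀ _ hβ₁] at hmid
  exact htrans (htrans h1 hmid) (hsymm h3)

end Cfsg.Agent.Orth.Frame
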